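import Cfsg.Agent.Lib.StabAlt5.TwoStab
import Mathlib.Data.Set.Card.Arithmetic
import Cfsg.Agent.Lib.OddOrder.FeitThompson

/-!
Doubly transitive groups of odd degree: involutions with one fixed point.

Blueprint: `blueprint/S3400.md`, section 2 (MID, RANK, isolated).
-/

set_option autoImplicit false
set_option linter.unusedSectionVars false
set_option linter.style.haveILetI false

namespace CfsgLib.StabSimpAb

open MulAction CfsgLib.StabAlt5
open scoped commutatorElement

universe u v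

variable {Y : Type u} [Group Y] {Δ : Type v} [MulAction Y Δ]

theorem inv_of_sq {u : Y} (hu : u * u = 1) : u⁻¹ = u := inv_eq_of_mul_eq_one_left hu

theorem smul_smul_of_sq {u : Y} (hu : u * u = 1) (c : Δ) : u • u • c = c := by
  rw [← mul_smul, hu, one_smul]

/-- An element fixing exactly one point of the set moved by the other fixes it. -/
theorem fix_comm {u v : Y} {c : Δ} (h : u * v = v * u) (hu : u • c = c) : u • v • c = v • c := by
  rw [← mul_smul, h, mul_smul, hu]

/-- The size of a disjoint union. -/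
theorem ncard_biUnion {ι : Type*} {α : Type*} [Finite α] (S : Finset ι) (f : ι → Set α)
    (h : ∀ i ∈ S, ∀ j ∈ S, i ≠ j → Disjoint (f i) (f j)) :
    (⋃ i ∈ S, f i).ncard = ∑ i ∈ S, (f i).ncard := by
  rw [← finsum_mem_coe_finset (fun i => (f i).ncard) S]
  exact Set.Finite.ncard_biUnion S.finite_toSet (fun i _ => Set.toFinite _) fun i hi j hj hij => h i hi j hj hij

/-- The involutions with exactly one fixed point. -/
def OneFix (Δ : Type v) [MulAction Y Δ] (u : Y) : Prop := u * u = 1 ∧ (fixedBy Δ u).ncard = 1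

theorem OneFix.eq_of_fix {u : Y} (h : OneFix Δ u) {c d : Δ} (hc : u • c = c) (hd : u • d = d) : c = d := by
  obtain ⟨e, he⟩ := Set.ncard_eq_one.mp h.2
  have h1 : c ∈ ({e} : Set Δ) := he ▸ hc
  have h2 : d ∈ ({e} : Set Δ) := he ▸ hd
  exact (Set.mem_singleton_iff.mp h1).trans (Set.mem_singleton_iff.mp h2).symm

theorem OneFix.exists_fix {u : Y} (h : OneFix Δ u) : ∃ c : Δ, u • c = c := by
  obtain ⟨e, he⟩ := Set.ncard_eq_one.mp h.2
  exact ⟨e, (he.symm ▸ Set.mem_singleton e : e ∈ fixedBy Δ u)⟩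

theorem OneFix.conj {u : Y} (h : OneFix Δ u) (g : Y) : OneFix Δ (g * u * g⁻¹) :=
  ⟨by rw [conj_mul, h.1, mul_one, mul_inv_cancel], by rw [ncard_fixedBy_conj]; exact h.2⟩

theorem conj_fix {g u : Y} {c : Δ} (hc : u • c = c) : (g * u * g⁻¹) • g • c = g • c := by
  rw [mul_smul, inv_smul_smul, mul_smul, hc]

theorem conj_fix_of_fix {g u : Y} {c : Δ} (hg : g • c = c) (hu : u • c = c) : (g * u * g⁻¹) • c = c := by
  rw [mul_smul, mul_smul, inv_smul_eq_iff.mpr hg.symm, hu, hg]

variable [Finite Y] [Finite Δ]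

/-- A 2-element permuting a set of odd size fixes a point of it. -/
theorem exists_fix_of_two {g : Y} {k : ℕ} (hg : g ^ 2 ^ k = 1) {S : Set Δ} (hS : ∀ c ∈ S, g • c ∈ S)
    (hodd : Odd S.ncard) : ∃ c ∈ S, g • c = c := by
  classical
  haveI : Fintype S := Fintype.ofFinite S
  let σ : Equiv.Perm S :=
    { toFun := fun c => ⟨g • (c : Δ), hS c c.2⟩
      invFun := fun c => ⟨g⁻¹ • (c : Δ), by
        have hn : ∀ n : ℕ, ∀ d ∈ S, g ^ n • d ∈ S := fun n => by
          induction n with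
          | zero => intro d hd; rwa [pow_zero, one_smul]
          | succ n ih => intro d hd; rw [pow_succ, mul_smul]; exact ih _ (hS d hd)
        have e : g⁻¹ = g ^ (2 ^ k - 1) := inv_eq_of_mul_eq_one_right (by
          rw [← pow_succ', Nat.sub_add_cancel Nat.one_le_two_pow, hg])
        rw [e]; exact hn _ _ c.2⟩
      left_inv := fun c => Subtype.ext (inv_smul_smul _ _)
      right_inv := fun c => Subtype.ext (smul_inv_smul _ _) }
  have hpow : ∀ n : ℕ, ∀ c : S, (((σ ^ n) c : S) : Δ) = g ^ n • (c : Δ) := fun n => by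
    induction n with
    | zero => intro c; simp
    | succ n ih => intro c; rw [pow_succ, Equiv.Perm.mul_apply, ih, pow_succ, mul_smul]; rfl
  have hσ : σ ^ 2 ^ k = 1 := Equiv.ext fun c => Subtype.ext (by rw [hpow, hg, one_smul]; rfl)
  haveI : Fact (Nat.Prime 2) := ⟨Nat.prime_two⟩
  obtain ⟨c, hc⟩ : ∃ c : S, σ c = c := by
    refine Equiv.Perm.exists_fixed_point_of_prime (p := 2) ?_ hσ
    rw [← Nat.card_eq_fintype_card, Nat.card_coe_set_eq]
    exact fun h => Nat.not_even_iff_odd.mpr hodd (even_iff_two_dvd.mpr h)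
  exact ⟨c, c.2, congrArg Subtype.val hc⟩

theorem exists_fix_involution {g : Y} (hg : g * g = 1) (hodd : Odd (Nat.card Δ)) : ∃ c : Δ, g • c = c := by
  obtain ⟨c, -, hc⟩ := exists_fix_of_two (Δ := Δ) (k := 1) (g := g) (by rw [pow_one, sq, hg])
    (S := Set.univ) (fun _ _ => trivial) (by rwa [Set.ncard_univ])
  exact ⟨c, hc⟩

theorem odd_fixedBy {g : Y} (hg : g * g = 1) (hodd : Odd (Nat.card Δ)) : Odd (fixedBy Δ g).ncard := by
  classical
  by_contra h
  rw [Nat.not_odd_iff_even] at h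
  have hc : Odd ((fixedBy Δ g)ᶜ : Set Δ).ncard := by
    rw [Nat.odd_iff] at hodd ⊢
    rw [Nat.even_iff] at h
    have := Set.ncard_add_ncard_compl (fixedBy Δ g)
    omega
  obtain ⟨c, hc1, hc2⟩ := exists_fix_of_two (Δ := Δ) (k := 1) (g := g) (by rw [pow_one, sq, hg])
    (S := (fixedBy Δ g)ᶜ) (fun c hc e => hc (by
      have := congrArg (g • ·) (show g • g • c = g • c from e)
      simpa [smul_smul_of_sq hg] using this)) hc
  exact hc1 hc2

/-- MID: if two one-fixed involutions interchanging the same pair share their fixed point, a point is the only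
fixed point of at most one involution. -/
theorem mid (htr : ∀ c d : Δ, ∃ g : Y, g • c = d)
    (hpair : ∀ (u u' : Y) (a c : Δ), OneFix Δ u → OneFix Δ u' → u • a ≠ a → u' • a = u • a → u • c = c →
      u' • c = c) [FaithfulSMul Y Δ]
    {u u' : Y} {c : Δ} (hu : OneFix Δ u) (hu' : OneFix Δ u') (hc : u • c = c) (hc' : u' • c = c) : u = u' := by
  classical
  haveI := Fintype.ofFinite Δ
  set Z : Δ → Set Y := fun d => {x | OneFix Δ x ∧ x • d = d} with hZ
  set ν := (Z c).ncard with hν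
  have hconst : ∀ d, (Z d).ncard = ν := by
    intro d
    obtain ⟨g, hg⟩ := htr c d
    symm
    refine Set.ncard_congr (fun x _ => g * x * g⁻¹) (fun x hx => ⟨hx.1.conj g, ?_⟩)
      (fun x y _ _ e => mul_left_cancel (mul_right_cancel e)) (fun y hy => ⟨g⁻¹ * y * g, ⟨?_, ?_⟩, by group⟩)
    · rw [← hg]; exact conj_fix hx.2
    · simpa using hy.1.conj g⁻¹
    · rw [mul_smul, mul_smul, hg, hy.2, ← hg, inv_smul_smul]
  set A : Set Y := {x | OneFix Δ x} with hA
  have hpick : ∀ x ∈ A, ∃ d : Δ, x • d = d := fun x hx => hx.exists_fix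
  have hA' : A.ncard = Nat.card Δ * ν := by
    have e : A = ⋃ d ∈ (Finset.univ : Finset Δ), Z d := by
      ext x
      simp only [Finset.mem_univ, Set.iUnion_true, Set.mem_iUnion]
      exact ⟨fun hx => (hpick x hx).imp fun d hd => ⟨hx, hd⟩, fun ⟨_, hx⟩ => hx.1⟩
    rw [e, ncard_biUnion _ _ (fun d _ d' _ hdd => ?_),
      Finset.sum_congr rfl fun d _ => hconst d, Finset.sum_const, smul_eq_mul, Finset.card_univ,
      Nat.card_eq_fintype_card]
    exact Set.disjoint_left.mpr fun x h1 h2 => hdd (h1.1.eq_of_fix h1.2 h2.2)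
  -- every one-fixed involution interchanging `a, b` fixes the same point
  have key : ∀ a : Δ, ∀ b : Δ, b ≠ a → ∀ x : Y, x ∈ A → x • a = b → ∀ y : Y, OneFix Δ y → ∀ d : Δ, x • d = d → y • d = d →
      y • a = b := by
    intro a
    set S : Δ → Set Y := fun b => {x | OneFix Δ x ∧ x • a = b} with hS
    have hle : ∀ b ∈ Finset.univ.erase a, (S b).ncard ≤ ν := by
      intro b hb
      rcases Set.eq_empty_or_nonempty (S b) with e | ⟨x, hx, hxa⟩
      · simp [e]
      obtain ⟨d, hd⟩ := hx.exists_fix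
      rw [← hconst d]
      exact Set.ncard_le_ncard fun y hy =>
        ⟨hy.1, hpair x y a d hx hy.1 (hxa ▸ Finset.ne_of_mem_erase hb) (hy.2.trans hxa.symm) hd⟩
    have hsum : ∑ b ∈ Finset.univ.erase a, (S b).ncard = (Finset.univ.erase a).card * ν := by
      rw [← ncard_biUnion _ _ (fun d _ d' _ hdd => ?_)]
      · have e : (⋃ b ∈ Finset.univ.erase a, S b) = A \ Z a := by
          ext x
          simp only [Finset.mem_erase, Finset.mem_univ, and_true, Set.mem_iUnion, Set.mem_sdiff, hS, hZ, hA,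
            Set.mem_setOf_eq, exists_prop]
          exact ⟨fun ⟨b, hb, hx, hxa⟩ => ⟨hx, fun h => hb (hxa.symm.trans h.2)⟩,
            fun ⟨hx, h⟩ => ⟨_, fun e => h ⟨hx, e⟩, hx, rfl⟩⟩
        rw [e, Set.ncard_sdiff (fun x hx => hx.1), hA', hconst, Finset.card_erase_of_mem (Finset.mem_univ a),
          Finset.card_univ, Nat.card_eq_fintype_card, Nat.sub_one_mul]
      · exact Set.disjoint_left.mpr fun x h1 h2 => hdd (h1.2.symm.trans h2.2)
    rw [← smul_eq_mul, ← Finset.sum_const] at hsum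
    have heq := (Finset.sum_eq_sum_iff_of_le hle).mp hsum
    intro b hb x hx hxa y hy d hxd hyd
    have hb' : b ∈ Finset.univ.erase a := Finset.mem_erase.mpr ⟨hb, Finset.mem_univ _⟩
    have hsub : S b ⊆ Z d := fun z hz =>
      ⟨hz.1, hpair x z a d hx hz.1 (hxa ▸ hb) (hz.2.trans hxa.symm) hxd⟩
    have he : S b = Z d := Set.eq_of_subset_of_ncard_le hsub (by rw [hconst, heq b hb'])
    exact (he.symm ▸ (⟨hy, hyd⟩ : y ∈ Z d) : y ∈ S b).2
  refine eq_of_smul_eq_smul (α := Δ) fun a => ?_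
  by_cases h : u • a = a
  · rw [h, hu.eq_of_fix h hc, hc']
  · exact (key a (u • a) h u hu rfl u' hu' c hc hc').symm

/-- A unique one-fixed involution commutes with the stabiliser of its point. -/
theorem comm_of_unique {c : Δ} (huniq : ∀ x y : Y, OneFix Δ x → OneFix Δ y → x • c = c → y • c = c → x = y)
    {u g : Y} (hu : OneFix Δ u) (hc : u • c = c) (hg : g • c = c) : g * u = u * g :=
  mul_inv_eq_iff_eq_mul.mp (huniq _ _ (hu.conj g) hu (conj_fix_of_fix hg hc) hc)

/-- No non-identity element fixes two points, odd degree: one involution at each point. -/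
theorem sharp_unique [FaithfulSMul Y Δ] (htr : ∀ c d : Δ, ∃ g : Y, g • c = d)
    (hsharp : ∀ (g : Y) (c d : Δ), c ≠ d → g • c = c → g • d = d → g = 1) {x y : Y} {c : Δ}
    (hx : x * x = 1) (hx1 : x ≠ 1) (hy : y * y = 1) (hy1 : y ≠ 1) (hc : x • c = c) (hc' : y • c = c) : x = y := by
  have hone : ∀ z : Y, z * z = 1 → z ≠ 1 → z • c = c → OneFix Δ z := fun z hz hz1 hzc =>
    ⟨hz, Set.ncard_eq_one.mpr ⟨c, Set.eq_singleton_iff_unique_mem.mpr ⟨hzc, fun d hd => by
      by_contra hdc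
      exact hz1 (hsharp z d c hdc hd hzc)⟩⟩⟩
  refine mid htr (fun u u' a d hu hu' hua he hud => ?_) (hone x hx hx1 hc) (hone y hy hy1 hc') hc hc'
  suffices h : u' * u = 1 by rwa [eq_inv_of_mul_eq_one_left h, inv_of_sq hu.1]
  refine hsharp _ a (u • a) (Ne.symm hua) ?_ ?_
  · rw [mul_smul, ← he, smul_smul_of_sq hu'.1]
  · rw [mul_smul, smul_smul_of_sq hu.1, he]

/-- RANK: an involution fixing two points, with self-centralised two-point stabilisers, is centralised at each of
its fixed points by at most one other involution, up to a factor `v`. -/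
theorem rank [FaithfulSMul Y Δ] {v : Y}
    (htrans : ∀ c d : Δ, v • c = c → v • d = d → ∃ g : Y, g * v = v * g ∧ g • c = d)
    (hpt : ∀ (g : Y) (c d : Δ), g * v = v * g → c ≠ d → g • c = c → g • d = d → v • c = c → v • d = d →
      g = 1 ∨ g = v)
    {e f : Y} {c : Δ} (he : e * e = 1) (hf : f * f = 1) (hev : e * v = v * e)
    (hfv : f * v = v * f) (hc : v • c = c) (hec : e • c = c) (hfc : f • c = c)
    (hk : 2 ≤ (fixedBy Δ v).ncard) (he1 : e ≠ 1) (hev' : e ≠ v) (hf1 : f ≠ 1) (hfv' : f ≠ v) :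
    e = f ∨ e = v * f := by
  classical
  set C := Subgroup.centralizer ({v} : Set Y) with hC
  letI : MulAction C (fixedBy Δ v) :=
    { smul := fun g d => ⟨(g : Y) • (d : Δ),
        fix_comm (Subgroup.mem_centralizer_singleton_iff.mp g.2).symm d.2⟩
      one_smul := fun d => Subtype.ext (one_smul Y (d : Δ))
      mul_smul := fun g h d => Subtype.ext (mul_smul (g : Y) (h : Y) (d : Δ)) }
  set R : Subgroup (Equiv.Perm (fixedBy Δ v)) := (MulAction.toPermHom C (fixedBy Δ v)).range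
  let π : C →* R := (MulAction.toPermHom C (fixedBy Δ v)).rangeRestrict
  have hπ : ∀ (g : C) (d : fixedBy Δ v), ((π g • d : fixedBy Δ v) : Δ) = (g : Y) • (d : Δ) := fun _ _ => rfl
  have hπ1 : ∀ g : C, π g = 1 → (g : Y) = 1 ∨ (g : Y) = v := by
    intro g hg
    obtain ⟨p, hp, r, hr, hpr⟩ := (Set.one_lt_ncard_iff (Set.toFinite _)).mp hk |>.imp
      fun p h => (⟨h.choose_spec.1, h.choose, h.choose_spec.2.1, h.choose_spec.2.2⟩ :
        p ∈ fixedBy Δ v ∧ ∃ r, r ∈ fixedBy Δ v ∧ p ≠ r)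
    have e1 := hπ g ⟨p, hp⟩
    have e2 := hπ g ⟨r, hr⟩
    rw [hg, one_smul] at e1 e2
    exact hpt g p r (Subgroup.mem_centralizer_singleton_iff.mp g.2) hpr e1.symm e2.symm hp hr
  have hsharp : ∀ (g : R) (p r : fixedBy Δ v), p ≠ r → g • p = p → g • r = r → g = 1 := by
    intro g p r hpr hp hr
    obtain ⟨g, rfl⟩ := MonoidHom.rangeRestrict_surjective (MulAction.toPermHom C (fixedBy Δ v)) g
    rcases hpt g p r (Subgroup.mem_centralizer_singleton_iff.mp g.2) (fun e => hpr (Subtype.ext e))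
      (congrArg Subtype.val hp) (congrArg Subtype.val hr) p.2 r.2 with h | h
    · exact (congrArg π (Subtype.ext h : g = 1)).trans (map_one π)
    · refine Subtype.ext (Equiv.ext fun d => Subtype.ext ?_)
      show (g : Y) • (d : Δ) = d
      rw [h]; exact d.2
  have htr : ∀ p r : fixedBy Δ v, ∃ g : R, g • p = r := fun p r => by
    obtain ⟨g, hg, hgc⟩ := htrans p r p.2 r.2
    exact ⟨π ⟨g, Subgroup.mem_centralizer_singleton_iff.mpr hg⟩, Subtype.ext hgc⟩
  have hinv : ∀ (x : Y) (hx : x * v = v * x), x * x = 1 → x ≠ 1 → x ≠ v →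
      π ⟨x, Subgroup.mem_centralizer_singleton_iff.mpr hx⟩ ≠ 1 ∧
        π ⟨x, Subgroup.mem_centralizer_singleton_iff.mpr hx⟩ *
          π ⟨x, Subgroup.mem_centralizer_singleton_iff.mpr hx⟩ = 1 := fun x hx hx2 hx1 hxv =>
    ⟨fun h => (hπ1 _ h).elim hx1 hxv, by
      rw [← map_mul, ← map_one π]
      exact congrArg π (Subtype.ext hx2)⟩
  obtain ⟨a1, a2⟩ := hinv e hev he he1 hev'
  obtain ⟨b1, b2⟩ := hinv f hfv hf hf1 hfv'
  have heq := sharp_unique htr hsharp a2 a1 b2 b1 (c := ⟨c, hc⟩) (Subtype.ext hec) (Subtype.ext hfc)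
  rcases hπ1 (⟨e, Subgroup.mem_centralizer_singleton_iff.mpr hev⟩ *
      (⟨f, Subgroup.mem_centralizer_singleton_iff.mpr hfv⟩)⁻¹) (by rw [map_mul, map_inv, heq, mul_inv_cancel]) with h | h
  · exact Or.inl (mul_inv_eq_one.mp h)
  · exact Or.inr (mul_inv_eq_iff_eq_mul.mp h)

/-- An abelian transitive normal subgroup of a faithful action is regular. -/
theorem regular_of_abelian [FaithfulSMul Y Δ] {N : Subgroup Y} (hcomm : ∀ x ∈ N, ∀ y ∈ N, x * y = y * x)
    (htr : ∀ c d : Δ, ∃ x ∈ N, x • c = d) {x : Y} (hx : x ∈ N) {c : Δ} (hc : x • c = c) : x = 1 := by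
  refine eq_of_smul_eq_smul (α := Δ) fun d => ?_
  obtain ⟨y, hy, rfl⟩ := htr c d
  rw [one_smul]
  exact fix_comm (hcomm x hx y hy) hc

/-- A doubly transitive group with a non-trivial normal subgroup of odd order has a regular normal abelian
subgroup. -/
theorem regular_of_odd [FaithfulSMul Y Δ] (h2 : TwoTrans Y Δ) (O : Subgroup Y) [O.Normal]
    (hodd : Odd (Nat.card O)) (hne : O ≠ ⊥) :
    ∃ P : Subgroup Y, P.Normal ∧ Odd (Nat.card P) ∧ (∀ x ∈ P, ∀ y ∈ P, x * y = y * x) ∧
      (∀ c d : Δ, ∃ x ∈ P, x • c = d) ∧ ∀ x ∈ P, ∀ c : Δ, x • c = c → x = 1 := by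
  classical
  have hex : ∃ n, ∃ M : Subgroup Y, M.Normal ∧ M ≤ O ∧ M ≠ ⊥ ∧ Nat.card M = n :=
    ⟨_, O, inferInstance, le_rfl, hne, rfl⟩
  obtain ⟨N, hNn, hNO, hNb, hNc⟩ := Nat.find_spec hex
  haveI := hNn
  have hNodd : Odd (Nat.card N) := hodd.of_dvd_nat (Subgroup.card_dvd_of_le hNO)
  haveI : Group.IsSolvable N := CfsgLib.OddOrder.feitThompson hNodd
  haveI : Nontrivial N := (Subgroup.nontrivial_iff_ne_bot N).mpr hNb
  set D := (commutator N).map N.subtype with hD
  have hDN : D ≤ N := Subgroup.map_subtype_le _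
  have hDn : D.Normal := by
    rw [hD, Subgroup.map_subtype_commutator]
    exact Subgroup.commutator_normal N N
  have hcomm : ∀ x ∈ N, ∀ y ∈ N, x * y = y * x := by
    have hDb : D = ⊥ := by
      by_contra hDb
      have hle := Nat.find_min' hex ⟨D, hDn, hDN.trans hNO, hDb, rfl⟩
      rw [← hNc] at hle
      have he : D = N := Subgroup.eq_of_le_of_card_ge hDN hle
      have htop : commutator N = ⊤ := Subgroup.map_injective N.subtype_injective
        (by rw [← hD, he, ← MonoidHom.range_eq_map, Subgroup.range_subtype])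
      exact (Group.IsSolvable.commutator_lt_top_of_nontrivial N).ne htop
    intro x hx y hy
    have h1 : ⁅x, y⁆ ∈ D := by
      rw [hD, Subgroup.map_subtype_commutator]
      exact Subgroup.commutator_mem_commutator hx hy
    rw [hDb, Subgroup.mem_bot] at h1
    exact commutatorElement_eq_one_iff_mul_comm.mp h1
  have hprim : IsPreprimitive Y Δ := isPreprimitive_of_is_two_pretransitive
    (is_two_pretransitive_iff.mpr fun hab hcd => h2 _ _ _ _ hab hcd)
  have hfne : fixedPoints N Δ ≠ Set.univ := fun h => hNb ((Subgroup.eq_bot_iff_forall _).mpr fun n hn =>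
    eq_of_smul_eq_smul (α := Δ) fun c => by
      rw [one_smul]; exact (h ▸ Set.mem_univ c : c ∈ fixedPoints N Δ) ⟨n, hn⟩)
  haveI := IsQuasiPreprimitive.isPretransitive_of_normal (G := Y) hfne
  have htr : ∀ c d : Δ, ∃ x ∈ N, x • c = d := fun c d => by
    obtain ⟨x, hx⟩ := exists_smul_eq N c d
    exact ⟨x, x.2, hx⟩
  exact ⟨N, hNn, hNodd, hcomm, htr, fun x hx c hc => regular_of_abelian hcomm htr hx hc⟩

/-- An involution whose conjugates fix at most one point, alone in its class on one pair: regular normal subgroup. -/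
theorem regular_of_isolated [FaithfulSMul Y Δ] (h2 : TwoTrans Y Δ) {a b : Δ} (hab : a ≠ b)
    (hodd : Odd (Nat.card Δ)) {z : Y} (hz2 : z * z = 1) (hza : z • a = b) (hzb : z • b = a)
    (hno : ∀ x g : Y, g * z * g⁻¹ = x → ∀ c d : Δ, c ≠ d → x • c = c → x • d = d → False)
    (huniq : ∀ x g : Y, g * z * g⁻¹ = x → x • a = b → x • b = a → x = z) :
    ∃ P : Subgroup Y, P.Normal ∧ Odd (Nat.card P) ∧ (∀ x ∈ P, ∀ y ∈ P, x * y = y * x) ∧
      (∀ c d : Δ, ∃ x ∈ P, x • c = d) ∧ ∀ x ∈ P, ∀ c : Δ, x • c = c → x = 1 := by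
  obtain ⟨O, hOn, hOodd, hOtr⟩ := exists_odd_transitive h2 hab hodd hz2 hza hzb hno huniq
  haveI := hOn
  refine regular_of_odd h2 O hOodd fun e => ?_
  obtain ⟨x, hx, hxa⟩ := hOtr a b
  rw [e, Subgroup.mem_bot] at hx
  exact hab (by rw [← hxa, hx, one_smul])

end CfsgLib.StabSimpAb
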