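import Cfsg.Agent.Lib.StabSimpAb.OddO

/-!
Odd degree, a swapper conjugate to `t`, Janko–Ree type: the centraliser of `t` on its fixed points has a four group.

Blueprint: `blueprint/S3400.md`, section 2 (DIRECT, JR).
-/

set_option autoImplicit false
set_option linter.unusedSectionVars false
set_option linter.style.haveILetI false

namespace CfsgLib.StabSimpAb

open MulAction CfsgLib.StabAlt5

universe u v

local notation "PSL₂[" F "]" => Matrix.ProjectiveSpecialLinearGroup (Fin 2) F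

variable {G : Type u} [Group G] [Finite G] {Ω : Type v} [Finite Ω] [MulAction G Ω] [FaithfulSMul G Ω]
variable {a b : Ω} {T : Subgroup G}

/-- Odd degree, swapper conjugate to `t`, Janko–Ree type: impossible. -/
theorem Central.false_of_jr {t z : G} (D : Central t z a b T) (hJ : WalterAb.IsJR ↥(stab2 G a b)) : False := by
  classical
  have C := D.cx
  have I := D.inv
  have Z := D.swap
  set tH : ↥(stab2 G a b) := ⟨t, I.mem⟩ with htH
  have hto : orderOf tH = 2 := orderOf_eq_prime (Subtype.ext (by show t ^ 2 = 1; rw [pow_two]; exact I.sq))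
    fun e => I.ne_one (congrArg Subtype.val e)
  obtain ⟨c⟩ := hJ.co hto
  haveI := c.psl_simple
  set S := fixedBy Ω t
  have hS := inv_fixedBy (Ω := Ω) t
  set Cc := Subgroup.centralizer ({t} : Set G)
  let ι' : PSL₂[c.F] →* ↥Cc :=
    ((stab2 G a b).subtype.comp c.ι).codRestrict Cc fun x => Subgroup.mem_centralizer_singleton_iff.mpr
      (congrArg Subtype.val (c.ι_comm x))
  let j : PSL₂[c.F] →* ↥(Img hS) := (toImg hS).comp ι'
  have himg : ∀ g : ↥Cc, (g : G) ∈ stab2 G a b → ∃ x, j x = toImg hS g := by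
    intro g hg
    obtain ⟨x, h | h⟩ := c.decomp' (g := (⟨g, hg⟩ : ↥(stab2 G a b)))
      (Subtype.ext (Subgroup.mem_centralizer_singleton_iff.mp g.2))
    · exact ⟨x, congrArg (toImg hS) (Subtype.ext (congrArg Subtype.val h).symm)⟩
    · refine ⟨x, (toImg_eq hS).mpr fun d hd => ?_⟩
      show ((c.ι x : ↥(stab2 G a b)) : G) • d = (g : G) • d
      have hgv : (g : G) = t * ((c.ι x : ↥(stab2 G a b)) : G) := congrArg Subtype.val h
      rw [hgv, mul_smul]
      exact (fix_comm (show t * ((c.ι x : ↥(stab2 G a b)) : G) = (c.ι x : ↥(stab2 G a b)) * t from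
        (congrArg Subtype.val (c.ι_comm x)).symm) hd).symm
  have hjinj : Function.Injective j := by
    refine (MonoidHom.ker_eq_bot_iff j).mp ((IsSimpleGroup.eq_bot_or_eq_top_of_normal j.ker
      (MonoidHom.normal_ker j)).resolve_right fun htop => ?_)
    obtain ⟨v, hv, d, hd, hne⟩ := D.not_trivial
    obtain ⟨x, hx⟩ := himg ⟨v, Subgroup.mem_centralizer_singleton_iff.mpr (C.kit.comm hv D.memT)⟩ (C.kit.le hv)
    have h1 : j x = 1 := MonoidHom.mem_ker.mp (htop ▸ Subgroup.mem_top x)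
    rw [h1] at hx
    exact hne ((toImg_eq_one hS).mp hx.symm d hd)
  let A : ↥S := ⟨a, I.mem.1⟩
  let B : ↥S := ⟨b, I.mem.2⟩
  have hAB : A ≠ B := fun e => C.ne (congrArg Subtype.val e)
  have hR : j.range = stab2 ↥(Img hS) A B := by
    ext y
    constructor
    · rintro ⟨x, rfl⟩
      exact ⟨(toImg_fix hS).mpr (c.ι x).2.1, (toImg_fix hS).mpr (c.ι x).2.2⟩
    · rintro ⟨hA, hB⟩
      obtain ⟨g, rfl⟩ := toImg_surj hS y
      exact himg g ⟨(toImg_fix hS).mp hA, (toImg_fix hS).mp hB⟩
  set R := j.range with hRdef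
  have e : PSL₂[c.F] ≃* R := MonoidHom.ofInjective hjinj
  haveI : Nontrivial R := e.symm.toEquiv.nontrivial
  have hsR : IsSimpleGroup R := IsSimpleGroup.isSimpleGroup_of_surjective e.toMonoidHom e.surjective
  haveI := hsR
  have hnaR : ¬ IsMulCommutative R := fun h => c.psl_nonabelian
    ⟨⟨fun x y => e.injective (by rw [map_mul, map_mul]; exact h.is_comm.comm _ _)⟩⟩
  have hlist : WalterAb.Listed R := Or.inl ⟨c.F, inferInstance, inferInstance, Or.inl ⟨c.hq, c.h5⟩, ⟨e.symm⟩⟩
  haveI : Fact (Nat.Prime 2) := ⟨Nat.prime_two⟩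
  have K := kit_of_good hsR hnaR (hlist.good default)
  set T' := ((default : Sylow 2 R) : Subgroup R).map R.subtype
  have h4 : Nat.card T' = 4 := by
    have h1 := K.four
    obtain ⟨i, hi⟩ := IsPGroup.iff_card.mp K.isPGroup
    by_contra hne
    rw [hi] at h1 hne
    have hi3 : 3 ≤ i := by
      rcases i with - | - | - | i <;> simp_all
    have h8 : 8 ∣ Nat.card R := ((show (8 : ℕ) = 2 ^ 3 by norm_num) ▸ pow_dvd_pow 2 hi3).trans
      (hi ▸ Subgroup.card_dvd_of_le K.le)
    rw [← Nat.card_congr e.toEquiv] at h8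
    have h16 : 16 ∣ Fintype.card c.F * (Fintype.card c.F ^ 2 - 1) := by
      have hp := DicksonFull.card_psl (F := c.F)
      rw [show Nat.gcd 2 (Fintype.card c.F - 1) = 2 from Nat.gcd_eq_left (by have := c.hq; omega)] at hp
      rw [← hp]
      obtain ⟨w, hw⟩ := h8
      exact ⟨w, by rw [hw]; ring⟩
    set q := Fintype.card c.F
    have h5 := c.h5
    have e1 : q ^ 2 % 16 = (q % 16) ^ 2 % 16 := Nat.pow_mod q 2 16
    have h1' : 1 ≤ q ^ 2 := Nat.one_le_pow _ _ (by omega)
    have hq16 : q % 16 = 3 ∨ q % 16 = 5 ∨ q % 16 = 11 ∨ q % 16 = 13 := by have := c.hq; omega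
    rw [Nat.dvd_iff_mod_eq_zero, Nat.mul_mod] at h16
    rcases hq16 with h' | h' | h' | h' <;> rw [h'] at e1 h16 <;> norm_num at e1 <;>
      rw [show (q ^ 2 - 1) % 16 = 8 by omega] at h16 <;> norm_num at h16
  have C' : Cx A B T' :=
    { two := img_two hS I.mem.1 I.mem.2 fun c d hc hd hcd => C.cent_trans I hc hd hcd
      ne := hAB
      kit := hR ▸ K }
  obtain ⟨t', ht', t'1⟩ := T'.bot_or_exists_ne_one.resolve_left fun e => by
    rw [e, Subgroup.card_bot] at h4
    omega
  have hzC : z ∈ Cc := Subgroup.mem_centralizer_singleton_iff.mpr (Z.comm t I.mem)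
  set zb := toImg hS ⟨z, hzC⟩
  have hz2 : zb * zb = 1 := toImg_sq hS fun d _ => by show (z * z) • d = d; rw [Z.sq, one_smul]
  have Z' : Swap zb A B :=
    { sq := hz2
      za := Subtype.ext Z.za
      zb := Subtype.ext Z.zb
      comm := fun h hh => by
        rw [← hR] at hh
        obtain ⟨x, rfl⟩ := hh
        show toImg hS ⟨z, hzC⟩ * toImg hS (ι' x) = toImg hS (ι' x) * toImg hS ⟨z, hzC⟩
        rw [← map_mul, ← map_mul]
        exact congrArg _ (Subtype.ext (Z.comm _ (c.ι x).2)) }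
  obtain ⟨p, r, hp, hr, hpr⟩ := (Set.one_lt_ncard_iff (Set.toFinite _)).mp (D.share I.mem I.sq I.ne_one)
  have hcls : zb ∈ StabSimpAb.cls t' := C'.mem_cls (C'.inv2_of_mem ht' t'1) (c := ⟨p, hp.2⟩) (d := ⟨r, hr.2⟩)
    (fun e => hpr (congrArg Subtype.val e)) (Subtype.ext hp.1) (Subtype.ext hr.1) hz2
    fun e => Z'.not_mem hAB (e ▸ one_mem _)
  have D' : Central t' zb A B T' :=
    { cx := C'
      odd := by rw [Nat.card_coe_set_eq]; exact odd_fixedBy I.sq D.odd
      swap := Z'
      memT := ht'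
      ne_one := t'1
      cls := hcls }
  exact D'.false_of_four h4

end CfsgLib.StabSimpAb
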