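import Cfsg.Agent.Lib.StabSimpAb.OddE
import Cfsg.Agent.Lib.StabSimpAb.OddJR

/-!
Odd degree with a central swapper: a regular normal subgroup.
-/

set_option autoImplicit false
set_option linter.unusedSectionVars false

namespace CfsgLib.StabSimpAb

open MulAction CfsgLib.StabAlt5

universe u v

variable {G : Type u} [Group G] [Finite G] {Ω : Type v} [Finite Ω] [MulAction G Ω] [FaithfulSMul G Ω]
variable {a b : Ω} {T : Subgroup G}

/-- Odd degree with a central swapper: regular normal subgroup. -/
theorem Cx.direct (C : Cx a b T) (hodd : Odd (Nat.card Ω)) {z : G} (Z : Swap z a b)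
    (hkind : KitE (stab2 G a b) T ∨ Nat.card T = 4 ∨ WalterAb.IsJR ↥(stab2 G a b)) :
    ∃ P : Subgroup G, P.Normal ∧ (∀ c d : Ω, ∃ x ∈ P, x • c = d) ∧ ∀ x ∈ P, ∀ c : Ω, x • c = c → x = 1 := by
  obtain ⟨t, ht, I⟩ := C.exists_inv
  have hfalse : z ∈ cls t → False := fun hzc => by
    have D : Central t z a b T := ⟨C, hodd, Z, ht, I.ne_one, hzc⟩
    rcases hkind with K | h4 | hJ
    · exact D.false_of_even K
    · exact D.false_of_four h4
    · exact D.false_of_jr hJ
  rcases C.swap_cases I Z with h | ⟨hz, hzt, -⟩ | h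
  · exact (hfalse h.1).elim
  · obtain ⟨P, hP, -, -, htr, hreg⟩ := regular_of_isolated C.two C.ne hodd Z.sq Z.za Z.zb (fun x g hg c d hcd hc hd => by
      have hx2 : x * x = 1 := by rw [← hg, conj_mul, Z.sq, mul_one, mul_inv_cancel]
      have hx1 : x ≠ 1 := fun e => Z.not_mem C.ne (by
        rw [e, conj_eq_one_iff] at hg
        rw [hg]; exact one_mem _)
      obtain ⟨k, hk⟩ := C.mem_cls I hcd hc hd hx2 hx1
      exact hz ⟨g⁻¹ * k, by
        rw [show g⁻¹ * k * t * (g⁻¹ * k)⁻¹ = g⁻¹ * (k * t * k⁻¹) * g by group, hk, ← hg]; group⟩)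
      fun x g hg hxa hxb => by
        have hx2 : x * x = 1 := by rw [← hg, conj_mul, Z.sq, mul_one, mul_inv_cancel]
        by_contra hne
        have hm := swap_mul_mem Z.za Z.zb hxa hxb
        have hzx : z * x = x * z := by
          have h1 := Z.comm _ hm
          rw [← mul_assoc, Z.sq, one_mul] at h1
          calc z * x = z * (z * x * z) := by rw [← h1]
            _ = z * z * (x * z) := by group
            _ = x * z := by rw [Z.sq, one_mul]
        have h1 : z * x ≠ 1 := fun e => hne (by
          calc x = z * z * x := by rw [Z.sq, one_mul]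
            _ = z := by rw [mul_assoc, e, mul_one])
        have h2 : z * x * (z * x) = 1 := by
          calc z * x * (z * x) = z * (x * z) * x := by group
            _ = z * (z * x) * x := by rw [hzx]
            _ = z * z * (x * x) := by group
            _ = 1 := by rw [Z.sq, hx2, one_mul]
        obtain ⟨h, hh, he⟩ := C.kit.conj_all I.mem hm I.sq I.ne_one h2 h1
        have hxc : x ∈ cls t := by
          have e : h * (z * t) * h⁻¹ = x := by
            rw [show h * (z * t) * h⁻¹ = h * z * t * h⁻¹ by group, ← Z.comm h hh,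
              show z * h * t * h⁻¹ = z * (h * t * h⁻¹) by group, he, ← mul_assoc, Z.sq, one_mul]
          exact e ▸ cls_conj t h hzt
        obtain ⟨k, hk⟩ := hxc
        exact hz ⟨g⁻¹ * k, by
          rw [show g⁻¹ * k * t * (g⁻¹ * k)⁻¹ = g⁻¹ * (k * t * k⁻¹) * g by group, hk, ← hg]; group⟩
    exact ⟨P, hP, htr, hreg⟩
  · exact (hfalse h.1).elim

end CfsgLib.StabSimpAb
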