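import Cfsg.Agent.Lib.StabSimpAb.Image
import Cfsg.Agent.Lib.StabAlt5.Double

/-!
Doubly transitive groups whose two-point stabiliser has odd order.
-/

set_option autoImplicit false
set_option linter.unusedSectionVars false
set_option linter.style.haveILetI false

namespace CfsgLib.StabSimpAb

open MulAction CfsgLib.StabAlt5

universe u v

variable {X : Type u} [Group X] [Finite X] {Δ : Type v} [Finite Δ] [MulAction X Δ] [FaithfulSMul X Δ]
variable {a b : Δ}

theorem one_of_sq_odd {D : Subgroup X} (hD : Odd (Nat.card D)) {x : X} (hx : x ∈ D) (x2 : x * x = 1) : x = 1 := by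
  by_contra h
  have h1 : orderOf x ∣ Nat.card D := Subgroup.orderOf_coe (⟨x, hx⟩ : D) ▸ orderOf_dvd_natCard _
  rw [orderOf_eq_prime (by rw [pow_two]; exact x2) h] at h1
  exact Nat.not_even_iff_odd.mpr hD (even_iff_two_dvd.mpr h1)

/-- An involution fixes at most one point. -/
theorem fix_le_one (h2 : TwoTrans X Δ) (hab : a ≠ b) (hD : Odd (Nat.card ↥(stabilizer X a ⊓ stabilizer X b)))
    {x : X} {c d : Δ} (x2 : x * x = 1) (hcd : c ≠ d) (hc : x • c = c) (hd : x • d = d) : x = 1 := by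
  obtain ⟨g, hgc, hgd⟩ := h2 c d a b hcd hab
  exact conj_eq_one_iff.mp (one_of_sq_odd hD (x := g * x * g⁻¹)
    ⟨mem_stabilizer_iff.mpr (hgc ▸ conj_fix hc), mem_stabilizer_iff.mpr (hgd ▸ conj_fix hd)⟩
    (by rw [conj_mul, x2, mul_one, mul_inv_cancel]))

/-- An involution swaps some pair. -/
theorem exists_involution_swap (h2 : TwoTrans X Δ) (hab : a ≠ b)
    (hD : Odd (Nat.card ↥(stabilizer X a ⊓ stabilizer X b))) :
    ∃ u : X, u * u = 1 ∧ u • a = b ∧ u • b = a := by
  obtain ⟨g, hga, hgb⟩ := h2 a b b a hab hab.symm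
  obtain ⟨j, hj⟩ := hD
  set D := stabilizer X a ⊓ stabilizer X b
  have hgg : g * g ∈ D := ⟨mem_stabilizer_iff.mpr (by rw [mul_smul, hga, hgb]),
    mem_stabilizer_iff.mpr (by rw [mul_smul, hgb, hga])⟩
  have hpow : (g * g) ^ (2 * j + 1) = 1 := by
    have h := pow_card_eq_one' (x := (⟨_, hgg⟩ : D))
    rw [hj] at h
    exact congrArg Subtype.val h
  have he : g ^ (2 * j + 1) = (g * g) ^ j * g := by rw [← sq, ← pow_mul, pow_succ]
  refine ⟨g ^ (2 * j + 1), ?_, ?_, ?_⟩
  · rw [← pow_add, ← two_mul, pow_mul, sq]; exact hpow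
  · rw [he, mul_smul, hga]; exact (pow_mem hgg j).2
  · rw [he, mul_smul, hgb]; exact (pow_mem hgg j).1

/-- Even degree two or divisible by four. -/
theorem two_or_four (h2 : TwoTrans X Δ) (hab : a ≠ b) (hD : Odd (Nat.card ↥(stabilizer X a ⊓ stabilizer X b)))
    (hev : Even (Nat.card Δ)) : Nat.card Δ = 2 ∨ 4 ∣ Nat.card Δ := by
  classical
  by_contra hno
  push Not at hno
  haveI := Fintype.ofFinite Δ
  obtain ⟨u, u2, hua, hub⟩ := exists_involution_swap h2 hab hD
  have hu1 : u ≠ 1 := fun e => hab (by rw [← hua, e, one_smul])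
  have hfix0 : Fintype.card (Function.fixedPoints (toPerm u : Equiv.Perm Δ)) = 0 := by
    have hle : (fixedBy Δ u).ncard ≤ 1 := (Set.ncard_le_one_iff).mpr fun {c d} hc hd => by
      by_contra hcd
      exact hu1 (fix_le_one h2 hab hD u2 hcd hc hd)
    have hp := fix_parity (Δ := Δ) u2
    have hle' : (fixedBy Δ u).ncard ≤ Nat.card Δ := by
      rw [← Set.ncard_univ]; exact Set.ncard_le_ncard (Set.subset_univ _)
    have h0 : (fixedBy Δ u).ncard = 0 := by
      rw [Nat.even_iff] at hev hp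
      omega
    rw [← Nat.card_eq_fintype_card, Nat.card_coe_set_eq]
    exact h0
  let f : X →* ℤˣ := Equiv.Perm.sign.comp (MulAction.toPermHom X Δ)
  have hfu : f u = -1 := by
    show Equiv.Perm.sign (toPerm u : Equiv.Perm Δ) = -1
    rw [Equiv.Perm.sign_of_pow_two_eq_one (by
      rw [pow_two]
      exact Equiv.ext fun c => show u • u • c = c by rw [← mul_smul, u2, one_smul]), hfix0, Nat.sub_zero,
      ← Nat.card_eq_fintype_card]
    refine Odd.neg_one_pow (Nat.odd_iff.mpr ?_)
    rw [Nat.even_iff] at hev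
    omega
  have hidx : f.ker.index = 2 := by
    rw [Subgroup.index_ker]
    refine le_antisymm ?_ ?_
    · have := Subgroup.card_le_card_group f.range
      simpa using this
    · exact Finite.one_lt_card_iff_nontrivial.mpr ⟨⟨⟨_, u, rfl⟩, 1, fun e => by
        have : f u = 1 := congrArg Subtype.val e
        rw [hfu] at this
        exact absurd this (by decide)⟩⟩
  set N := f.ker with hN
  have hNodd : Odd (Nat.card N) := by
    have h1 := (card_of_pairs (⊤ : Subgroup X) (Δ := (Set.univ : Set Δ)) (a := a) (b := b) trivial trivial hab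
      (fun _ _ _ _ => trivial) fun c d _ _ hcd => by
        obtain ⟨g, hg⟩ := h2 a b c d hab hcd
        exact ⟨g, trivial, hg⟩).1
    rw [Subgroup.card_top, Set.ncard_univ, top_inf_eq, ← Subgroup.card_mul_index N, hidx] at h1
    obtain ⟨i, hi⟩ := hev
    rw [hi] at h1 hno
    have hi' : Odd i := Nat.odd_iff.mpr (by omega)
    have hi1 : Odd (i + i - 1) := Nat.odd_iff.mpr (by omega)
    have : Nat.card N = i * ((i + i - 1) * Nat.card ↥(stabilizer X a ⊓ stabilizer X b)) :=
      Nat.eq_of_mul_eq_mul_right two_pos (h1.trans (by ring))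
    rw [this]
    exact hi'.mul (hi1.mul hD)
  by_cases hNb : N = ⊥
  · have h1 := Subgroup.card_mul_index N
    rw [hidx, hNb, Subgroup.card_bot, one_mul] at h1
    obtain ⟨c, hc⟩ : ∃ c, c ≠ a ∧ c ≠ b := by
      by_contra hall
      push Not at hall
      have hsub : (Set.univ : Set Δ) ⊆ {a, b} := fun c _ => by
        by_cases hc : c = a
        · exact Or.inl hc
        · exact Or.inr (hall c hc)
      have := Set.ncard_le_ncard hsub (Set.toFinite _)
      rw [Set.ncard_univ, Set.ncard_pair hab] at this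
      rw [Nat.even_iff] at hev
      have : 0 < Nat.card Δ := Nat.card_pos_iff.mpr ⟨⟨a⟩, inferInstance⟩
      omega
    obtain ⟨g, hga, hgb⟩ := h2 a b a c hab hc.1.symm
    have hset : ({1, u, g} : Set X).ncard ≤ 2 := by
      rw [h1, ← Set.ncard_univ]; exact Set.ncard_le_ncard (Set.subset_univ _)
    rw [Set.ncard_insert_of_notMem (by
        simp only [Set.mem_insert_iff, Set.mem_singleton_iff, not_or]
        exact ⟨hu1.symm, fun e => hc.2 (by rw [← hgb, ← e, one_smul])⟩),
      Set.ncard_pair (fun e => hab (by rw [← hga, ← e, hua]))] at hset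
    omega
  · haveI : N.Normal := MonoidHom.normal_ker f
    have hprim : IsPreprimitive X Δ := isPreprimitive_of_is_two_pretransitive
      (is_two_pretransitive_iff.mpr fun hab hcd => h2 _ _ _ _ hab hcd)
    have hfne : fixedPoints N Δ ≠ Set.univ := fun h => hNb ((Subgroup.eq_bot_iff_forall _).mpr fun n hn =>
      eq_of_smul_eq_smul (α := Δ) fun c => by
        rw [one_smul]; exact (h ▸ Set.mem_univ c : c ∈ fixedPoints N Δ) ⟨n, hn⟩)
    haveI := IsQuasiPreprimitive.isPretransitive_of_normal (G := X) hfne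
    have h1 := Subgroup.card_mul_index (stabilizer N a)
    rw [index_stabilizer, orbit_eq_univ N a, Set.ncard_univ] at h1
    exact Nat.not_even_iff_odd.mpr hNodd (even_iff_two_dvd.mpr ((even_iff_two_dvd.mp hev).trans
      (h1 ▸ dvd_mul_left _ _)))

omit [FaithfulSMul X Δ] in
/-- The two-point stabiliser of an image has odd order if a Sylow subgroup acts trivially. -/
theorem odd_img_stab {G : Type u} [Group G] [Finite G] {Ω : Type v} [Finite Ω] [MulAction G Ω] {C : Subgroup G}
    {S : Set Ω} (hS : Inv C S) {a b : Ω} (ha : a ∈ S) (hb : b ∈ S) {T : Subgroup G}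
    (hT : ¬ 2 ∣ T.relIndex (C ⊓ (stabilizer G a ⊓ stabilizer G b)))
    (hTS : ∀ x ∈ T, x ∈ C → ∀ c ∈ S, x • c = c) :
    Odd (Nat.card ↥(stabilizer ↥(Img hS) (⟨a, ha⟩ : ↥S) ⊓ stabilizer ↥(Img hS) (⟨b, hb⟩ : ↥S))) := by
  set D : Subgroup ↥C := (stabilizer G a ⊓ stabilizer G b).subgroupOf C
  set f : ↥D →* ↥(Img hS) := (toImg hS).comp D.subtype
  have hr : f.range = stabilizer ↥(Img hS) (⟨a, ha⟩ : ↥S) ⊓ stabilizer ↥(Img hS) (⟨b, hb⟩ : ↥S) := by
    ext x
    constructor
    · rintro ⟨g, rfl⟩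
      exact ⟨(toImg_fix hS).mpr g.2.1, (toImg_fix hS).mpr g.2.2⟩
    · rintro ⟨h1, h2⟩
      obtain ⟨g, rfl⟩ := toImg_surj hS x
      exact ⟨⟨g, (toImg_fix hS).mp h1, (toImg_fix hS).mp h2⟩, rfl⟩
  rw [← hr, ← Subgroup.index_ker, ← Nat.not_even_iff_odd, even_iff_two_dvd]
  refine fun h => hT (h.trans ?_)
  set TD : Subgroup ↥D := (T.subgroupOf C).subgroupOf D
  have hle : TD ≤ f.ker := fun x hx => (toImg_eq_one hS).mpr (hTS _ hx x.1.2)
  have h1 : f.ker.index ∣ TD.index := Dvd.intro_left _ (Subgroup.relIndex_mul_index hle)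
  refine h1.trans (dvd_of_eq ?_)
  show (T.subgroupOf C).relIndex ((stabilizer G a ⊓ stabilizer G b).subgroupOf C) = _
  exact (Subgroup.relIndex_subgroupOf inf_le_left (H := T) (K := C ⊓ (stabilizer G a ⊓ stabilizer G b))).symm ▸
    (by rw [Subgroup.inf_subgroupOf_left])

end CfsgLib.StabSimpAb
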