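import Cfsg.Agent.Lib.StabSimpAb.Setwise
import Cfsg.Agent.Lib.StabSimpAb.Parity

/-!
A central swapper: the number of conjugates of `t` interchanging the points.

Blueprint: `blueprint/S3400.md`, section 0.
-/

set_option autoImplicit false
set_option linter.unusedSectionVars false
set_option linter.style.haveILetI false

namespace CfsgLib.StabSimpAb

open MulAction CfsgLib.StabAlt5

universe u v

variable {G : Type u} [Group G] [Finite G] {Ω : Type v} [Finite Ω] [MulAction G Ω]
variable {a b : Ω} {T : Subgroup G}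

/-- The same number of swappers for all pairs. -/
theorem Cx.swaps_pair (C : Cx a b T) (t : G) {c d : Ω} (hcd : c ≠ d) :
    {x : G | x ∈ cls t ∧ x • c = d ∧ x • d = c}.ncard = swaps t a b := by
  obtain ⟨g, hgc, hgd⟩ := C.two a b c d C.ne hcd
  symm
  refine Set.ncard_congr (fun x _ => g * x * g⁻¹) (fun x hx => ⟨cls_conj t g hx.1, ?_, ?_⟩)
    (fun x y _ _ e => mul_left_cancel (mul_right_cancel e))
    fun y hy => ⟨g⁻¹ * y * g, ⟨by simpa using cls_conj t g⁻¹ hy.1, ?_, ?_⟩, by group⟩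
  · rw [← hgc, ← hgd, mul_smul, inv_smul_smul, mul_smul, hx.2.1]
  · rw [← hgc, ← hgd, mul_smul, inv_smul_smul, mul_smul, hx.2.2]
  · rw [mul_smul, mul_smul, hgc, hy.2.1, ← hgd, inv_smul_smul]
  · rw [mul_smul, mul_smul, hgd, hy.2.2, ← hgc, inv_smul_smul]

omit [Finite Ω] in
theorem Swap.not_mem {z : G} (Z : Swap z a b) (hab : a ≠ b) : z ∉ stab2 G a b := fun h => hab (by
  have h1 : z • a = a := h.1
  rw [Z.za] at h1
  exact h1.symm)

/-- The swappers: `z`, the `z v`, or both. -/
theorem Cx.swap_cases (C : Cx a b T) [FaithfulSMul G Ω] {t z : G} (I : Inv2 t a b) (Z : Swap z a b) :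
    (z ∈ cls t ∧ z * t ∉ cls t ∧ swaps t a b = 1) ∨
      (z ∉ cls t ∧ z * t ∈ cls t ∧ swaps t a b = invNum G a b) ∨
      (z ∈ cls t ∧ z * t ∈ cls t ∧ swaps t a b = invNum G a b + 1) := by
  classical
  set J : Set G := {x : G | x ∈ stab2 G a b ∧ x * x = 1 ∧ x ≠ 1} with hJ
  have hsplit : ∀ x : G, x ∈ cls t → x • a = b → x • b = a → x = z ∨ z * x ∈ J := by
    intro x hx hxa hxb
    by_cases hxz : x = z
    · exact Or.inl hxz
    have hm := swap_mul_mem Z.za Z.zb hxa hxb
    have hzx : z * x = x * z := by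
      have h := Z.comm _ hm
      rw [← mul_assoc, Z.sq, one_mul] at h
      calc z * x = z * (z * x * z) := by rw [← h]
        _ = z * z * (x * z) := by group
        _ = x * z := by rw [Z.sq, one_mul]
    refine Or.inr ⟨hm, ?_, fun e => hxz ?_⟩
    · calc z * x * (z * x) = z * (x * z) * x := by group
        _ = z * z * (x * x) := by rw [← hzx]; group
        _ = 1 := by rw [Z.sq, cls_sq I.sq hx, one_mul]
    · calc x = z * z * x := by rw [Z.sq, one_mul]
        _ = z := by rw [mul_assoc, e, mul_one]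
  have hJcls : ∀ v ∈ J, (z * v ∈ cls t ↔ z * t ∈ cls t) := by
    intro v hv
    obtain ⟨h, hh, he⟩ := C.kit.conj_all I.mem hv.1 I.sq I.ne_one hv.2.1 hv.2.2
    have e1 : h * (z * t) * h⁻¹ = z * v := by
      rw [show h * (z * t) * h⁻¹ = h * z * t * h⁻¹ by group, ← Z.comm h hh,
        show z * h * t * h⁻¹ = z * (h * t * h⁻¹) by group, he]
    have e2 : h⁻¹ * (z * v) * h⁻¹⁻¹ = z * t := by rw [← e1]; group
    exact ⟨fun hm => e2 ▸ cls_conj t h⁻¹ hm, fun hm => e1 ▸ cls_conj t h hm⟩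
  have hcardJ : ((z * ·) '' J).ncard = invNum G a b := Set.ncard_image_of_injective _ (mul_right_injective z)
  have hzJ : z ∉ (z * ·) '' J := by
    rintro ⟨v, hv, e⟩
    exact hv.2.2 (mul_eq_left.mp e)
  have hswapJ : ∀ v ∈ J, (z * v) • a = b ∧ (z * v) • b = a := fun v hv =>
    ⟨by rw [mul_smul, hv.1.1, Z.za], by rw [mul_smul, hv.1.2, Z.zb]⟩
  have htJ : t ∈ J := ⟨I.mem, I.sq, I.ne_one⟩
  have hmain : ∀ x, (x ∈ cls t ∧ x • a = b ∧ x • b = a) ↔
      (x = z ∧ z ∈ cls t) ∨ (x ∈ (z * ·) '' J ∧ z * t ∈ cls t) := by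
    intro x
    constructor
    · rintro ⟨hx, hxa, hxb⟩
      rcases hsplit x hx hxa hxb with rfl | hv
      · exact Or.inl ⟨rfl, hx⟩
      · have e : z * (z * x) = x := by rw [← mul_assoc, Z.sq, one_mul]
        exact Or.inr ⟨⟨_, hv, e⟩, (hJcls _ hv).mp (by rwa [e])⟩
    · rintro (⟨rfl, hz⟩ | ⟨⟨v, hv, rfl⟩, hzt⟩)
      · exact ⟨hz, Z.za, Z.zb⟩
      · exact ⟨(hJcls v hv).mpr hzt, hswapJ v hv⟩
  by_cases hz : z ∈ cls t <;> by_cases hzt : z * t ∈ cls t
  · refine Or.inr (Or.inr ⟨hz, hzt, ?_⟩)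
    have e : {x : G | x ∈ cls t ∧ x • a = b ∧ x • b = a} = insert z ((z * ·) '' J) := by
      ext x
      exact (hmain x).trans (by simp [hz, hzt])
    rw [swaps, e, Set.ncard_insert_of_notMem hzJ, hcardJ]
  · refine Or.inl ⟨hz, hzt, ?_⟩
    have e : {x : G | x ∈ cls t ∧ x • a = b ∧ x • b = a} = {z} := by
      ext x
      exact (hmain x).trans (by simp [hz, hzt])
    rw [swaps, e, Set.ncard_singleton]
  · refine Or.inr (Or.inl ⟨hz, hzt, ?_⟩)
    have e : {x : G | x ∈ cls t ∧ x • a = b ∧ x • b = a} = (z * ·) '' J := by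
      ext x
      exact (hmain x).trans (by simp [hz, hzt])
    rw [swaps, e, hcardJ]
  · exfalso
    have h := C.swaps_pos I
    rw [swaps, Set.ncard_pos (Set.toFinite _)] at h
    obtain ⟨x, hx⟩ := h
    rcases (hmain x).mp hx with h' | h'
    · exact hz h'.2
    · exact hzt h'.2

/-- One swapper per pair: an involution of the two-point stabiliser fixes the fixed points of the others commuting
with it. -/
theorem Cx.fix_of_one (C : Cx a b T) {t v : G} (I : Inv2 t a b) (J : Inv2 v a b) (hw : swaps t a b = 1)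
    (hvt : v * t = t * v) {c : Ω} (hc : t • c = c) : v • c = c := by
  by_contra hne
  by_cases hveq : v = t
  · rw [hveq] at hne; exact hne hc
  have h1 : v • (v • c) = c := smul_smul_of_sq J.sq c
  have ht2 : t • (v • c) = v • c := fix_comm hvt.symm hc
  have hvcls : v ∈ cls t := C.mem_cls I C.ne J.mem.1 J.mem.2 J.sq J.ne_one
  have hvt2 : v * t * (v * t) = 1 := by
    rw [show v * t * (v * t) = v * (t * v) * t by group, ← hvt,
      show v * (v * t) * t = v * v * (t * t) by group, J.sq, I.sq, one_mul]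
  have hvtcls : v * t ∈ cls t := C.mem_cls I C.ne (mul_mem J.mem I.mem).1 (mul_mem J.mem I.mem).2 hvt2
    fun e => hveq (by rw [eq_inv_of_mul_eq_one_left e, inv_of_sq I.sq])
  have h := C.swaps_pair t (c := c) (d := v • c) (fun e => hne e.symm)
  rw [hw, Set.ncard_eq_one] at h
  obtain ⟨x, hx⟩ := h
  have e1 : v ∈ ({x} : Set G) := hx ▸ (⟨hvcls, rfl, h1⟩ : v ∈ {x : G | x ∈ cls t ∧ x • c = v • c ∧ x • (v • c) = c})
  have e2 : v * t ∈ ({x} : Set G) := hx ▸ (⟨hvtcls, by rw [mul_smul, hc], by rw [mul_smul, ht2, h1]⟩ :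
    v * t ∈ {x : G | x ∈ cls t ∧ x • c = v • c ∧ x • (v • c) = c})
  exact I.ne_one (mul_eq_left.mp ((Set.mem_singleton_iff.mp e2).trans (Set.mem_singleton_iff.mp e1).symm))

/-- One swapper per pair needs even degree. -/
theorem Cx.one_even (C : Cx a b T) [FaithfulSMul G Ω] {t z : G} (ht : t ∈ T) (I : Inv2 t a b) (Z : Swap z a b)
    (hw : swaps t a b = 1) (hodd : Odd (Nat.card Ω)) : False := by
  classical
  haveI : Fact (Nat.Prime 2) := ⟨Nat.prime_two⟩
  have hzc : z ∈ cls t := by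
    rcases C.swap_cases I Z with h | h | h
    · exact h.1
    · have h3 := C.invNum_mul I
      have h4 : invNum G a b = 1 := h.2.2.symm.trans hw
      rw [h4, one_mul] at h3
      exfalso
      have hle : stab2 G a b ≤ Subgroup.centralizer ({t} : Set G) :=
        inf_eq_left.mp (Subgroup.eq_of_le_of_card_ge inf_le_left h3.ge)
      have := C.kit.simple
      obtain ⟨z', hz'⟩ : ∃ z' : ↥(stab2 G a b), (z' : G) = t := ⟨⟨t, I.mem⟩, rfl⟩
      rcases this.eq_bot_or_eq_top_of_normal (Subgroup.center ↥(stab2 G a b)) inferInstance with e | e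
      · have hmem : z' ∈ Subgroup.center ↥(stab2 G a b) := Subgroup.mem_center_iff.mpr fun x => Subtype.ext (by
          show (x : G) * z' = z' * x
          rw [hz']; exact Subgroup.mem_centralizer_singleton_iff.mp (hle x.2))
        rw [e, Subgroup.mem_bot] at hmem
        exact I.ne_one (by rw [← hz', hmem]; rfl)
      · exact C.kit.nonab ⟨⟨fun x y => Subgroup.mem_center_iff.mp (e ▸ Subgroup.mem_top y) x⟩⟩
    · have := C.invNum_pos
      omega
  set S := fixedBy Ω t
  have hS := inv_fixedBy (Ω := Ω) t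
  set Cc := Subgroup.centralizer ({t} : Set G)
  let A : ↥S := ⟨a, I.mem.1⟩
  let B : ↥S := ⟨b, I.mem.2⟩
  have hAB : A ≠ B := fun e => C.ne (congrArg Subtype.val e)
  have hTfix : ∀ x ∈ T, x ∈ Cc → ∀ c ∈ S, x • c = c := by
    intro x hx hxC c hc
    by_cases hx1 : x = 1
    · rw [hx1, one_smul]
    exact C.fix_of_one I (C.inv2_of_mem hx hx1) hw (C.kit.comm hx ht) hc
  have hD : Odd (Nat.card ↥(stabilizer ↥(Img hS) A ⊓ stabilizer ↥(Img hS) B)) :=
    odd_img_stab hS I.mem.1 I.mem.2 (fun h => C.kit.odd (h.trans (Dvd.intro _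
      (Subgroup.relIndex_mul_relIndex T (Cc ⊓ stab2 G a b) (stab2 G a b) (fun x hx =>
        ⟨Subgroup.mem_centralizer_singleton_iff.mpr (C.kit.comm hx ht), C.kit.le hx⟩) inf_le_right)))) hTfix
  have h2 : TwoTrans ↥(Img hS) ↥S := img_two hS I.mem.1 I.mem.2 fun c d hc hd hcd => C.cent_trans I hc hd hcd
  have htr : ∀ c d : ↥S, ∃ x : ↥(Img hS), x • c = d := fun c d => by
    obtain ⟨g, hg⟩ := h2.transitive hAB c
    obtain ⟨g', hg'⟩ := h2.transitive hAB d
    exact ⟨g' * g⁻¹, by rw [← hg, mul_smul, inv_smul_smul, hg']⟩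
  have hzC : z ∈ Cc := Subgroup.mem_centralizer_singleton_iff.mpr (Z.comm t I.mem)
  set zb := toImg hS ⟨z, hzC⟩
  have hzA : zb • A = B := Subtype.ext Z.za
  have hzB : zb • B = A := Subtype.ext Z.zb
  have hzz : zb * zb = 1 := toImg_sq hS fun c _ => by
    show (z * z) • c = c
    rw [Z.sq, one_smul]
  -- one swapper in the image
  have hone : ∀ u : ↥(Img hS), u * u = 1 → u • A = B → u • B = A → u = zb := by
    intro u u2 huA huB
    have hd : zb * u ∈ stabilizer ↥(Img hS) A ⊓ stabilizer ↥(Img hS) B :=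
      ⟨mem_stabilizer_iff.mpr (by rw [mul_smul, huA, hzB]), mem_stabilizer_iff.mpr (by rw [mul_smul, huB, hzA])⟩
    obtain ⟨g, hg⟩ := toImg_surj hS (zb * u)
    have hgH : (g : G) ∈ stab2 G a b :=
      ⟨(toImg_fix hS).mp (hg ▸ hd.1 : toImg hS g • A = A), (toImg_fix hS).mp (hg ▸ hd.2 : toImg hS g • B = B)⟩
    have hcomm : zb * (zb * u) = zb * u * zb := by
      rw [← hg, ← map_mul, ← map_mul]
      exact congrArg _ (Subtype.ext (Z.comm _ hgH))
    rw [← mul_assoc, hzz, one_mul] at hcomm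
    have h2' : zb * u * (zb * u) = 1 := by rw [← mul_assoc, ← hcomm, u2]
    have := one_of_sq_odd hD hd h2'
    calc u = zb * (zb * u) := by rw [← mul_assoc, hzz, one_mul]
      _ = zb := by rw [this, mul_one]
  have hpair : ∀ (u u' : ↥(Img hS)) (p c : ↥S), OneFix ↥S u → OneFix ↥S u' → u • p ≠ p → u' • p = u • p →
      u • c = c → u' • c = c := by
    intro u u' p c hu hu' hp he huc
    obtain ⟨g, hgp, hgq⟩ := h2 p (u • p) A B hp.symm hAB
    have key : ∀ w : ↥(Img hS), w * w = 1 → w • p = u • p → g * w * g⁻¹ = zb := by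
      intro w w2 hwp
      refine hone _ (by rw [conj_mul, w2, mul_one, mul_inv_cancel]) ?_ ?_
      · rw [mul_smul, mul_smul, inv_smul_eq_iff.mpr hgp.symm, hwp, hgq]
      · rw [mul_smul, mul_smul, inv_smul_eq_iff.mpr hgq.symm, ← hwp, smul_smul_of_sq w2, hgp]
    have := (key u' hu'.1 he).trans (key u hu.1 rfl).symm
    rw [mul_left_cancel (mul_right_cancel this)]
    exact huc
  -- the image of the two-point stabiliser
  obtain ⟨g, hg⟩ := hzc
  have hgH : ∀ h ∈ stab2 G a b, g⁻¹ * h * g ∈ Cc := by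
    intro h hh
    rw [Subgroup.mem_centralizer_singleton_iff]
    have e : t = g⁻¹ * z * g := by rw [← hg]; group
    rw [e]
    calc g⁻¹ * h * g * (g⁻¹ * z * g) = g⁻¹ * (h * z) * g := by group
      _ = g⁻¹ * (z * h) * g := by rw [Z.comm h hh]
      _ = _ := by group
  let f : ↥(stab2 G a b) →* ↥(Img hS) := (toImg hS).comp
    { toFun := fun h => ⟨g⁻¹ * h * g, hgH h h.2⟩
      map_one' := Subtype.ext (by show g⁻¹ * (1 : G) * g = 1; group)
      map_mul' := fun h k => Subtype.ext (by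
        show g⁻¹ * ((h : G) * k) * g = g⁻¹ * h * g * (g⁻¹ * k * g); group) }
  haveI := C.kit.simple
  have hinj : Function.Injective f := by
    refine (MonoidHom.ker_eq_bot_iff f).mp ((f.normal_ker.eq_bot_or_eq_top).resolve_right fun htop => ?_)
    have hfix : ∀ h ∈ stab2 G a b, ∀ c ∈ S, (g⁻¹ * h * g) • c = c := fun h hh c hc =>
      (toImg_eq_one hS).mp (show f ⟨h, hh⟩ = 1 from MonoidHom.mem_ker.mp (htop ▸ Subgroup.mem_top _)) c hc
    have hle : stab2 G a b ≤ stab2 G (g • a) (g • b) := fun h hh => ⟨by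
      show h • g • a = g • a
      have := congrArg (g • ·) (hfix h hh a I.mem.1)
      simpa [mul_smul] using this, by
      show h • g • b = g • b
      have := congrArg (g • ·) (hfix h hh b I.mem.2)
      simpa [mul_smul] using this⟩
    obtain ⟨g', -, -, hg'⟩ := C.transport (c := g • a) (d := g • b) fun e => C.ne (MulAction.injective g e)
    have hc : Nat.card (stab2 G (g • a) (g • b)) = Nat.card (stab2 G a b) := Nat.card_congr
      { toFun := fun x => ⟨g'⁻¹ * x * g', (hg' x).mp x.2⟩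
        invFun := fun x => ⟨g' * x * g'⁻¹, (hg' _).mpr (by
          rw [show g'⁻¹ * (g' * x * g'⁻¹) * g' = (x : G) by group]; exact x.2)⟩
        left_inv := fun x => Subtype.ext (by show g' * (g'⁻¹ * x * g') * g'⁻¹ = x; group)
        right_inv := fun x => Subtype.ext (by show g'⁻¹ * (g' * x * g'⁻¹) * g' = x; group) }
    refine Z.not_mem C.ne (Subgroup.eq_of_le_of_card_ge hle hc.le ▸ ⟨?_, ?_⟩)
    · show z • g • a = g • a
      rw [← hg]; exact conj_fix I.mem.1
    · show z • g • b = g • b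
      rw [← hg]; exact conj_fix I.mem.2
  obtain ⟨v, hv, v1⟩ := T.bot_or_exists_ne_one.resolve_left fun e => by
    have := C.kit.four
    rw [e, Subgroup.card_bot] at this
    omega
  obtain ⟨v', hv', v1', hvv'⟩ : ∃ v' ∈ T, v' ≠ 1 ∧ v' ≠ v := by
    by_contra hall
    push Not at hall
    have hsub : (T : Set G) ⊆ {1, v} := fun x hx => by
      by_cases hx1 : x = 1
      · exact Or.inl hx1
      · exact Or.inr (hall x hx hx1)
    have := Set.ncard_le_ncard hsub (Set.toFinite _)
    rw [Set.ncard_pair v1.symm] at this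
    have h4 := C.kit.four
    have e : Nat.card T = (T : Set G).ncard := Nat.card_coe_set_eq _
    omega
  have hodd' : Odd (Nat.card ↥S) := by rw [Nat.card_coe_set_eq]; exact odd_fixedBy I.sq hodd
  set x := f ⟨v, C.kit.le hv⟩
  set y := f ⟨v', C.kit.le hv'⟩
  have x2 : x * x = 1 := by
    rw [← map_mul, ← map_one f]; exact congrArg f (Subtype.ext (C.kit.sq v hv))
  have y2 : y * y = 1 := by
    rw [← map_mul, ← map_one f]; exact congrArg f (Subtype.ext (C.kit.sq v' hv'))
  have x1 : x ≠ 1 := fun e => v1 (congrArg Subtype.val (hinj (e.trans (map_one f).symm)))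
  have y1 : y ≠ 1 := fun e => v1' (congrArg Subtype.val (hinj (e.trans (map_one f).symm)))
  have hxy : x * y = y * x := by
    rw [← map_mul, ← map_mul]; exact congrArg f (Subtype.ext (C.kit.comm hv hv'))
  have hof : ∀ u : ↥(Img hS), u * u = 1 → u ≠ 1 → OneFix ↥S u := by
    intro u u2 u1
    refine ⟨u2, le_antisymm ((Set.ncard_le_one_iff).mpr fun {c d} hc hd => ?_) (odd_fixedBy u2 hodd').pos⟩
    by_contra hcd
    exact u1 (fix_le_one h2 hAB hD u2 hcd hc hd)
  obtain ⟨c, hc⟩ := (hof x x2 x1).exists_fix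
  have hyc : y • c = c := (hof x x2 x1).eq_of_fix (fix_comm hxy hc) hc
  exact hvv' (congrArg Subtype.val (hinj (mid htr hpair (hof x x2 x1) (hof y y2 y1) hc hyc))).symm

end CfsgLib.StabSimpAb
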