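import Mathlib

/-!
Even degree: the equations `g² i_K = i + w (g D R + 1)`.

Blueprint: `blueprint/S3400.md`, section 1.
-/

set_option autoImplicit false

namespace CfsgLib.StabSimpAb.EvenArith

theorem eq_of_dvd_small {x y R : ℤ} (hd : R ∣ x - y) (h1 : x - y < R) (h2 : y - x < R) : x = y := by
  have := Int.eq_zero_of_abs_lt_dvd hd (abs_lt.mpr ⟨by linarith, h1⟩)
  linarith

/-- The socle equals the two-point stabiliser, a central swapper. -/
theorem same {i g D w : ℕ} (hi : Odd i) (hg : Odd g) (hw : w = i ∨ w = i + 1) (hev : Even (g * D + 1))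
    (heq : g ^ 2 * i = i + w * (g * D + 1)) : g = 2 * i + 1 ∧ D + 1 = 2 * i := by
  have hi0 : 1 ≤ i := hi.pos
  have hg0 : 1 ≤ g := hg.pos
  rcases hw with rfl | rfl
  · exfalso
    have h1 : g ^ 2 = g * D + 2 := Nat.eq_of_mul_eq_mul_right hi.pos (by rw [heq]; ring)
    have h2 : g ∣ 2 := (Nat.dvd_add_right (dvd_mul_right g D)).mp (h1 ▸ dvd_pow_self g two_ne_zero)
    rcases (Nat.dvd_prime Nat.prime_two).mp h2 with rfl | rfl
    · omega
    · norm_num at hg
  · obtain ⟨j, hj⟩ : i ∣ g * D + 1 := by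
      have h1 : i ∣ (g * D + 1) * (i + 1) :=
        (Nat.dvd_add_right (dvd_refl i)).mp (Dvd.intro_left (g ^ 2) (by rw [heq]; ring))
      exact (Nat.Coprime.dvd_mul_right (by simp)).mp h1
    have hj2 : Even j := by
      rw [hj, Nat.even_mul] at hev
      exact hev.resolve_left (Nat.not_even_iff_odd.mpr hi)
    have e1 : g ^ 2 = (i + 1) * j + 1 := Nat.eq_of_mul_eq_mul_right hi.pos (by rw [heq, hj]; ring)
    have e2 : g * g = g * D + j + 2 := by
      have : g ^ 2 = g * D + j + 2 := by rw [e1]; linarith [hj]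
      rw [← this]; ring
    obtain ⟨r, rfl⟩ : ∃ r, g = D + r := ⟨g - D, (Nat.add_sub_cancel' (by nlinarith)).symm⟩
    set g := D + r with hgdef
    have e3 : j + 2 = g * r := by rw [hgdef] at e2 ⊢; linarith
    have e4 : g * g + 2 * i + 1 = (i + 1) * r * g := by
      have : (i + 1) * r * g = (i + 1) * (j + 2) := by rw [e3]; ring
      rw [this, ← sq, e1]; ring
    obtain ⟨h, hh⟩ : g ∣ 2 * i + 1 := by
      have : g ∣ g * g + (2 * i + 1) := ⟨(i + 1) * r, by rw [← Nat.add_assoc, e4]; ring⟩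
      exact (Nat.dvd_add_right (dvd_mul_left g g)).mp this
    have e5 : g + h = (i + 1) * r := Nat.eq_of_mul_eq_mul_left hg.pos (by
      calc g * (g + h) = g * g + g * h := by ring
        _ = g * g + 2 * i + 1 := by rw [← hh]; ring
        _ = _ := by rw [e4]; ring)
    have hh1 : 1 ≤ h := by rcases Nat.eq_zero_or_pos h with rfl | h' <;> omega
    have hle : g + h ≤ g * h + 1 := by nlinarith
    have hr : r = 0 ∨ r = 1 ∨ r = 2 := by
      rcases Nat.lt_or_ge r 3 with h' | h'
      · omega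
      · exfalso; nlinarith
    rcases hr with rfl | rfl | rfl
    · omega
    · exfalso
      rw [mul_one] at e3
      rw [Nat.even_iff] at hj2
      rw [Nat.odd_iff] at hg
      omega
    · have h2 : g = 1 ∨ h = 1 := by
        by_contra hne
        push Not at hne
        have : 2 * g + 2 * h ≤ g * h + 4 := by nlinarith [show 2 ≤ g by omega, show 2 ≤ h by omega]
        omega
      rcases h2 with h2 | h2
      · omega
      · rw [h2, mul_one] at hh
        omega

/-- Rank two: `N(V)` on its fixed points. -/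
theorem same_two {i g D w k : ℕ} (hi : Odd i) (hi3 : 3 ≤ i) (hg : Odd g) (hw : w = i ∨ w = i + 1)
    (hev : Even (g * D + 1)) (heq : g ^ 2 * i = i + w * (g * D + 1)) (hk : k = D + 1) (hk2 : k = 2 ∨ 4 ∣ k) :
    False := by
  obtain ⟨-, h2⟩ := same hi hg hw hev heq
  rcases hk2 with h | h
  · omega
  · rw [Nat.odd_iff] at hi
    omega

/-- Rank three or more: `g` is a square whose root divides `d`. -/
theorem same_three {i g f d h w : ℕ} (hi : Odd i) (hg : Odd g) (hw : w = i ∨ w = i + 1)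
    (hev : Even (g * (d * f) + 1)) (heq : g ^ 2 * i = i + w * (g * (d * f) + 1)) (hh : g = h * h) (hd : h ∣ d) :
    False := by
  obtain ⟨h1, h2⟩ := same hi hg hw hev heq
  have hi0 := hi.pos
  have a1 : h ∣ 2 * i + 1 := h1 ▸ hh ▸ dvd_mul_right h h
  have a2 : h ∣ d * f := hd.trans (dvd_mul_right d f)
  have a3 : h ∣ 2 := by
    have := Nat.dvd_sub a1 a2
    rwa [show 2 * i + 1 - d * f = 2 by omega] at this
  have := Nat.le_of_dvd two_pos a3
  interval_cases h <;> omega

section Odd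

variable {q e r R iK i : ℤ}

theorem factor_bound (hq : 1 < q) (he : e = 1 ∨ e = -1) (hR : R * (q - e) = r - e) (hr : q ^ 3 ≤ r) :
    q ^ 2 + e * q + 1 ≤ R := by
  have hpos : 0 < q - e := by rcases he with rfl | rfl <;> linarith
  refine le_of_mul_le_mul_right ?_ hpos
  rw [hR]
  rcases he with rfl | rfl <;> nlinarith

theorem dvd_count (he : e = 1 ∨ e = -1) (hq : 2 ∣ q - e) (hR : R * (q - e) = r - e) (hK : 2 * iK = r * (r + e)) :
    R ∣ iK - 1 := by
  obtain ⟨u, hu⟩ := hq
  refine ⟨u * (r + 2 * e), ?_⟩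
  have : 2 * (iK - 1) = 2 * (R * (u * (r + 2 * e))) := by
    have hr : r = e + R * (2 * u) := by rw [← hu]; linarith
    subst hr
    rcases he with rfl | rfl <;> linarith
  linarith

/-- `L₂(q)` inside `L₂(r)`, a central swapper. -/
theorem odd_direct {g D w : ℤ} (hq : 2 ≤ q) (he : e = 1 ∨ e = -1) (hi : 2 * i = q * (q + e))
    (hw : w = i ∨ w = i + 1) (hg : 1 ≤ g) (hgo : Odd g) (hRb : q ^ 2 + e * q + 1 ≤ R) (hR : R ∣ iK - 1)
    (heq : g ^ 2 * iK = i + w * (g * D * R + 1)) : False := by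
  set c := g * iK - w * D * R with hc
  have hgc : g * c = i + w := by rw [hc]; linarith
  have hd : R ∣ c - g := by
    obtain ⟨u, hu⟩ := hR
    refine ⟨g * u - w * D, ?_⟩
    rw [hc]; linear_combination g * hu
  have hpos : 0 < q * (q + e) := by rcases he with rfl | rfl <;> nlinarith
  have hc1 : 1 ≤ c := by
    by_contra h
    have : g * c ≤ 0 := by nlinarith
    rcases hw with rfl | rfl <;> nlinarith
  have hle : g * c ≤ q ^ 2 + e * q + 1 := by rcases hw with rfl | rfl <;> nlinarith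
  have heq' : c = g := eq_of_dvd_small hd (by nlinarith) (by nlinarith)
  rw [heq'] at hgc
  rcases hw with rfl | rfl
  · obtain ⟨k, hk⟩ := hgo
    subst hk
    have : 2 * (2 * k * k + 2 * k - w) + 1 = 0 := by linarith
    omega
  · rcases he with rfl | rfl
    · rcases lt_or_ge q g with h | h <;> nlinarith
    · rcases lt_or_ge g q with h | h <;> nlinarith

/-- An outer swapper and the socle `L₂(q)`. -/
theorem odd_outer_eq {g k w : ℤ} (hq : 4 ≤ q) (he : e = 1 ∨ e = -1) (h4 : 4 ∣ q - e) (hi : 2 * i = q * (q + e))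
    (hw : 2 * w = q * (q - e)) (hg : g = k + 1) (hk : k = 2 ∨ 4 ∣ k) (hk0 : 2 ≤ k)
    (heq : g ^ 2 * i = i + w * k ^ 2) : False := by
  subst hg
  have h1 : k * (q * (q + e) * (k + 2) - q * (q - e) * k) = 0 := by
    linear_combination 2 * heq - ((k + 1) ^ 2 - 1) * hi + k ^ 2 * hw
  have h2 := (mul_eq_zero.mp h1).resolve_left (by omega)
  have h3 : q * (2 * e * k + 2 * (q + e)) = 0 := by linear_combination h2
  have h4' := (mul_eq_zero.mp h3).resolve_left (by omega)
  rcases he with rfl | rfl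
  · linarith
  · rcases hk with rfl | ⟨u, rfl⟩
    · linarith
    · omega

/-- An outer swapper and a larger socle. -/
theorem odd_outer {g D w k : ℤ} (hq : 4 ≤ q) (hqo : Odd q) (he : e = 1 ∨ e = -1) (hi : 2 * i = q * (q + e))
    (hw : 2 * w = q * (q - e)) (hg : 1 ≤ g) (hgo : Odd g) (hRo : Odd R) (hR : R * (q - e) = r - e)
    (hr : q ^ 3 ≤ r) (hK : 2 * iK = r * (r + e)) (hm : g * D * R + 1 = k ^ 2) (hk : g * R = k + 1)
    (heq : g ^ 2 * iK = i + w * (g * D * R + 1)) : False := by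
  have hd2 : 2 ∣ q - e := by
    obtain ⟨u, hu⟩ := hqo
    rcases he with rfl | rfl
    · exact ⟨u, by linarith⟩
    · exact ⟨u + 1, by linarith⟩
  have hRb := factor_bound (by linarith) he hR hr
  set c := g * iK - w * D * R with hc
  have hgc : g * c = q ^ 2 := by
    have : 2 * (g * c) = 2 * q ^ 2 := by rw [hc]; linear_combination 2 * heq + hi + hw
    linarith
  have hd : R ∣ c - g := by
    obtain ⟨u, hu⟩ := dvd_count he hd2 hR hK
    refine ⟨g * u - w * D, ?_⟩
    rw [hc]; linear_combination g * hu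
  have hco : Odd c := (Int.odd_mul.mp (hgc ▸ hqo.pow)).2
  have h2R : 2 * R ∣ c - g :=
    IsCoprime.mul_dvd (Int.isCoprime_two_left.mpr hRo) (even_iff_two_dvd.mp (hco.sub_odd hgo)) hd
  have hc1 : 1 ≤ c := by by_contra h; nlinarith
  have hbig : q ^ 2 ≤ 2 * R := by rcases he with rfl | rfl <;> nlinarith
  have hcg : c = g := eq_of_dvd_small h2R (by nlinarith) (by nlinarith)
  have hgq : g = q := by
    rw [hcg] at hgc
    nlinarith
  subst hgq
  rw [hm] at heq
  have hk' : k = g * R - 1 := by linarith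
  subst hk'
  have h1 : g * (g * r * (r + e) - (g + e) - (g - e) * (g * R - 1) ^ 2) = 0 := by
    linear_combination 2 * heq - g ^ 2 * hK + hi + (g * R - 1) ^ 2 * hw
  have h2 := (mul_eq_zero.mp h1).resolve_left (by omega)
  have h3 : g * ((r - e) * (r + 2 * e + 2 - g * R)) = 0 := by
    rcases he with rfl | rfl
    · linear_combination h2 + (g ^ 2 * R - 2 * g) * hR
    · linear_combination h2 + (g ^ 2 * R - 2 * g) * hR
  have hre : r - e ≠ 0 := by rcases he with rfl | rfl <;> nlinarith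
  have h5 := (mul_eq_zero.mp ((mul_eq_zero.mp h3).resolve_left (by omega))).resolve_left hre
  have h6 : (r + 2 * e + 2) * (g - e) = g * (r - e) := by linear_combination (g - e) * h5 + g * hR
  rcases he with rfl | rfl <;> nlinarith

end Odd

/-- `L₂(8)` inside a Ree group. -/
theorem e_ree {g D R iK w : ℕ} (hR : 27 ∣ R) (hK : 27 ∣ iK) (hw : w = 63 ∨ w = 64)
    (heq : g ^ 2 * iK = 63 + w * (g * D * R + 1)) : False := by
  have h : 27 ∣ (63 + w) + w * g * D * R := by
    rw [show 63 + w + w * g * D * R = g ^ 2 * iK by rw [heq]; ring]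
    exact hK.mul_left _
  have := (Nat.dvd_add_left (hR.mul_left _)).mp h
  omega

/-- A Ree group properly inside another. -/
theorem ree_ree {g D R iK i w s : ℕ} (hs : 1 ≤ s) (hK : 3 ^ (2 * s + 1) ∣ iK) (hR : 3 ∣ R)
    (hi : 3 ^ (2 * s) ∣ i) (hi' : ¬ 3 ^ (2 * s + 1) ∣ i) (hw : w = i ∨ w = i + 1)
    (heq : g ^ 2 * iK = i + w * (g * D * R + 1)) : False := by
  have h3i : 3 ∣ i := (dvd_pow_self 3 (by omega)).trans hi
  rcases hw with rfl | rfl
  · have h1 : 3 ^ (2 * s + 1) ∣ w * (g * D * R) + 2 * w := by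
      rw [show w * (g * D * R) + 2 * w = w + w * (g * D * R + 1) by ring, ← heq]
      exact hK.mul_left _
    have h2 : 3 ^ (2 * s + 1) ∣ w * (g * D * R) := by
      rw [pow_succ]; exact mul_dvd_mul hi (hR.mul_left _)
    exact hi' ((Nat.Coprime.dvd_mul_left (Nat.Coprime.pow_left _ (by norm_num))).mp
      ((Nat.dvd_add_right h2).mp h1))
  · have h1 : 3 ∣ i * (g * D * R) + (g * D * R) + 2 * i + 1 := by
      rw [show i * (g * D * R) + (g * D * R) + 2 * i + 1 = i + (i + 1) * (g * D * R + 1) by ring, ← heq]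
      exact ((dvd_pow_self 3 (by omega)).trans hK).mul_left _
    have h2 : 3 ∣ i * (g * D * R) + (g * D * R) + 2 * i :=
      dvd_add (dvd_add (h3i.mul_right _) (hR.mul_left _)) (h3i.mul_left _)
    have := (Nat.dvd_add_right h2).mp h1
    omega

/-- An outer swapper for `L₂(2^a)`. -/
theorem e_outer {a g h D w : ℕ} (ha : 4 ≤ a) (hae : Even a) (hh : Odd h) (hg : g = h ^ 2 ^ (a - 2))
    (hw0 : 0 < w) (hw : w ≤ 2 ^ a * ((2 ^ a) ^ 2 - 1))
    (heq : g ^ 2 * ((2 ^ a) ^ 2 - 1) = (2 ^ a) ^ 2 - 1 + w * (g * D + 1)) : False := by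
  set i := (2 ^ a) ^ 2 - 1 with hi
  have hdvd : g ∣ i + w := by
    have h1 : g ∣ (i + w) + w * D * g := ⟨g * i, by rw [← mul_assoc, ← sq, heq]; ring⟩
    exact (Nat.dvd_add_left (dvd_mul_left g _)).mp h1
  have hh3 : 3 ≤ h := by
    by_contra hlt
    have : h = 1 := by rw [Nat.odd_iff] at hh; omega
    rw [hg, this, one_pow, one_pow, one_mul] at heq
    nlinarith [Nat.mul_pos hw0 (Nat.succ_pos (1 * D))]
  have hle : g ≤ i + w := Nat.le_of_dvd (by omega) hdvd
  have hig : i + w < 2 ^ (3 * a + 1) := by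
    have e1 : 2 ^ (3 * a + 1) = 2 * (2 ^ a * (2 ^ a) ^ 2) := by ring
    have e2 : 2 ^ a * ((2 ^ a) ^ 2 - 1) ≤ 2 ^ a * (2 ^ a) ^ 2 := Nat.mul_le_mul_left _ (Nat.sub_le _ _)
    have e3 : (2 ^ a) ^ 2 ≤ 2 ^ a * (2 ^ a) ^ 2 := Nat.le_mul_of_pos_left _ (by positivity)
    have e4 : 0 < (2 ^ a) ^ 2 := by positivity
    rw [← hi] at e2
    omega
  rcases (show a = 4 ∨ a = 6 ∨ 8 ≤ a by rw [Nat.even_iff] at hae; omega) with rfl | rfl | h8
  · have hi' : i = 255 := by rw [hi]; norm_num
    rw [hi'] at heq hdvd hle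
    norm_num at hw hg
    have hh7 : h ≤ 8 := by
      by_contra hlt
      have : 9 ^ 4 ≤ h ^ 4 := Nat.pow_le_pow_left (by omega) 4
      omega
    obtain ⟨j, hj⟩ := hdvd
    have hj54 : j < 54 := by
      have : 81 ≤ g := hg ▸ (show 81 = 3 ^ 4 by norm_num) ▸ Nat.pow_le_pow_left hh3 4
      nlinarith
    have key : ∀ g' ∈ [81, 625, 2401], ∀ j < 54, 255 < g' * j →
        ¬ (g' * j - 255 ∣ 255 * (g' ^ 2 - 1) ∧ 255 * (g' ^ 2 - 1) / (g' * j - 255) % g' = 1) := by decide +kernel
    have hg' : g ∈ [81, 625, 2401] := by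
      rw [Nat.odd_iff] at hh
      rcases (show h = 3 ∨ h = 5 ∨ h = 7 by omega) with rfl | rfl | rfl <;> simp [hg]
    have hw' : g * j - 255 = w := by omega
    have hprod : 255 * (g ^ 2 - 1) = w * (g * D + 1) := by
      rw [Nat.mul_sub, mul_one, mul_comm 255 (g ^ 2), heq, Nat.add_sub_cancel_left]
    refine key g hg' j hj54 (by rw [← hj]; exact Nat.lt_add_of_pos_right hw0) ⟨(by rw [hw']; exact Dvd.intro _ hprod.symm), ?_⟩
    rw [hw', hprod, Nat.mul_div_cancel_left _ hw0]
    have hgb : 2 ≤ g := by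
      simp only [List.mem_cons, List.not_mem_nil, or_false] at hg'
      omega
    rw [Nat.mul_add_mod, Nat.mod_eq_of_lt (by omega)]
  · have h1 : 3 ^ 16 ≤ g := by rw [hg]; exact Nat.pow_le_pow_left hh3 16
    norm_num at hig h1
    omega
  · have h1 : 2 ^ 2 ^ (a - 2) ≤ g := by rw [hg]; exact Nat.pow_le_pow_left (by omega) _
    have h2 : ∀ b, 3 * (b + 8) + 1 ≤ 2 ^ (b + 6) := by
      intro b
      induction b with
      | zero => norm_num
      | succ b ih => rw [show b + 1 + 6 = b + 6 + 1 by ring, pow_succ]; omega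
    have h3 := h2 (a - 8)
    rw [show a - 8 + 8 = a by omega, show a - 8 + 6 = a - 2 by omega] at h3
    have := Nat.pow_le_pow_right two_pos h3
    omega

end CfsgLib.StabSimpAb.EvenArith
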