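import Cfsg.Agent.Lib.StabSimpAb.EvenData
import Cfsg.Agent.Lib.StabSimpAb.EvenArith

/-!
The degree is odd.

Blueprint: `blueprint/S3400.md`, section 1.
-/

set_option autoImplicit false
set_option linter.unusedSectionVars false
set_option linter.style.haveILetI false

namespace CfsgLib.StabSimpAb

open MulAction CfsgLib.StabAlt5 CfsgLib.GW.Model

universe u v

variable {G : Type u} [Group G] [Finite G] {Ω : Type v} [Finite Ω] [MulAction G Ω] [FaithfulSMul G Ω]
variable {a b : Ω} {T : Subgroup G}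

theorem Cx.odd_invNum (C : Cx a b T) {t : G} (ht : t ∈ T) (I : Inv2 t a b) : Odd (invNum G a b) := by
  set L := stab2 G a b ⊓ Subgroup.centralizer ({t} : Set G) with hL
  have hTL : T ≤ L := fun x hx => ⟨C.kit.le hx, Subgroup.mem_centralizer_singleton_iff.mpr (C.kit.comm hx ht)⟩
  have hLH : L ≤ stab2 G a b := inf_le_left
  have e : invNum G a b = L.relIndex (stab2 G a b) := by
    have h1 := C.invNum_mul I
    rw [← hL] at h1
    have h2 : L.relIndex (stab2 G a b) * Nat.card L = Nat.card (stab2 G a b) := by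
      rw [mul_comm, Subgroup.relIndex, ← Nat.card_congr (Subgroup.subgroupOfEquivOfLe hLH).toEquiv]
      exact Subgroup.card_mul_index _
    exact Nat.eq_of_mul_eq_mul_right Nat.card_pos (h1.trans h2.symm)
  rw [e, ← Nat.not_even_iff_odd, even_iff_two_dvd]
  exact fun h => C.kit.odd (h.trans (Dvd.intro_left _ (Subgroup.relIndex_mul_relIndex T L _ hTL hLH)))

theorem Cx.swaps_le (C : Cx a b T) (t : G) {s : G} (hsa : s • a = b) (hsb : s • b = a) :
    swaps t a b ≤ Nat.card (stab2 G a b) := by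
  rw [swaps, show Nat.card (stab2 G a b) = (stab2 G a b : Set G).ncard from Nat.card_coe_set_eq _]
  exact Set.ncard_le_ncard_of_injOn (fun x => s * x) (fun x hx => swap_mul_mem hsa hsb hx.2.1 hx.2.2)
    (fun x _ y _ e => mul_left_cancel e)

theorem ree_two_dvd {q : ℕ} (hq : 3 ∣ q) : q ^ 3 * (q ^ 3 + 1) * (q - 1) = q ^ 2 * (q ^ 2 + 1 - q) * (q * (q ^ 2 - 1)) := by
  rcases Nat.eq_zero_or_pos q with rfl | h
  · rfl
  · obtain ⟨p, rfl⟩ : ∃ p, q = p + 1 := ⟨q - 1, by omega⟩
    have e1 : (p + 1) ^ 2 + 1 - (p + 1) = p ^ 2 + p + 1 := by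
      have : (p + 1) ^ 2 + 1 = p ^ 2 + p + 1 + (p + 1) := by ring
      omega
    have e2 : (p + 1) ^ 2 - 1 = p ^ 2 + 2 * p := by
      have : (p + 1) ^ 2 = p ^ 2 + 2 * p + 1 := by ring
      omega
    rw [e1, e2, Nat.add_sub_cancel]
    ring

/-- The degree is odd. -/
theorem Cx.odd_degree (C : Cx a b T) (h60 : Nat.card (stab2 G a b) ≠ 60) : Odd (Nat.card Ω) := by
  classical
  by_contra hno
  rw [Nat.not_odd_iff_even] at hno
  -- choose the involution
  obtain ⟨t₀, ht₀, I₀⟩ := C.exists_inv
  obtain ⟨t, ht, I, hcase⟩ : ∃ t, t ∈ T ∧ Inv2 t a b ∧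
      ((∃ z : G, Swap z a b) ∨ ∃ s : G, Outer s t a b T ∧ s * t = t * s) := by
    rcases C.dichotomy I₀ with h | ⟨s, O⟩
    · exact ⟨t₀, ht₀, I₀, Or.inl h⟩
    · obtain ⟨x, hx, hne⟩ := O.nontriv
      have hw := O.fixed x hx
      have hw1 : x * (s * x * s) ≠ 1 := fun e => hne (by
        have e1 : s * x * s = x⁻¹ := eq_inv_of_mul_eq_one_right e
        rw [inv_of_sq (C.kit.sq _ hx)] at e1
        calc s * x = s * x * (s * s) := by rw [O.sq, mul_one]
          _ = x * s := by rw [← mul_assoc, e1])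
      have J := C.inv2_of_mem hw.1 hw1
      refine ⟨_, hw.1, J, Or.inr ⟨s, ?_, (Subgroup.mem_centralizer_singleton_iff.mp hw.2).symm⟩⟩
      obtain ⟨h, -, he⟩ := C.kit.conj_all J.mem I₀.mem J.sq J.ne_one I₀.sq I₀.ne_one
      obtain ⟨k, hk⟩ := O.mem_cls
      exact ⟨⟨k * h, by
          rw [show k * h * (x * (s * x * s)) * (k * h)⁻¹ = k * (h * (x * (s * x * s)) * h⁻¹) * k⁻¹ by group, he, hk]⟩,
        O.sq, O.sa, O.sb, O.norm, O.nontriv, O.fixed, O.onto, O.card⟩
  obtain ⟨A, iA, iAf, K, TK, g, d, f, R, iK, cK, N⟩ := C.even_num hno ht I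
  set i := invNum G a b
  set w := swaps t a b
  set m := (fixedBy Ω t).ncard
  set cH := Nat.card ↥(stab2 G a b ⊓ Subgroup.centralizer ({t} : Set G)) with hcH
  have hicH : i * cH = Nat.card (stab2 G a b) := C.invNum_mul I
  have hiodd : Odd i := C.odd_invNum ht I
  have hmev : Even m := by
    have h := fix_parity (Δ := Ω) I.sq
    have hlt : m < Nat.card Ω := fix_lt I.ne_one
    rw [Nat.even_iff] at hno h ⊢
    change (Nat.card Ω - m) % 2 = 0 at h
    omega
  have hw1 : w = 1 → iK = i + (d * f * R + 1) := fun h => by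
    have he := N.eq
    have hf := N.fix
    rw [N.one h, one_mul] at hf
    rw [N.one h, one_pow, one_mul] at he
    change iK = i + w * m at he
    change m = d * f * R + 1 at hf
    rw [he, h, one_mul, hf]
  have hdir : (∃ z : G, Swap z a b) → w = 1 ∨ w = i ∨ w = i + 1 := fun ⟨z, Z⟩ =>
    (C.swap_cases I Z).imp (fun h => h.2.2) (Or.imp (fun h => h.2.2) fun h => h.2.2)
  -- the socle equal to the two-point stabiliser
  have hsame : Nat.card K = Nat.card (stab2 G a b) → cK = cH →
      R = 1 ∧ g ^ 2 * i = i + w * (g * (d * f) + 1) := by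
    intro hcard hc
    have hR : R = 1 := by
      have h := N.cK_eq
      rw [hc] at h
      exact Nat.eq_of_mul_eq_mul_right Nat.card_pos (h.trans (one_mul _).symm)
    have hik : iK = i := by
      have h := N.cardK
      rw [hcard, hc, ← hicH] at h
      exact Nat.eq_of_mul_eq_mul_right Nat.card_pos h
    have he := N.eq
    have hf := N.fix
    rw [hik] at he
    rw [hR, mul_one] at hf
    change g ^ 2 * i = i + w * m at he
    change m = _ at hf
    rw [hf] at he
    exact ⟨hR, he⟩
  have hsame3 : 8 ≤ Nat.card T → (∃ z : G, Swap z a b) → Nat.card K = Nat.card (stab2 G a b) → cK = cH → False := by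
    intro h8 hz hcard hc
    obtain ⟨hR, he⟩ := hsame hcard hc
    have hf : m = g * (d * f) * R + 1 := N.fix
    rw [hR, mul_one] at hf
    rcases hdir hz with h | h
    · have := N.one h
      subst this
      rw [h] at he
      omega
    · obtain ⟨r, hr, hd⟩ := N.three h8
      exact EvenArith.same_three hiodd N.gOdd h (hf ▸ hmev) he hr hd
  have hsame1 : Nat.card T = 8 → (∀ s : G, ¬ Outer s t a b T) := fun h8 s O => by
    have h := O.card
    rw [h8] at h
    have hle : Nat.card ↥(T ⊓ Subgroup.centralizer ({s} : Set G)) ≤ 8 :=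
      h8 ▸ Subgroup.card_le_of_le inf_le_left
    interval_cases Nat.card ↥(T ⊓ Subgroup.centralizer ({s} : Set G)) <;> norm_num at h
  rcases C.kit.orders with ⟨F, iF, iFt, hq8, hq5, hT4, hH2, ⟨e⟩, hcH2⟩ | ⟨n, hn, hTn, hHn, hcH2⟩ |
      ⟨m0, q0, hm0, hq0, hT8, hH3, hcH2⟩ | ⟨hT8, hH4, hcH2⟩ <;>
    rcases N.kit.orders with ⟨F', iF', iFt', hr8, hr5, hT4', hK2, ⟨e'⟩, hcK2⟩ | ⟨n', hn', hTn', hKn, hcK2⟩ |
      ⟨m1, q1, hm1, hq1, hT8', hK3, hcK2⟩ | ⟨hT8', hK4, hcK2⟩
  all_goals have hTT := N.cardT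
  all_goals have hdvd := N.dvdH
  all_goals
    obtain ⟨tK, htK, htK1⟩ := TK.bot_or_exists_ne_one.resolve_left fun e0 => by
      have h4 := N.kit.four
      rw [e0, Subgroup.card_bot] at h4
      omega
  all_goals have hcKv := (N.cent tK htK htK1).symm.trans (hcK2 tK htK htK1)
  all_goals have hcHv : cH = _ := hcH2 t ht I.ne_one
  -- `L₂(q)` inside `L₂(r)`
  · set q := Fintype.card F
    set r := Fintype.card F'
    have hq11 : 11 ≤ q := by
      by_contra hlt
      have hq5' : q = 5 := by omega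
      rw [hq5'] at hH2
      exact h60 (by omega)
    obtain ⟨φ, hφ⟩ := N.hom
    have hrq := sub_psl C.kit hT4 hq11 hq8 hH2 hr8 (e'.toMonoidHom.comp φ) (e'.injective.comp hφ)
    have hmod : r % 4 = q % 4 := by
      rcases hrq with h | ⟨l, -, ⟨j, rfl⟩, h⟩
      · rw [show r = q from h]
      · rw [show r = q ^ (2 * j + 1) from h, pow_succ, pow_mul, Nat.mul_mod, Nat.pow_mod, Nat.pow_mod q 2]
        rcases (show q % 4 = 1 ∨ q % 4 = 3 by omega) with h4 | h4 <;> rw [h4] <;> simp
    -- the sign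
    obtain ⟨ε, hε, h4q, hcHz, hcKz, hqp⟩ : ∃ ε : ℤ, (ε = 1 ∨ ε = -1) ∧ (4 : ℤ) ∣ (q : ℤ) - ε ∧
        (cH : ℤ) = (q : ℤ) - ε ∧ (cK : ℤ) = (r : ℤ) - ε ∧ (qp F : ℤ) = (q : ℤ) + ε := by
      by_cases h4 : q % 4 = 1
      · rw [if_pos h4] at hcHv
        rw [if_pos (hmod.trans h4)] at hcKv
        exact ⟨1, Or.inl rfl, by clear hrq; omega, by clear hrq; omega, by clear hrq; omega,
          (qm_cast (F := F) (Nat.odd_iff.mpr (by clear hrq; omega)) (Or.inl rfl) (by clear hrq; omega)).2⟩
      · rw [if_neg h4] at hcHv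
        rw [if_neg (by rw [hmod]; exact h4)] at hcKv
        exact ⟨-1, Or.inr rfl, by clear hrq; omega, by clear hrq; omega, by clear hrq; omega,
          (qm_cast (F := F) (Nat.odd_iff.mpr (by clear hrq; omega)) (Or.inr rfl) (by clear hrq; omega)).2⟩
    have hε2 : ε * ε = 1 := by rcases hε with rfl | rfl <;> norm_num
    have hne : (q : ℤ) - ε ≠ 0 := by omega
    have hH2z : 2 * (Nat.card (stab2 G a b) : ℤ) = (q : ℤ) * ((q : ℤ) ^ 2 - 1) := by
      have h := congrArg (Nat.cast (R := ℤ)) hH2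
      push_cast [Nat.cast_sub (Nat.one_le_pow 2 q (by omega))] at h
      exact h
    have hK2z : 2 * (Nat.card K : ℤ) = (r : ℤ) * ((r : ℤ) ^ 2 - 1) := by
      have h := congrArg (Nat.cast (R := ℤ)) hK2
      push_cast [Nat.cast_sub (Nat.one_le_pow 2 r (by omega))] at h
      exact h
    have hiz : 2 * (i : ℤ) = (q : ℤ) * ((q : ℤ) + ε) := by
      refine mul_right_cancel₀ hne ?_
      rw [← hcHz, show 2 * (i : ℤ) * (cH : ℤ) = 2 * ((i * cH : ℕ) : ℤ) by push_cast; ring, hicH, hH2z, hcHz]
      linear_combination (q : ℤ) * hε2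
    have hKz : 2 * (iK : ℤ) = (r : ℤ) * ((r : ℤ) + ε) := by
      have hne' : (r : ℤ) - ε ≠ 0 := by omega
      refine mul_right_cancel₀ hne' ?_
      rw [← hcKz, show 2 * (iK : ℤ) * (cK : ℤ) = 2 * ((iK * cK : ℕ) : ℤ) by push_cast; ring, N.cardK, hK2z, hcKz]
      linear_combination (r : ℤ) * hε2
    have hRz : (R : ℤ) * ((q : ℤ) - ε) = (r : ℤ) - ε := by
      rw [← hcHz, ← hcKz, ← N.cK_eq]; push_cast; rfl
    have hk := N.two hT4
    obtain ⟨hk4, hk2, -, -⟩ := C.fixT hno
    set k := (fixPts Ω T).ncard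
    have hfix : m = g * (d * f) * R + 1 := N.fix
    have hwz : ∀ s : G, Outer s t a b T → 2 * (w : ℤ) = (q : ℤ) * ((q : ℤ) - ε) := by
      intro s O
      have h := C.outer_swaps I O hq8 hq5 e
      have hne2 : (q : ℤ) + ε ≠ 0 := by omega
      refine mul_right_cancel₀ hne2 ?_
      rw [← hqp, show 2 * (w : ℤ) * (qp F : ℤ) = 2 * ((w * qp F : ℕ) : ℤ) by push_cast; ring, h, hH2z, hqp]
      linear_combination (q : ℤ) * hε2
    rcases hrq with hr | ⟨l, hl, -, hr⟩
    · have hc : cK = cH := by omega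
      have hcard : Nat.card K = Nat.card (stab2 G a b) := by
        have : 2 * Nat.card K = 2 * Nat.card (stab2 G a b) := by rw [hK2, hH2, show r = q from hr]
        omega
      obtain ⟨hR, he⟩ := hsame hcard hc
      rw [hR, mul_one] at hfix
      rcases hcase with hz | ⟨s, O, hts⟩
      · rcases hdir hz with h | h
        · have := N.one h
          subst this
          rw [h] at he
          omega
        · exact EvenArith.same_two (k := k) hiodd (by nlinarith) N.gOdd h (hfix ▸ hmev) he hk hk4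
      · rcases C.outer_fix hno hT4 ht I O hts hq8 hq5 e with hm | hm
        · change m = k at hm
          have h1 : g * (d * f) = d * f := by omega
          rcases Nat.eq_zero_or_pos (d * f) with h0 | h0
          · omega
          · have hg1 : g = 1 := Nat.eq_of_mul_eq_mul_right h0 (h1.trans (one_mul _).symm)
            rw [hg1] at he
            have := C.swaps_pos I
            change 0 < w at this
            nlinarith
        · change m = k ^ 2 at hm
          have hg : (g : ℤ) = (k : ℤ) + 1 := by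
            have h1 : ((g * (d * f) + 1 : ℕ) : ℤ) = ((k ^ 2 : ℕ) : ℤ) := by rw [← hfix, hm]
            have h2 : (k : ℤ) = ((d * f : ℕ) : ℤ) + 1 := by rw [hk]; push_cast; ring
            have h3 : 0 < d * f := by omega
            push_cast at h1 h2
            refine mul_right_cancel₀ (show ((d : ℤ) * f) ≠ 0 by exact_mod_cast h3.ne') ?_
            rw [h2] at h1 ⊢
            linear_combination h1
          refine EvenArith.odd_outer_eq (q := (q : ℤ)) (e := ε) (i := (i : ℤ)) (by omega) hε h4q hiz (hwz s O) hg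
            (by rcases hk4 with h | h <;> omega) (by omega) ?_
          rw [← hfix, hm] at he
          exact_mod_cast he
    · have hr3 : (q : ℤ) ^ 3 ≤ (r : ℤ) := by
        rw [show r = q ^ l from hr]; exact_mod_cast Nat.pow_le_pow_right (by omega) hl
      have hRb := EvenArith.factor_bound (by omega) hε hRz hr3
      have hRd := EvenArith.dvd_count hε (dvd_trans (by norm_num) h4q) hRz hKz
      have hgz : (1 : ℤ) ≤ g := by exact_mod_cast N.gOdd.pos
      have hgo : Odd (g : ℤ) := by exact_mod_cast N.gOdd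
      have heqz : (g : ℤ) ^ 2 * iK = i + w * ((g : ℤ) * (d * f : ℕ) * R + 1) := by
        have h : g ^ 2 * iK = i + w * m := N.eq
        rw [hfix] at h
        exact_mod_cast h
      rcases hcase with hz | ⟨s, O, hts⟩
      · rcases hdir hz with h | h
        · have h1 : (iK : ℤ) = i + ((d * f * R : ℕ) : ℤ) + 1 := by rw [hw1 h]; push_cast; ring
          obtain ⟨u, hu⟩ := hRd
          have hd : (R : ℤ) ∣ i := ⟨u - (d * f : ℕ), by push_cast at h1 ⊢; linear_combination hu - h1⟩
          have hle := Int.le_of_dvd (by exact_mod_cast hiodd.pos) hd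
          have h0 : (0 : ℤ) ≤ i := by positivity
          nlinarith
        · exact EvenArith.odd_direct (q := (q : ℤ)) (by omega) hε hiz
            (by rcases h with h | h <;> [left; right] <;> exact_mod_cast h) hgz hgo hRb hRd heqz
      · rcases C.outer_fix hno hT4 ht I O hts hq8 hq5 e with hm | hm
        · change m = k at hm
          have h1 : g * (d * f) * R = d * f := by omega
          have h0 : 0 < d * f := by omega
          have h2 : g * R = 1 := Nat.eq_of_mul_eq_mul_right h0 (by rw [one_mul]; linarith)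
          have hR1 : R = 1 := Nat.eq_one_of_mul_eq_one_left h2
          rw [hR1] at hRb
          push_cast at hRb
          nlinarith
        · change m = k ^ 2 at hm
          have hRo : Odd (R : ℤ) := by
            rw [Int.odd_iff]
            by_contra hR
            obtain ⟨u, hu⟩ : (2 : ℤ) ∣ R := by omega
            have h8 : (r : ℤ) - ε = 2 * (u * ((q : ℤ) - ε)) := by rw [← hRz, hu]; ring
            obtain ⟨u', hu'⟩ := h4q
            rw [hu'] at h8
            have h8' : (8 : ℤ) ∣ (r : ℤ) - ε := ⟨u * u', by rw [h8]; ring⟩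
            omega
          have hmz : (g : ℤ) * (d * f : ℕ) * R + 1 = (k : ℤ) ^ 2 := by
            have : g * (d * f) * R + 1 = k ^ 2 := hfix ▸ hm
            exact_mod_cast this
          have hgR : (g : ℤ) * R = k + 1 := by
            have h2 : (k : ℤ) = ((d * f : ℕ) : ℤ) + 1 := by rw [hk]; push_cast; ring
            have h3 : 0 < d * f := by omega
            push_cast at hmz h2
            refine mul_right_cancel₀ (show ((d : ℤ) * f) ≠ 0 by exact_mod_cast h3.ne') ?_
            rw [h2] at hmz ⊢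
            linear_combination hmz
          exact EvenArith.odd_outer (q := (q : ℤ)) (by omega) (by exact_mod_cast Nat.odd_iff.mpr (by omega))
            hε hiz (hwz s O) hgz hgo hRo hRz hr3 hKz hmz hgR heqz
  -- wrong Sylow order or too small
  · have : n' = 2 := Nat.pow_right_injective le_rfl (show 2 ^ n' = 2 ^ 2 by rw [← hTn', hTT, hT4])
    subst this
    norm_num at hKn
    have hle := Nat.le_of_dvd (by omega) hdvd
    have hq11 : 11 ≤ Fintype.card F := by
      by_contra hlt
      have hq5' : Fintype.card F = 5 := by omega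
      rw [hq5'] at hH2
      exact h60 (by omega)
    have h10 : 11 * (11 ^ 2 - 1) ≤ Fintype.card F * (Fintype.card F ^ 2 - 1) :=
      Nat.mul_le_mul hq11 (Nat.sub_le_sub_right (Nat.pow_le_pow_left hq11 2) 1)
    omega
  · omega
  · omega
  -- `L₂(2^n)`
  · have : n = 2 := Nat.pow_right_injective le_rfl (show 2 ^ n = 2 ^ 2 by rw [← hTn, ← hTT, hT4'])
    subst this
    exact h60 (by rw [hHn]; norm_num)
  · have hnn : n' = n := Nat.pow_right_injective le_rfl (show 2 ^ n' = 2 ^ n by rw [← hTn', hTT, hTn])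
    subst hnn
    have h3 : 3 ≤ n' := by
      by_contra h
      have : n' = 2 := by omega
      subst this
      exact h60 (by rw [hHn]; norm_num)
    have h8 : 8 ≤ Nat.card T := by
      rw [hTn]; exact (show 8 = 2 ^ 3 by norm_num) ▸ Nat.pow_le_pow_right (by norm_num) h3
    have hcard : Nat.card K = Nat.card (stab2 G a b) := hKn.trans hHn.symm
    have hc : cK = cH := by omega
    rcases hcase with hz | ⟨s, O, -⟩
    · exact hsame3 h8 hz hcard hc
    · obtain ⟨-, he⟩ := hsame hcard hc
      obtain ⟨h, hh, hgh⟩ := N.tower n' hTn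
      have hi : i = (2 ^ n') ^ 2 - 1 := Nat.eq_of_mul_eq_mul_right (show 0 < cH from Nat.card_pos) (by
        rw [hicH, hHn, hcHv, mul_comm])
      have hev : Even n' := by
        obtain ⟨j, hj⟩ := IsPGroup.iff_card.mp (C.kit.isPGroup.to_le (inf_le_left :
          T ⊓ Subgroup.centralizer ({s} : Set G) ≤ T))
        have h := O.card
        rw [hTn, hj, ← pow_mul] at h
        exact ⟨j, by have := Nat.pow_right_injective le_rfl h; omega⟩
      rw [hi] at he
      have hn4 : 4 ≤ n' := by
        obtain ⟨j, hj⟩ := hev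
        omega
      exact EvenArith.e_outer hn4 hev hh hgh (C.swaps_pos I) (hHn ▸ C.swaps_le t O.sa O.sb) he
  · have hn3 : n = 3 := Nat.pow_right_injective le_rfl (show 2 ^ n = 2 ^ 3 by rw [← hTn, ← hTT, hT8'])
    subst hn3
    norm_num at hTn hcHv
    have hi : i = 63 := by rw [hHn, hcHv] at hicH; norm_num at hicH; omega
    have h27 : 27 ∣ q1 := by rw [hq1]; exact (show 27 = 3 ^ 3 by norm_num) ▸ pow_dvd_pow 3 (by omega)
    have hR8 : R * 8 = q1 * (q1 ^ 2 - 1) := by rw [← hcHv, N.cK_eq, hcKv]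
    have h27R : 27 ∣ R := (Nat.Coprime.dvd_mul_right (by norm_num)).mp (hR8 ▸ h27.mul_right _)
    have h27K : 27 ∣ iK := by
      have h := N.cardK
      rw [hK3, hcKv, ree_two_dvd (dvd_trans (by norm_num) h27)] at h
      have := Nat.eq_of_mul_eq_mul_right (Nat.pos_of_ne_zero fun h0 => by
        rw [h0, Nat.mul_eq_zero] at hR8
        have := N.cK_eq
        rw [hcKv, h0] at this
        have h1 : 0 < Nat.card ↥(K ⊓ Subgroup.centralizer ({tK} : Set A)) := Nat.card_pos
        rw [N.cent tK htK htK1, hcKv, h0] at h1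
        omega) h
      rw [this]
      exact ((dvd_pow h27 two_ne_zero)).mul_right _
    rcases hcase with hz | ⟨s, O, -⟩
    · rcases hdir hz with h | h
      · have he := hw1 h
        rw [hi] at he
        obtain ⟨u, hu⟩ := h27R.mul_left (d * f)
        omega
      · refine EvenArith.e_ree (g := g) (D := d * f) (w := w) h27R h27K (by omega) ?_
        rw [← hi, ← N.fix]
        exact N.eq
    · exact hsame1 hTn s O
  · have hn3 : n = 3 := Nat.pow_right_injective le_rfl (show 2 ^ n = 2 ^ 3 by rw [← hTn, ← hTT, hT8'])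
    subst hn3
    rw [hHn, hK4] at hdvd
    norm_num at hdvd
  -- Ree
  · omega
  · have : n' = 3 := Nat.pow_right_injective le_rfl (show 2 ^ n' = 2 ^ 3 by rw [← hTn', hTT, hT8])
    subst this
    norm_num at hKn
    rw [hKn, hH3] at hdvd
    have h3 : 3 ^ 3 ≤ q0 := hq0 ▸ Nat.pow_le_pow_right (by norm_num) (by omega)
    have h9 : 3 ^ 3 ∣ q0 := hq0 ▸ pow_dvd_pow 3 (by omega)
    have := ((h9.trans (dvd_pow_self q0 (by norm_num : (3 : ℕ) ≠ 0))).mul_right _).mul_right _ |>.trans hdvd
    norm_num at this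
  · -- inside Ree
    have hq0pos : 2 ≤ q0 := hq0 ▸ (Nat.le_self_pow (by omega) 3).trans' (by norm_num)
    have mono : ∀ x y : ℕ, 2 ≤ x → x < y → x ^ 3 * (x ^ 3 + 1) * (x - 1) < y ^ 3 * (y ^ 3 + 1) * (y - 1) := fun x y hx hxy =>
      Nat.mul_lt_mul_of_le_of_lt (Nat.mul_le_mul (Nat.pow_le_pow_left hxy.le 3)
        (Nat.add_le_add_right (Nat.pow_le_pow_left hxy.le 3) 1)) (by omega)
        (Nat.mul_pos (pow_pos (by omega) 3) (by omega))
    have hq1pos : 2 ≤ q1 := hq1 ▸ (Nat.le_self_pow (by omega) 3).trans' (by norm_num)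
    have hle : q0 ≤ q1 := by
      by_contra hlt
      have := Nat.le_of_dvd Nat.card_pos hdvd
      rw [hH3, hK3] at this
      have := mono q1 q0 hq1pos (by omega)
      omega
    rcases Nat.eq_or_lt_of_le hle with rfl | hlt
    · have hcard : Nat.card K = Nat.card (stab2 G a b) := hK3.trans hH3.symm
      rcases hcase with hz | ⟨s, O, -⟩
      · exact hsame3 hT8.ge hz hcard (by omega)
      · exact hsame1 hT8 s O
    · have hmm : m0 < m1 := by
        by_contra h
        have : q1 ≤ q0 := hq0 ▸ hq1 ▸ Nat.pow_le_pow_right (by norm_num) (by omega)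
        omega
      set s := 2 * m0 + 1
      have hcH0 : 0 < cH := Nat.card_pos
      have hi : i = q0 ^ 2 * (q0 ^ 2 + 1 - q0) := by
        have h := hicH
        rw [hH3, ree_two_dvd (hq0 ▸ dvd_pow_self 3 (by omega)), ← hcHv] at h
        exact Nat.eq_of_mul_eq_mul_right hcH0 h
      have hiK : iK = q1 ^ 2 * (q1 ^ 2 + 1 - q1) := by
        have h := N.cardK
        rw [hK3, ree_two_dvd (hq1 ▸ dvd_pow_self 3 (by omega)), ← hcKv] at h
        refine Nat.eq_of_mul_eq_mul_right ?_ h
        rw [← N.cent tK htK htK1]; exact Nat.card_pos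
      have hiK3 : 3 ^ (2 * s + 1) ∣ iK := by
        rw [hiK, hq1, ← pow_mul]
        exact (pow_dvd_pow 3 (by omega)).mul_right _
      have hi3 : 3 ^ (2 * s) ∣ i := by
        rw [hi, hq0, ← pow_mul, mul_comm (2 * m0 + 1) 2]
        exact dvd_mul_right _ _
      have hi3' : ¬ 3 ^ (2 * s + 1) ∣ i := by
        rw [hi, hq0, ← pow_mul, mul_comm (2 * m0 + 1) 2]
        intro h
        rw [pow_succ 3 (2 * (2 * m0 + 1))] at h
        have h1 := Nat.dvd_of_mul_dvd_mul_left (by positivity) h
        have h2 : 3 ∣ (3 : ℕ) ^ (2 * m0 + 1) := dvd_pow_self 3 (by omega)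
        have h4 : 3 ∣ (3 : ℕ) ^ (2 * (2 * m0 + 1)) := dvd_pow_self 3 (by omega)
        have h5 : (3 : ℕ) ^ (2 * m0 + 1) ≤ 3 ^ (2 * (2 * m0 + 1)) := Nat.pow_le_pow_right (by norm_num) (by omega)
        simp only [s] at h1
        omega
      have h3R : 3 ∣ R := by
        have h := N.cK_eq
        change R * cH = cK at h
        rw [hcHv, hcKv] at h
        obtain ⟨j, hj⟩ : 3 * q0 ∣ q1 := by
          rw [hq0, hq1, ← pow_succ']
          exact pow_dvd_pow 3 (by omega)
        have h1 : R * (q0 ^ 2 - 1) = 3 * (j * (q1 ^ 2 - 1)) := by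
          refine Nat.eq_of_mul_eq_mul_left (show 0 < q0 by omega) ?_
          calc q0 * (R * (q0 ^ 2 - 1)) = R * (q0 * (q0 ^ 2 - 1)) := by ring
            _ = q1 * (q1 ^ 2 - 1) := h
            _ = _ := by rw [hj]; ring
        refine (Nat.Coprime.dvd_mul_right ?_).mp ⟨_, h1⟩
        rw [Nat.prime_three.coprime_iff_not_dvd]
        intro h2
        have h4 : 3 ∣ q0 ^ 2 := hq0 ▸ dvd_pow (dvd_pow_self 3 (by omega)) two_ne_zero
        have : 1 ≤ q0 ^ 2 := Nat.one_le_pow _ _ (by omega)
        omega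
      rcases hcase with hz | ⟨s', O, -⟩
      · rcases hdir hz with h | h
        · have he := hw1 h
          have h1 : 3 ∣ iK := (dvd_pow_self 3 (by omega)).trans hiK3
          have h2 : 3 ∣ i := (dvd_pow_self 3 (by omega)).trans hi3
          obtain ⟨u, hu⟩ := h3R.mul_left (d * f)
          omega
        · refine EvenArith.ree_ree (g := g) (D := d * f) (w := w) (s := s) (by omega) hiK3 h3R hi3 hi3' h ?_
          rw [← N.fix]
          exact N.eq
      · exact hsame1 hT8 s' O
  · rw [hH3, hK4] at hdvd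
    have h9 : 3 ^ 3 ∣ q0 := hq0 ▸ pow_dvd_pow 3 (by omega)
    have := ((h9.trans (dvd_pow_self q0 (by norm_num : (3 : ℕ) ≠ 0))).mul_right _).mul_right _ |>.trans hdvd
    norm_num at this
  -- `J₁`
  · omega
  · have : n' = 3 := Nat.pow_right_injective le_rfl (show 2 ^ n' = 2 ^ 3 by rw [← hTn', hTT, hT8])
    subst this
    rw [hKn, hH4] at hdvd
    norm_num at hdvd
  · rw [hK3, hH4] at hdvd
    have h5 : 5 ∣ q1 ^ 3 * (q1 ^ 3 + 1) * (q1 - 1) := dvd_trans (by norm_num) hdvd
    obtain ⟨j, hj⟩ : ∃ j, q1 = 3 * 9 ^ j := ⟨m1, by rw [hq1, pow_succ, pow_mul]; ring⟩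
    have h9 : (9 ^ j) % 5 = 1 ∨ (9 ^ j) % 5 = 4 := by
      induction j generalizing q1 m1 with
      | zero => simp
      | succ j ih => 
        clear * - 
        induction j with
        | zero => norm_num
        | succ j ih => rw [pow_succ, Nat.mul_mod]; rcases ih with h | h <;> rw [h] <;> norm_num
    have hq5 : q1 % 5 = 3 ∨ q1 % 5 = 2 := by omega
    rcases hq5 with h | h <;> rw [Nat.dvd_iff_mod_eq_zero] at h5 <;>
    · have e1 : (q1 - 1) % 5 = q1 % 5 - 1 := by omega
      rw [Nat.mul_mod, Nat.mul_mod (q1 ^ 3), Nat.add_mod, Nat.pow_mod, h, e1, h] at h5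
      norm_num at h5
  · have hcard : Nat.card K = Nat.card (stab2 G a b) := hK4.trans hH4.symm
    rcases hcase with hz | ⟨s, O, -⟩
    · exact hsame3 hT8.ge hz hcard (by omega)
    · exact hsame1 hT8 s O

end CfsgLib.StabSimpAb
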