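import Cfsg.Agent.Lib.StabAlt5.Four

/-!
An elementary abelian 2-group with conjugate involutions on a group of odd order: centraliser orders by rank.
-/

set_option autoImplicit false
set_option linter.unusedSectionVars false
set_option linter.style.haveILetI false

namespace CfsgLib.StabSimpAb

open Subgroup CfsgLib.StabAlt5

universe u

variable {M : Type u} [Group M] [Finite M]

/-- The order of the centraliser in `O` of a subgroup. -/
noncomputable def cOrd (O U : Subgroup M) : ℕ := Nat.card ↥(O ⊓ centralizer (U : Set M))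

theorem cOrd_pos (O U : Subgroup M) : 0 < cOrd O U := Nat.card_pos

theorem cOrd_dvd (O : Subgroup M) {U W : Subgroup M} (h : U ≤ W) : cOrd O W ∣ cOrd O U :=
  card_dvd_of_le (inf_le_inf_left _ (centralizer_le h))

theorem card_join {U : Subgroup M} {z : M} (hz : z * z = 1) (hc : ∀ u ∈ U, z * u = u * z) (hzU : z ∉ U) :
    Nat.card ↥(U ⊔ zpowers z) = 2 * Nat.card U := by
  set W : Subgroup M :=
    { carrier := {x | x ∈ U ∨ z * x ∈ U}
      one_mem' := Or.inl (one_mem _)
      mul_mem' := by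
        rintro x y (hx | hx) (hy | hy)
        · exact Or.inl (mul_mem hx hy)
        · exact Or.inr (by rw [← mul_assoc, hc x hx, mul_assoc]; exact mul_mem hx hy)
        · exact Or.inr (by rw [← mul_assoc]; exact mul_mem hx hy)
        · refine Or.inl ?_
          have e : x * y = z * x * (z * y) := by
            calc x * y = z * (z * x) * y := by rw [← mul_assoc z z x, hz, one_mul]
              _ = z * x * z * y := by rw [hc _ hx]
              _ = z * x * (z * y) := by rw [mul_assoc]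
          rw [e]
          exact mul_mem hx hy
      inv_mem' := by
        rintro x (hx | hx)
        · exact Or.inl (inv_mem hx)
        · refine Or.inr ?_
          have e : z * x⁻¹ = (z * x)⁻¹ := by
            have h1 := hc _ hx
            rw [← mul_assoc, hz, one_mul] at h1
            calc z * x⁻¹ = z * (z * x * z)⁻¹ := by rw [← h1]
              _ = (z * z) * ((z * x)⁻¹) := by
                rw [_root_.mul_inv_rev, inv_eq_of_mul_eq_one_left hz, mul_assoc]
              _ = _ := by rw [hz, one_mul]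
          rw [e]
          exact inv_mem hx } with hW
  have hUW : U ⊔ zpowers z = W := by
    refine le_antisymm (sup_le (fun x hx => Or.inl hx) (zpowers_le.mpr (Or.inr (by rw [hz]; exact one_mem _)))) ?_
    rintro x (hx | hx)
    · exact mem_sup_left hx
    · have e : x = z * (z * x) := by rw [← mul_assoc, hz, one_mul]
      rw [e]
      exact mul_mem (mem_sup_right (mem_zpowers z)) (mem_sup_left hx)
  have hset : (W : Set M) = (U : Set M) ∪ (z * ·) '' (U : Set M) := by
    ext x
    constructor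
    · rintro (hx | hx)
      · exact Or.inl hx
      · exact Or.inr ⟨z * x, hx, by show z * (z * x) = x; rw [← mul_assoc, hz, one_mul]⟩
    · rintro (hx | ⟨u, hu, rfl⟩)
      · exact Or.inl hx
      · exact Or.inr (by rw [← mul_assoc, hz, one_mul]; exact hu)
  rw [hUW, show Nat.card W = (W : Set M).ncard from Nat.card_coe_set_eq _, hset, Set.ncard_union_eq,
    Set.ncard_image_of_injective _ (mul_right_injective z), two_mul, show Nat.card U = (U : Set M).ncard from
      Nat.card_coe_set_eq _]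
  refine Set.disjoint_left.mpr fun x hx ⟨u, hu, e⟩ => hzU ?_
  rw [show z = x * u⁻¹ by rw [← show z * u = x from e, mul_inv_cancel_right]]
  exact mul_mem hx (inv_mem hu)

variable {O T : Subgroup M} (hn : O.Normal) (hO : Odd (Nat.card O)) (hT : ∀ x ∈ T, x * x = 1)

include hT in
theorem elem_comm {x y : M} (hx : x ∈ T) (hy : y ∈ T) : x * y = y * x := by
  have h := hT _ (mul_mem hx hy)
  calc x * y = (x * y)⁻¹ := eq_inv_of_mul_eq_one_left h
    _ = y * x := by rw [_root_.mul_inv_rev, inv_eq_of_mul_eq_one_left (hT x hx), inv_eq_of_mul_eq_one_left (hT y hy)]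

include hn hO hT

/-- The four group formula inside the centraliser of `U`. -/
theorem cOrd_step {U : Subgroup M} (hU : U ≤ T) {z t : M} (hz : z ∈ T) (ht : t ∈ T) (hzU : z ∉ U)
    (htU : t ∉ U ⊔ zpowers z) :
    cOrd O U * cOrd O (U ⊔ zpowers z ⊔ zpowers t) ^ 2 =
      cOrd O (U ⊔ zpowers z) * cOrd O (U ⊔ zpowers t) * cOrd O (U ⊔ zpowers (z * t)) := by
  have z1 : z ≠ 1 := fun e => hzU (e ▸ one_mem _)
  have t1 : t ≠ 1 := fun e => htU (e ▸ one_mem _)
  have ne : z ≠ t := fun e => htU (e ▸ mem_sup_right (mem_zpowers z))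
  set X := O ⊓ centralizer (U : Set M)
  have hnX : ∀ w ∈ T, ∀ x ∈ X, w * x * w⁻¹ ∈ X := by
    intro w hw x hx
    refine ⟨hn.conj_mem x hx.1 w, mem_centralizer_iff.mpr fun u hu => ?_⟩
    have h1 := mem_centralizer_iff.mp hx.2 u hu
    have h2 := elem_comm hT hw (hU hu)
    calc u * (w * x * w⁻¹) = w * (u * x) * w⁻¹ := by rw [← mul_assoc u, ← mul_assoc u, ← h2]; group
      _ = w * (x * u) * w⁻¹ := by rw [h1]
      _ = w * x * w⁻¹ * u := by
        rw [show w * (x * u) * w⁻¹ = w * x * (u * w⁻¹) by group]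
        have h3 : u * w⁻¹ = w⁻¹ * u := (elem_comm hT (inv_mem hw) (hU hu)).symm
        rw [h3]; group
  let V : Subgroup M := zpowers z ⊔ zpowers t
  have hV : ∀ x, x ∈ V ↔ x = 1 ∨ x = z ∨ x = t ∨ x = z * t := by
    have hjoin := card_join (U := zpowers z) (hT t ht) (fun u hu => elem_comm hT ht (zpowers_le.mpr hz hu))
      (fun h => htU (mem_sup_right h))
    rw [Nat.card_zpowers, orderOf_eq_prime (by rw [pow_two]; exact hT z hz) z1] at hjoin
    have hsub : ({1, z, t, z * t} : Set M) ⊆ (V : Set M) := by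
      rintro x (rfl | rfl | rfl | rfl)
      exacts [one_mem _, mem_sup_left (mem_zpowers _), mem_sup_right (mem_zpowers _),
        mul_mem (mem_sup_left (mem_zpowers _)) (mem_sup_right (mem_zpowers _))]
    have d0 : z * t ≠ 1 := fun e => ne (by rw [eq_inv_of_mul_eq_one_left e, inv_eq_of_mul_eq_one_left (hT t ht)])
    have d1 : z ≠ z * t := fun e => t1 (mul_eq_left.mp e.symm)
    have d2 : t ≠ z * t := fun e => z1 (mul_eq_right.mp e.symm)
    have heq : ({1, z, t, z * t} : Set M) = (V : Set M) := Set.eq_of_subset_of_ncard_le hsub (by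
      rw [Set.ncard_insert_of_notMem (by simp [z1.symm, t1.symm, d0.symm]),
        Set.ncard_insert_of_notMem (by simp [ne, d1]), Set.ncard_insert_of_notMem (by simp [d2]), Set.ncard_singleton,
        ← Nat.card_coe_set_eq]
      exact hjoin.le)
    intro x
    rw [← SetLike.mem_coe, ← heq]
    simp
  have hzt : Commute z t := elem_comm hT hz ht
  have h := four_formula (X := X) (hO.of_dvd_nat (card_dvd_of_le inf_le_left)) (hT z hz) (hT t ht) hzt z1 t1 ne
    (hnX z hz) (hnX t ht) hV
  have key : ∀ w : M, X ⊓ centralizer ({w} : Set M) = O ⊓ centralizer ((U ⊔ zpowers w : Subgroup M) : Set M) := by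
    intro w
    refine le_antisymm (fun x hx => ⟨hx.1.1, mem_centralizer_iff.mpr fun y hy => ?_⟩) fun x hx =>
      ⟨⟨hx.1, mem_centralizer_iff.mpr fun y hy => mem_centralizer_iff.mp hx.2 y (mem_sup_left hy)⟩,
        mem_centralizer_singleton_iff.mpr (mem_centralizer_iff.mp hx.2 w (mem_sup_right (mem_zpowers w))).symm⟩
    have hle : U ⊔ zpowers w ≤ centralizer ({x} : Set M) := sup_le
      (fun y hy => mem_centralizer_singleton_iff.mpr (mem_centralizer_iff.mp hx.1.2 y hy))
      (zpowers_le.mpr (mem_centralizer_singleton_iff.mpr (mem_centralizer_singleton_iff.mp hx.2).symm))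
    exact mem_centralizer_singleton_iff.mp (hle hy)
  have keyV : X ⊓ centralizer (V : Set M) =
      O ⊓ centralizer ((U ⊔ zpowers z ⊔ zpowers t : Subgroup M) : Set M) := by
    refine le_antisymm (fun x hx => ⟨hx.1.1, mem_centralizer_iff.mpr fun y hy => ?_⟩) fun x hx =>
      ⟨⟨hx.1, mem_centralizer_iff.mpr fun y hy =>
        mem_centralizer_iff.mp hx.2 y (mem_sup_left (mem_sup_left hy))⟩, mem_centralizer_iff.mpr fun y hy =>
        mem_centralizer_iff.mp hx.2 y ((sup_le (le_sup_right.trans le_sup_left) le_sup_right : V ≤ U ⊔ zpowers z ⊔ zpowers t) hy)⟩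
    have hle : U ⊔ zpowers z ⊔ zpowers t ≤ centralizer ({x} : Set M) := sup_le (sup_le
      (fun y hy => mem_centralizer_singleton_iff.mpr (mem_centralizer_iff.mp hx.1.2 y hy))
      (zpowers_le.mpr (mem_centralizer_singleton_iff.mpr
        (mem_centralizer_iff.mp hx.2 z (mem_sup_left (mem_zpowers z))))))
      (zpowers_le.mpr (mem_centralizer_singleton_iff.mpr
        (mem_centralizer_iff.mp hx.2 t (mem_sup_right (mem_zpowers t)))))
    exact mem_centralizer_singleton_iff.mp (hle hy)
  rw [key, key, key, keyV] at h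
  exact h

variable (hconj : ∀ x ∈ T, x ≠ 1 → ∀ y ∈ T, y ≠ 1 → cOrd O (zpowers x) = cOrd O (zpowers y))
include hconj

/-- Equal ranks, equal centraliser orders. -/
theorem cOrd_eq : ∀ (j : ℕ) (U U' : Subgroup M), U ≤ T → U' ≤ T → Nat.card U = 2 ^ j → Nat.card U' = 2 ^ j →
    cOrd O U = cOrd O U' := by
  haveI : Fact (Nat.Prime 2) := ⟨Nat.prime_two⟩
  intro j
  induction j using Nat.strong_induction_on with
  | _ j ih =>
    intro U U' hU hU' hc hc'
    match j with
    | 0 => rw [card_eq_one.mp (show Nat.card U = 1 by simpa using hc),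
        card_eq_one.mp (show Nat.card U' = 1 by simpa using hc')]
    | 1 =>
      have get : ∀ W : Subgroup M, Nat.card W = 2 ^ 1 → ∃ x ∈ W, x ≠ 1 ∧ W = zpowers x := by
        intro W hW
        obtain ⟨x, hx, hx1⟩ := W.bot_or_exists_ne_one.resolve_left fun e => by
          rw [e, card_bot] at hW; norm_num at hW
        refine ⟨x, hx, hx1, (eq_of_le_of_card_ge (zpowers_le.mpr hx) ?_).symm⟩
        rw [hW, pow_one, Nat.card_zpowers]
        have := orderOf_pos x
        have : orderOf x ≠ 1 := fun e => hx1 (orderOf_eq_one_iff.mp e)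
        omega
      obtain ⟨x, hx, x1, rfl⟩ := get U hc
      obtain ⟨y, hy, y1, rfl⟩ := get U' hc'
      exact hconj x (hU hx) x1 y (hU' hy) y1
    | j + 2 =>
      have main : ∀ W : Subgroup M, W ≤ T → Nat.card W = 2 ^ (j + 2) → ∃ W0 W1 : Subgroup M,
          W0 ≤ T ∧ W1 ≤ T ∧ Nat.card W0 = 2 ^ j ∧ Nat.card W1 = 2 ^ (j + 1) ∧
          cOrd O W0 * cOrd O W ^ 2 = cOrd O W1 ^ 3 := by
        intro W hW hWc
        obtain ⟨W0', hW0c'⟩ := Sylow.exists_subgroup_card_pow_prime 2 (G := W) (n := j)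
          (by rw [hWc]; exact pow_dvd_pow 2 (by omega))
        set W0 := W0'.map W.subtype
        have hW0W : W0 ≤ W := map_subtype_le _
        have hW0c : Nat.card W0 = 2 ^ j := by rw [card_map_of_injective W.subtype_injective, hW0c']
        obtain ⟨z, hzW, hz⟩ := SetLike.not_le_iff_exists.mp (fun hle : W ≤ W0 => by
          have := card_le_of_le hle
          rw [hWc, hW0c] at this
          have := (Nat.pow_lt_pow_iff_right (show 1 < 2 by norm_num)).mpr (show j < j + 2 by omega)
          omega)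
        set W1 := W0 ⊔ zpowers z
        have hW1c : Nat.card W1 = 2 ^ (j + 1) := by
          rw [card_join (hT z (hW hzW)) (fun u hu => elem_comm hT (hW hzW) (hW (hW0W hu))) hz, hW0c, pow_succ']
        have hW1W : W1 ≤ W := sup_le hW0W (zpowers_le.mpr hzW)
        obtain ⟨t, htW, ht⟩ := SetLike.not_le_iff_exists.mp (fun hle : W ≤ W1 => by
          have := card_le_of_le hle
          rw [hWc, hW1c] at this
          have := (Nat.pow_lt_pow_iff_right (show 1 < 2 by norm_num)).mpr (show j + 1 < j + 2 by omega)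
          omega)
        have hW2 : W1 ⊔ zpowers t = W := eq_of_le_of_card_ge (sup_le hW1W (zpowers_le.mpr htW)) (by
          rw [card_join (hT t (hW htW)) (fun u hu => elem_comm hT (hW htW) (hW (hW1W hu))) ht, hW1c, hWc, pow_succ'])
        refine ⟨W0, W1, hW0W.trans hW, hW1W.trans hW, hW0c, hW1c, ?_⟩
        have h := cOrd_step hn hO hT (hW0W.trans hW) (hW hzW) (hW htW) hz ht
        rw [hW2] at h
        have hc1 : ∀ w ∈ W, w ∉ W0 → cOrd O (W0 ⊔ zpowers w) = cOrd O W1 := fun w hw hw0 =>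
          ih (j + 1) (by omega) _ _ (sup_le (hW0W.trans hW) (zpowers_le.mpr (hW hw))) (hW1W.trans hW)
            (by rw [card_join (hT w (hW hw)) (fun u hu => elem_comm hT (hW hw) (hW (hW0W hu))) hw0, hW0c, pow_succ'])
            hW1c
        rw [h, hc1 t htW (fun h' => ht (mem_sup_left h')), hc1 (z * t) (mul_mem hzW htW) (fun h' => ht ?_)]
        · ring
        · rw [show t = z⁻¹ * (z * t) by group]
          exact mul_mem (inv_mem (mem_sup_right (mem_zpowers z))) (mem_sup_left h')
      obtain ⟨A0, A1, hA0, hA1, cA0, cA1, eA⟩ := main U hU hc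
      obtain ⟨B0, B1, hB0, hB1, cB0, cB1, eB⟩ := main U' hU' hc'
      rw [ih (j + 1) (by omega) A1 B1 hA1 hB1 cA1 cB1, ← eB, ih j (by omega) A0 B0 hA0 hB0 cA0 cB0] at eA
      exact (Nat.pow_left_injective two_ne_zero) (Nat.eq_of_mul_eq_mul_left (cOrd_pos O B0) eA)

/-- The ratios of the centraliser orders. -/
theorem ratios {a : ℕ} (ha : 2 ≤ a) (hTc : Nat.card T = 2 ^ a) {t : M} (ht : t ∈ T) (ht1 : t ≠ 1) :
    ∃ g d : ℕ, 0 < d ∧ Nat.card ↥(O ⊓ centralizer ({t} : Set M)) = g * d ∧
      Nat.card O = g ^ 2 * (g * d) ∧ (a = 2 → d = cOrd O T) ∧ cOrd O T ≤ d ∧ (3 ≤ a → ∃ h, g = h * h ∧ h ∣ d) ∧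
      (∃ h, Odd h ∧ g = h ^ 2 ^ (a - 2)) ∧ Odd g := by
  haveI : Fact (Nat.Prime 2) := ⟨Nat.prime_two⟩
  classical
  have hex : ∀ j, j ≤ a → ∃ U : Subgroup M, U ≤ T ∧ Nat.card U = 2 ^ j := by
    intro j hj
    obtain ⟨U', hU'⟩ := Sylow.exists_subgroup_card_pow_prime 2 (G := T) (n := j) (hTc ▸ pow_dvd_pow 2 hj)
    exact ⟨U'.map T.subtype, map_subtype_le _, by rw [card_map_of_injective T.subtype_injective, hU']⟩
  choose! U hUT hUc using hex
  set cs : ℕ → ℕ := fun j => cOrd O (U j)
  have hcs : ∀ j ≤ a, ∀ W ≤ T, Nat.card W = 2 ^ j → cOrd O W = cs j := fun j hj W hW hc =>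
    cOrd_eq hn hO hT hconj j W (U j) hW (hUT j hj) hc (hUc j hj)
  -- a chain step
  have hstep : ∀ j, j + 2 ≤ a → cs (j + 1) ∣ cs j ∧ cs (j + 2) ∣ cs (j + 1) ∧
      cs j * cs (j + 2) ^ 2 = cs (j + 1) ^ 3 := by
    intro j hj
    obtain ⟨z, hzT, hz⟩ := SetLike.not_le_iff_exists.mp (fun hle : T ≤ U j => by
      have h1 := card_le_of_le hle
      rw [hTc, hUc j (by omega)] at h1
      have := (Nat.pow_le_pow_iff_right (show 1 < 2 by norm_num)).mp h1
      omega)
    have hU0 := hUT j (by omega)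
    set W1 := U j ⊔ zpowers z
    have hW1T : W1 ≤ T := sup_le hU0 (zpowers_le.mpr hzT)
    have hW1c : Nat.card W1 = 2 ^ (j + 1) := by
      rw [card_join (hT z hzT) (fun u hu => elem_comm hT hzT (hU0 hu)) hz, hUc j (by omega), pow_succ']
    obtain ⟨w, hwT, hw⟩ := SetLike.not_le_iff_exists.mp (fun hle : T ≤ W1 => by
      have h1 := card_le_of_le hle
      rw [hTc, hW1c] at h1
      have := (Nat.pow_le_pow_iff_right (show 1 < 2 by norm_num)).mp h1
      omega)
    have hW2T : W1 ⊔ zpowers w ≤ T := sup_le hW1T (zpowers_le.mpr hwT)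
    have hW2c : Nat.card ↥(W1 ⊔ zpowers w) = 2 ^ (j + 2) := by
      rw [card_join (hT w hwT) (fun u hu => elem_comm hT hwT (hW1T hu)) hw, hW1c, ← pow_succ']
    have h := cOrd_step hn hO hT hU0 hzT hwT hz hw
    have hc1 : ∀ x ∈ T, x ∉ U j → cOrd O (U j ⊔ zpowers x) = cs (j + 1) := fun x hx hx0 =>
      hcs (j + 1) (by omega) _ (sup_le hU0 (zpowers_le.mpr hx))
        (by rw [card_join (hT x hx) (fun u hu => elem_comm hT hx (hU0 hu)) hx0, hUc j (by omega), pow_succ'])
    have e2 := hcs (j + 2) hj _ hW2T hW2c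
    refine ⟨hcs (j + 1) (by omega) _ hW1T hW1c ▸ cOrd_dvd O le_sup_left,
      e2 ▸ hcs (j + 1) (by omega) _ hW1T hW1c ▸ cOrd_dvd O le_sup_left, ?_⟩
    rw [e2, hc1 z hzT hz, hc1 w hwT (fun h' => hw (mem_sup_left h')), hc1 (z * w) (mul_mem hzT hwT)
      (fun h' => hw ?_)] at h
    · exact h.trans (by ring)
    · rw [show w = z⁻¹ * (z * w) by group]
      exact mul_mem (inv_mem (mem_sup_right (mem_zpowers z))) (mem_sup_left h')
  set r : ℕ → ℕ := fun j => cs j / cs (j + 1)
  have hr : ∀ j, j + 1 ≤ a → cs j = r j * cs (j + 1) := fun j hj => by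
    have hd : cs (j + 1) ∣ cs j := by
      rcases Nat.lt_or_ge (j + 1) a with h | h
      · exact (hstep j (by omega)).1
      · obtain ⟨j', rfl⟩ : ∃ j', j = j' + 1 := ⟨j - 1, by omega⟩
        exact (hstep j' (by omega)).2.1
    exact (Nat.div_mul_cancel hd).symm
  have hpos : ∀ j, 0 < cs j := fun j => cOrd_pos O _
  have hrr : ∀ j, j + 2 ≤ a → r j = r (j + 1) ^ 2 := by
    intro j hj
    have h := (hstep j hj).2.2
    rw [hr j (by omega), hr (j + 1) (by omega)] at h
    have hr1 : 0 < r (j + 1) := Nat.pos_of_mul_pos_right (hr (j + 1) (by omega) ▸ hpos (j + 1))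
    refine Nat.eq_of_mul_eq_mul_right (Nat.mul_pos hr1 (pow_pos (hpos (j + 2)) 3)) ?_
    calc r j * (r (j + 1) * cs (j + 2) ^ 3) = r j * (r (j + 1) * cs (j + 2)) * cs (j + 2) ^ 2 := by ring
      _ = (r (j + 1) * cs (j + 2)) ^ 3 := h
      _ = _ := by ring
  have hodd : ∀ j, j + 1 ≤ a → Odd (r j) := fun j hj => by
    have h1 : cs j ∣ Nat.card O := card_dvd_of_le inf_le_left
    exact (Nat.odd_mul.mp (hr j hj ▸ hO.of_dvd_nat h1)).1
  have hchain : ∀ i, i + 2 ≤ a → r (a - 2 - i) = r (a - 1) ^ 2 ^ (i + 1) := by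
    intro i
    induction i with
    | zero =>
      intro _
      rw [hrr (a - 2 - 0) (by omega), show a - 2 - 0 + 1 = a - 1 by omega]
      norm_num
    | succ i ih =>
      intro hi
      rw [hrr (a - 2 - (i + 1)) (by omega), show a - 2 - (i + 1) + 1 = a - 2 - i by omega, ih (by omega),
        ← pow_mul, ← pow_succ]
  have h0 : cs 0 = Nat.card O := by
    show cOrd O (U 0) = _
    rw [card_eq_one.mp (show Nat.card (U 0) = 1 by simpa using hUc 0 (by omega))]
    show Nat.card ↥(O ⊓ centralizer ((⊥ : Subgroup M) : Set M)) = _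
    rw [show O ⊓ centralizer ((⊥ : Subgroup M) : Set M) = O from
      inf_eq_left.mpr fun x _ => mem_centralizer_iff.mpr fun y hy => by
        rw [mem_bot.mp hy, one_mul, mul_one]]
  have h1 : Nat.card ↥(O ⊓ centralizer ({t} : Set M)) = cs 1 := by
    rw [← hcs 1 (by omega) (zpowers t) (zpowers_le.mpr ht) (by
      rw [Nat.card_zpowers, orderOf_eq_prime (by rw [pow_two]; exact hT t ht) ht1, pow_one])]
    show _ = Nat.card ↥(O ⊓ centralizer ((zpowers t : Subgroup M) : Set M))
    rw [zpowers_eq_closure, centralizer_closure]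
  refine ⟨r 1, cs 2, hpos 2, by rw [h1, hr 1 (by omega)], ?_, fun ha2 => ?_, Nat.le_of_dvd (hpos 2) (cOrd_dvd O (hUT 2 ha)), fun ha3 => ?_, ⟨r (a - 1),
    hodd _ (by omega), ?_⟩, hodd 1 (by omega)⟩
  · rw [← h0, hr 0 (by omega), hr 1 (by omega), hrr 0 (by omega)]
  · subst ha2
    exact (hcs 2 le_rfl T le_rfl hTc).symm
  · refine ⟨r 2, by rw [hrr 1 (by omega), pow_two], ?_⟩
    rw [hr 2 (by omega)]
    exact dvd_mul_right _ _
  · rcases Nat.eq_or_lt_of_le ha with rfl | ha3
    · norm_num
    · have h := hchain (a - 3) (by omega)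
      rw [show a - 2 - (a - 3) = 1 by omega, show a - 3 + 1 = a - 2 by omega] at h
      exact h

end CfsgLib.StabSimpAb
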