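import Cfsg.Agent.Lib.StabSimpAb.Kit
import Cfsg.Agent.Lib.GW.Model.Psl
import Cfsg.Agent.S0343

/-!
The orders of the simple groups with abelian Sylow 2-subgroups and of their involution centralisers.
-/

set_option autoImplicit false
set_option linter.unusedSectionVars false
set_option linter.style.haveILetI false

namespace CfsgLib.StabSimpAb

open Subgroup

universe u

local notation "PSL₂[" F "]" => Matrix.ProjectiveSpecialLinearGroup (Fin 2) F

variable {G : Type u} [Group G] [Finite G]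

/-- Every involution of `T` has centraliser of order `k` in `H`. -/
def CentCard (H T : Subgroup G) (k : ℕ) : Prop :=
  ∀ t ∈ T, t ≠ 1 → Nat.card ↥(H ⊓ centralizer ({t} : Set G)) = k

/-- `L₂(q)`, `q ≡ 3, 5 (mod 8)`. -/
def OddType (H T : Subgroup G) : Prop :=
  ∃ (F : Type) (_ : Field F) (_ : Fintype F), (Fintype.card F % 8 = 3 ∨ Fintype.card F % 8 = 5) ∧
    5 ≤ Fintype.card F ∧ Nat.card T = 4 ∧ 2 * Nat.card H = Fintype.card F * (Fintype.card F ^ 2 - 1) ∧
    Nonempty (H ≃* PSL₂[F]) ∧
    CentCard H T (if Fintype.card F % 4 = 1 then Fintype.card F - 1 else Fintype.card F + 1)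

/-- `L₂(2^n)`. -/
def EvenType (H T : Subgroup G) : Prop :=
  ∃ n : ℕ, 2 ≤ n ∧ Nat.card T = 2 ^ n ∧ Nat.card H = 2 ^ n * ((2 ^ n) ^ 2 - 1) ∧ CentCard H T (2 ^ n)

/-- Ree type. -/
def ReeType (H T : Subgroup G) : Prop :=
  ∃ m q : ℕ, 1 ≤ m ∧ q = 3 ^ (2 * m + 1) ∧ Nat.card T = 8 ∧ Nat.card H = q ^ 3 * (q ^ 3 + 1) * (q - 1) ∧
    CentCard H T (q * (q ^ 2 - 1))

/-- The order of `J₁`. -/
def JOneType (H T : Subgroup G) : Prop :=
  Nat.card T = 8 ∧ Nat.card H = 175560 ∧ CentCard H T 120

/-- The four types. -/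
def Orders (H T : Subgroup G) : Prop := OddType H T ∨ EvenType H T ∨ ReeType H T ∨ JOneType H T

variable {H T : Subgroup G}

theorem card_cent_sub {t : G} (ht : t ∈ H) :
    Nat.card ↥(H ⊓ centralizer ({t} : Set G)) = Nat.card (centralizer ({⟨t, ht⟩} : Set H)) :=
  Nat.card_congr
    { toFun := fun x => ⟨⟨x.1, x.2.1⟩, mem_centralizer_singleton_iff.mpr
        (Subtype.ext (mem_centralizer_singleton_iff.mp x.2.2))⟩
      invFun := fun x => ⟨(x.1 : G), x.1.2, mem_centralizer_singleton_iff.mpr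
        (congrArg Subtype.val (mem_centralizer_singleton_iff.mp x.2))⟩
      left_inv := fun _ => rfl
      right_inv := fun _ => rfl }

theorem card_cent_map {A B : Type*} [Group A] [Group B] (e : A ≃* B) (x : A) :
    Nat.card (centralizer ({x} : Set A)) = Nat.card (centralizer ({e x} : Set B)) :=
  Nat.card_congr
    { toFun := fun y => ⟨e y, mem_centralizer_singleton_iff.mpr
        (by rw [← map_mul, mem_centralizer_singleton_iff.mp y.2, map_mul])⟩
      invFun := fun y => ⟨e.symm y, mem_centralizer_singleton_iff.mpr (e.injective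
        (by rw [map_mul, map_mul, e.apply_symm_apply, mem_centralizer_singleton_iff.mp y.2]))⟩
      left_inv := fun y => Subtype.ext (e.symm_apply_apply _)
      right_inv := fun y => Subtype.ext (e.apply_symm_apply _) }

/-- The centraliser orders agree along `T`. -/
theorem Kit.centCard (K : Kit H T) {t : G} (ht : t ∈ T) (ht1 : t ≠ 1) :
    CentCard H T (Nat.card ↥(H ⊓ centralizer ({t} : Set G))) := by
  intro v hv hv1
  obtain ⟨h, hh, he⟩ := K.conj_all (K.le ht) (K.le hv) (K.sq t ht) ht1 (K.sq v hv) hv1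
  rw [card_cent_sub (K.le ht), card_cent_sub (K.le hv), card_cent_map (MulAut.conj (⟨h, hh⟩ : H)) ⟨t, K.le ht⟩]
  have e : MulAut.conj (⟨h, hh⟩ : H) ⟨t, K.le ht⟩ = ⟨v, K.le hv⟩ := Subtype.ext he
  rw [e]

/-- The order of the Sylow subgroup, from that of any Sylow subgroup. -/
theorem Kit.card_T (K : Kit H T) : Nat.card T = 2 ^ (Nat.card H).factorization 2 := by
  haveI : Fact (Nat.Prime 2) := ⟨Nat.prime_two⟩
  obtain ⟨P, hP⟩ := K.exists_sylow
  rw [← Sylow.card_eq_multiplicity P, hP, Nat.card_congr (subgroupOfEquivOfLe K.le).toEquiv]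

/-- A kit has one of the four types. -/
theorem Kit.orders (K : Kit H T) : Orders H T := by
  classical
  haveI : Fact (Nat.Prime 2) := ⟨Nat.prime_two⟩
  haveI := K.simple
  have hab : ∀ S : Sylow 2 H, IsMulCommutative (S : Subgroup H) := by
    intro S
    obtain ⟨P, hP⟩ := K.exists_sylow
    obtain ⟨g, rfl⟩ := MulAction.exists_smul_eq H P S
    refine ⟨⟨fun x y => Subtype.ext ?_⟩⟩
    obtain ⟨x', hx', hx''⟩ := (SetLike.ext_iff.mp (Sylow.coe_subgroup_smul (g := g) (P := P)) (x : H)).mp x.2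
    obtain ⟨y', hy', hy''⟩ := (SetLike.ext_iff.mp (Sylow.coe_subgroup_smul (g := g) (P := P)) (y : H)).mp y.2
    show (x : H) * y = y * x
    rw [← hx'', ← hy'']
    show MulAut.conj g x' * MulAut.conj g y' = MulAut.conj g y' * MulAut.conj g x'
    rw [← map_mul, ← map_mul]
    congr 1
    exact Subtype.ext (K.comm (show (x' : G) ∈ T from hP ▸ hx' |> mem_subgroupOf.mp)
      (show (y' : G) ∈ T from hP ▸ hy' |> mem_subgroupOf.mp))
  obtain ⟨t, ht, ht1⟩ := (T.bot_or_exists_ne_one).resolve_left fun e => by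
    have h4 := K.four
    rw [e, card_bot] at h4
    omega
  set tH : H := ⟨t, K.le ht⟩ with htH
  have t2 : tH * tH = 1 := Subtype.ext (K.sq t ht)
  have t1 : tH ≠ 1 := fun e => ht1 (congrArg Subtype.val e)
  rcases WalterAb.listed_of_P (fun X _ _ => Walter.p_all X) H K.simple K.nonab hab with
    ⟨F, iF, iFt, hq, ⟨e⟩⟩ | hJ
  · set q := Fintype.card F with hqdef
    have he2 : e tH * e tH = 1 := by rw [← map_mul, t2, map_one]
    have he1 : e tH ≠ 1 := fun h => t1 (e.injective (h.trans (map_one e).symm))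
    have hcard : Nat.card H = Nat.card PSL₂[F] := Nat.card_congr e.toEquiv
    rcases hq with ⟨hq8, hq5⟩ | ⟨n, hn, hc⟩
    · refine Or.inl ⟨F, iF, iFt, hq8, hq5, ?_, ?_, ⟨e⟩, ?_⟩
      · have hT := (kit_of_good K.simple K.nonab
          ((WalterAb.Listed.good (K := H) (Or.inl ⟨F, iF, iFt, Or.inl ⟨hq8, hq5⟩, ⟨e⟩⟩)) default)).card_T
        rw [K.card_T]
        have h2 : 2 * Nat.card PSL₂[F] = q * (q ^ 2 - 1) := by
          rw [← DicksonFull.card_psl (F := F), show Nat.gcd 2 (q - 1) = 2 by
            refine Nat.gcd_eq_left ?_; omega]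
        have hpos : 0 < Nat.card PSL₂[F] := Nat.card_pos
        rw [hcard]
        have h8 : q % 16 = 3 ∨ q % 16 = 5 ∨ q % 16 = 11 ∨ q % 16 = 13 := by omega
        have hsq : (q * (q ^ 2 - 1)) % 16 = 8 := by
          have e1 : q ^ 2 % 16 = (q % 16) ^ 2 % 16 := Nat.pow_mod q 2 16
          have h1 : 1 ≤ q ^ 2 := Nat.one_le_pow _ _ (by omega)
          rw [Nat.mul_mod]
          rcases h8 with h | h | h | h <;> rw [h] at e1 <;> norm_num at e1 <;> rw [h] <;> omega
        have hn0 := hpos.ne'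
        have hd4 := (Nat.prime_two.pow_dvd_iff_le_factorization (k := 2) hn0).mp
          (show 2 ^ 2 ∣ Nat.card PSL₂[F] by omega)
        have hd8 : ¬ 3 ≤ (Nat.card PSL₂[F]).factorization 2 := fun h => by
          have := (Nat.prime_two.pow_dvd_iff_le_factorization (k := 3) hn0).mpr h
          omega
        rw [show (Nat.card PSL₂[F]).factorization 2 = 2 by omega]
        rfl
      · rw [hcard, ← DicksonFull.card_psl (F := F), show Nat.gcd 2 (q - 1) = 2 by
          refine Nat.gcd_eq_left ?_; omega]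
      · have hodd : Odd q := Nat.odd_iff.mpr (by omega)
        have hc : Nat.card ↥(H ⊓ centralizer ({t} : Set G)) = if q % 4 = 1 then q - 1 else q + 1 := by
          rw [card_cent_sub (K.le ht), card_cent_map e]
          have key : ∀ ε : ℤ, ε = 1 ∨ ε = -1 → (4 : ℤ) ∣ (q : ℤ) - ε →
              (Nat.card (centralizer ({e tH} : Set PSL₂[F])) : ℤ) = (q : ℤ) - ε := fun ε hε h4 =>
            GW.Model.psl_card_centralizer hodd (by omega) hε h4 he2 he1
          show Nat.card (centralizer ({e tH} : Set PSL₂[F])) = _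
          split
          · have := key 1 (Or.inl rfl) (by omega)
            omega
          · have := key (-1) (Or.inr rfl) (by omega)
            omega
        exact hc ▸ K.centCard ht ht1
    · haveI : CharP F 2 := by
        obtain ⟨p, hp⟩ := CharP.exists F
        obtain ⟨k, hpp, hk⟩ := FiniteField.card F p
        have : p = 2 := (Nat.prime_dvd_prime_iff_eq hpp Nat.prime_two).mp
          (hpp.dvd_of_dvd_pow (n := n) (by rw [← hc, hqdef, hk]; exact dvd_pow_self p k.ne_zero))
        exact this ▸ hp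
      have hq2 : 2 ≤ q := by rw [hc]; exact Nat.le_self_pow (by omega) 2
      have hev : q % 2 = 0 := by rw [hc]; exact Nat.mod_eq_zero_of_dvd (dvd_pow_self 2 (by omega))
      have hcardH : Nat.card H = 2 ^ n * ((2 ^ n) ^ 2 - 1) := by
        rw [hcard, ← hc, ← DicksonFull.card_psl (F := F),
          show Nat.gcd 2 (q - 1) = 1 from Nat.coprime_iff_gcd_eq_one.mp
            (Nat.coprime_two_left.mpr (Nat.odd_iff.mpr (by omega))), one_mul]
      set U : Sylow 2 PSL₂[F] := PSL2.uSylow 2
      have hU : Nat.card (U : Subgroup PSL₂[F]) = q := DicksonFull.card_uSylow (F := F) 2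
      refine Or.inr (Or.inl ⟨n, hn, ?_, hcardH, ?_⟩)
      · rw [K.card_T, hcard, ← Sylow.card_eq_multiplicity U, hU, hc]
      · have hP : IsPGroup 2 (zpowers (e tH)) := fun y => ⟨1, Subtype.ext (by
          obtain ⟨y, k, rfl⟩ := y
          show ((e tH) ^ k) ^ 2 ^ 1 = 1
          rw [pow_one, ← zpow_natCast, ← zpow_mul, mul_comm, zpow_mul, zpow_natCast, pow_two, he2, one_zpow])⟩
        obtain ⟨Q, hQ⟩ := hP.exists_le_sylow
        obtain ⟨g, hg⟩ := MulAction.exists_smul_eq PSL₂[F] Q U
        have hu : g * e tH * g⁻¹ ∈ (U : Subgroup PSL₂[F]) := by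
          rw [← hg, Sylow.coe_subgroup_smul]
          exact ⟨_, hQ (mem_zpowers _), rfl⟩
        obtain ⟨s, hs⟩ : ∃ s, PSL2.uHom s = g * e tH * g⁻¹ := hu
        have hs0 : Multiplicative.toAdd s ≠ 0 := fun h => he1 (by
          rw [show s = 1 from Multiplicative.toAdd.injective h, map_one] at hs
          exact conj_eq_one_iff.mp hs.symm)
        have hcent : centralizer ({g * e tH * g⁻¹} : Set PSL₂[F]) = (U : Subgroup PSL₂[F]) := by
          refine le_antisymm (fun x hx => ?_) fun x hx => ?_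
          · rw [← hs, mem_centralizer_singleton_iff] at hx
            exact WalterAb.mem_uRange_of_comm hs0 hx
          · obtain ⟨r, rfl⟩ : ∃ r, PSL2.uHom r = x := hx
            rw [← hs, mem_centralizer_singleton_iff, ← map_mul, ← map_mul, mul_comm]
        have hc' : Nat.card ↥(H ⊓ centralizer ({t} : Set G)) = 2 ^ n := by
          rw [card_cent_sub (K.le ht), card_cent_map e, card_cent_map (MulAut.conj g), MulAut.conj_apply, hcent,
            hU, hc]
        exact hc' ▸ K.centCard ht ht1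
  · obtain ⟨hE, hS⟩ := hJ
    have hT8 : Nat.card T = 8 := by
      rw [K.card_T, ← Sylow.card_eq_multiplicity (default : Sylow 2 H)]
      exact (hE default).1
    have hto : orderOf tH = 2 := orderOf_eq_prime (by rw [pow_two]; exact t2) t1
    obtain ⟨F, iF, iFt, hFc, ⟨e⟩⟩ := hS tH hto
    obtain ⟨hF8, hF5⟩ := WalterAb.card_mod hFc
    have hc : Nat.card ↥(H ⊓ centralizer ({t} : Set G)) = Fintype.card F * (Fintype.card F ^ 2 - 1) := by
      rw [card_cent_sub (K.le ht), Nat.card_congr e.toEquiv, Nat.card_prod, ← DicksonFull.card_psl (F := F),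
        show Nat.gcd 2 (Fintype.card F - 1) = 2 by refine Nat.gcd_eq_left ?_; omega]
      simp
    rcases Cfsg.Agent.S0343.result (G := H) (fun P a b => (IsMulCommutative.is_comm (M := P)).comm a b)
        (by omega) tH hto ⟨e⟩ with ⟨m, hm, hFm, hG⟩ | ⟨hF45, hJ1⟩
    · exact Or.inr (Or.inr (Or.inl ⟨m, _, hm, rfl, hT8, hG, by rw [← hFm, ← hc]; exact K.centCard ht ht1⟩))
    · have hF : Fintype.card F = 5 := by omega
      refine Or.inr (Or.inr (Or.inr ⟨hT8, hJ1.2, ?_⟩))
      rw [hF] at hc
      norm_num at hc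
      exact hc ▸ K.centCard ht ht1

end CfsgLib.StabSimpAb
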