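import Cfsg.Agent.Lib.StabSimpAb.Setwise
import Cfsg.Agent.Lib.StabSimpAb.Orders
import Cfsg.Agent.Lib.GW.Model.Psl
import Cfsg.Agent.Lib.StabAlt5.Local4
import Mathlib.FieldTheory.Fixed

/-!
An outer swapper over `L₂(q)`, `q ≡ 3, 5 (mod 8)`: the setwise stabiliser is `PGL₂(q)`.

Blueprint: `blueprint/S3400.md`, section 0 (outer `L₂(q)`).
-/

set_option autoImplicit false
set_option linter.unusedSectionVars false
set_option linter.style.haveILetI false

namespace CfsgLib.StabSimpAb

open MulAction CfsgLib.StabAlt5 CfsgLib.GW.Model CfsgLib.PSL2Max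

universe u v

local notation "PSL₂[" F "]" => Matrix.ProjectiveSpecialLinearGroup (Fin 2) F
local notation "PGL₂[" F "]" => Matrix.ProjGenLinGroup (Fin 2) F

/-- A finite field of order `3` or `5` mod `8` has no automorphism of order two. -/
theorem ringAut_sq {F : Type} [Field F] [Fintype F] (hq : Fintype.card F % 8 = 3 ∨ Fintype.card F % 8 = 5)
    {σ : RingAut F} (hσ : σ * σ = 1) : σ = 1 := by
  classical
  by_contra hne
  set P := Subgroup.zpowers σ
  have hP : Nat.card P = 2 := by rw [Nat.card_zpowers, orderOf_eq_prime (by rw [pow_two]; exact hσ) hne]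
  haveI : Finite P := Nat.finite_of_card_ne_zero (by omega)
  haveI := Fintype.ofFinite P
  have hr := FixedPoints.finrank_eq_card (G := P) (F := F)
  rw [← Nat.card_eq_fintype_card, hP] at hr
  have h : Nat.card F = Nat.card (FixedPoints.subfield P F) ^ Module.finrank (FixedPoints.subfield P F) F :=
    Module.natCard_eq_pow_finrank
  rw [hr, Nat.card_eq_fintype_card (α := F)] at h
  rw [h, Nat.pow_mod] at hq
  have := Nat.mod_lt (Nat.card (FixedPoints.subfield P F)) (show 0 < 8 by norm_num)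
  interval_cases Nat.card (FixedPoints.subfield P F) % 8 <;> norm_num at hq

variable {G : Type u} [Group G] [Finite G] {Ω : Type v} [Finite Ω] [MulAction G Ω]
variable {a b : Ω} {T : Subgroup G}

theorem Outer.no_swap {s t z : G} (C : Cx a b T) (O : Outer s t a b T) (Z : Swap z a b) : False := by
  haveI : Fact (Nat.Prime 2) := ⟨Nat.prime_two⟩
  obtain ⟨x, hx, hne⟩ := O.nontriv
  set H := stab2 G a b
  have hzs : z * s ∈ H := swap_mul_mem Z.za Z.zb O.sa O.sb
  have hs : s = z * (z * s) := by rw [← mul_assoc, Z.sq, one_mul]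
  have hTH : ∀ y ∈ T, z * s * y * (z * s)⁻¹ ∈ T := fun y hy => by
    have h1 : s * y * s ∈ T := O.norm y hy
    rw [show z * s * y * (z * s)⁻¹ = z * (s * y * s⁻¹) * z⁻¹ by group, inv_of_sq O.sq, Z.comm _ (C.kit.le h1),
      mul_inv_cancel_right]
    exact h1
  have h2 : z * s * (z * s) = 1 := by
    calc z * s * (z * s) = z * s * z * s := by group
      _ = z * s * z * (z * (z * s)) := by rw [← hs]
      _ = z * s * (z * z) * (z * s) := by group
      _ = 1 := by
        rw [Z.sq, mul_one, show z * s * (z * s) = (z * s * z) * s by group]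
        have h := Z.comm _ hzs
        rw [← h, ← mul_assoc, Z.sq, one_mul, O.sq]
  -- an involution of `H` normalising `T` lies in `T`
  set L := stab2 G a b ⊓ Subgroup.normalizer (T : Set G) with hL
  have hmN : z * s ∈ L := ⟨hzs, CfsgLib.StabAlt5.mem_normalizer_of_le hTH⟩
  haveI hn : (T.subgroupOf L).Normal := ⟨fun x hx g => (Subgroup.mem_normalizer_iff.mp g.2.2 x).mp hx⟩
  have hpow : (z * s) ^ T.relIndex L ∈ T := Subgroup.pow_index_mem (T.subgroupOf L) ⟨_, hmN⟩
  obtain ⟨j, hj⟩ : Odd (T.relIndex L) := by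
    rw [← Nat.not_even_iff_odd, even_iff_two_dvd]
    exact fun h => C.kit.odd (h.trans (Dvd.intro _
      (Subgroup.relIndex_mul_relIndex T L (stab2 G a b) (le_inf C.kit.le Subgroup.le_normalizer) inf_le_left)))
  rw [hj, pow_succ, pow_mul, pow_two, h2, one_pow, one_mul] at hpow
  refine hne ?_
  rw [hs, mul_assoc z (z * s) x, C.kit.comm hpow hx, ← mul_assoc z x, Z.comm x (C.kit.le hx), mul_assoc]

/-- The setwise stabiliser inside `PGL₂(q)`. -/
theorem Cx.exists_model [FaithfulSMul G Ω] (C : Cx a b T) (hno : ∀ z : G, ¬ Swap z a b) {F : Type} [Field F]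
    [Fintype F] (hq : Fintype.card F % 8 = 3 ∨ Fintype.card F % 8 = 5) (e : ↥(stab2 G a b) ≃* PSL₂[F]) :
    ∃ ψ : ↥(setwise G a b) →* PGL₂[F], Function.Injective ψ ∧
      (∀ x : ↥(setwise G a b), (x : G) ∈ stab2 G a b ↔ ψ x ∈ (phi (F := F)).range) ∧
      ∀ h : ↥(stab2 G a b), ψ ⟨h, stab2_le_setwise h.2⟩ = phi (e h) := by
  classical
  obtain ⟨p, hp⟩ := CharP.exists F
  haveI := hp
  haveI : Fact p.Prime := ⟨CharP.char_is_prime F p⟩
  have hodd : Odd (Fintype.card F) := Nat.odd_iff.mpr (by omega)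
  set N := setwise G a b
  let c : ↥N →* MulAut ↥(stab2 G a b) :=
    { toFun := fun n =>
        { toFun := fun h => ⟨(n : G) * h * (n : G)⁻¹, conj_mem_stab2 n.2 h.2⟩
          invFun := fun h => ⟨(n : G)⁻¹ * h * n, by
            have := conj_mem_stab2 (inv_mem n.2) h.2; rwa [inv_inv] at this⟩
          left_inv := fun h => Subtype.ext (by show (n : G)⁻¹ * ((n : G) * h * (n : G)⁻¹) * n = h; group)
          right_inv := fun h => Subtype.ext (by show (n : G) * ((n : G)⁻¹ * h * n) * (n : G)⁻¹ = h; group)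
          map_mul' := fun h k => Subtype.ext (by
            show (n : G) * ((h : G) * k) * (n : G)⁻¹ = (n : G) * h * (n : G)⁻¹ * ((n : G) * k * (n : G)⁻¹); group) }
      map_one' := MulEquiv.ext fun h => Subtype.ext (by show (1 : G) * h * (1 : G)⁻¹ = h; group)
      map_mul' := fun m n => MulEquiv.ext fun h => Subtype.ext (by
        show (m : G) * n * h * ((m : G) * n)⁻¹ = (m : G) * ((n : G) * h * (n : G)⁻¹) * (m : G)⁻¹; group) }
  let φ : ↥N →* MulAut PSL₂[F] :=
    { toFun := fun n => (e.symm.trans (c n)).trans e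
      map_one' := MulEquiv.ext fun x => by simp
      map_mul' := fun m n => MulEquiv.ext fun x => by simp }
  have hφ : ∀ (n : ↥N) (h : ↥(stab2 G a b)), φ n (e h) = e (c n h) := fun n h => by
    show e (c n (e.symm (e h))) = _
    rw [e.symm_apply_apply]
  have hinner : ∀ h : ↥(stab2 G a b), φ ⟨h, stab2_le_setwise h.2⟩ = MulAut.conj (e h) := fun h => MulEquiv.ext fun x => by
    obtain ⟨k, rfl⟩ := e.surjective x
    rw [hφ, MulAut.conj_apply, ← map_inv, ← map_mul, ← map_mul]
    rfl
  have hfield : ∀ n : ↥N, CfsgLib.PSL2.fieldPart p (φ n) = 1 := by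
    intro n
    refine ringAut_sq hq ?_
    rw [← map_mul, ← map_mul]
    have hm : ((n * n : ↥N) : G) ∈ (stab2 G a b) := by
      rcases n.2 with h | ⟨ha, hb⟩
      · exact mul_mem h h
      · exact swap_mul_mem ha hb ha hb
    rw [show n * n = ⟨((⟨_, hm⟩ : ↥(stab2 G a b)) : G), stab2_le_setwise hm⟩ from Subtype.ext rfl, hinner]
    exact CfsgLib.GW.fieldPart_conj p _
  have hex : ∀ n : ↥N, ∃ g : PGL₂[F], φ n = act g := fun n => exists_act p (hfield n)
  choose g hg using hex
  let ψ : ↥N →* PGL₂[F] :=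
    { toFun := g
      map_one' := act_injective (by rw [← hg, map_one, map_one])
      map_mul' := fun m n => act_injective (by rw [← hg, map_mul, map_mul, ← hg, ← hg]) }
  have hψ : ∀ h : ↥(stab2 G a b), ψ ⟨h, stab2_le_setwise h.2⟩ = phi (e h) := fun h =>
    act_injective (by
      show act (g _) = _
      rw [← hg, hinner, act_phi])
  have hkey : ∀ n : ↥N, (n : G) ∉ (stab2 G a b) → ∀ h : ↥(stab2 G a b), φ n = MulAut.conj (e h) → False := by
    intro n hn h he
    rcases n.2 with hm | ⟨hna, hnb⟩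
    · exact hn hm
    set z : G := (h : G)⁻¹ * n with hz
    have hza : z • a = b := by
      rw [hz, mul_smul, hna]
      exact inv_smul_eq_iff.mpr h.2.2.symm
    have hzb : z • b = a := by
      rw [hz, mul_smul, hnb]
      exact inv_smul_eq_iff.mpr h.2.1.symm
    have hcomm : ∀ k ∈ (stab2 G a b), z * k = k * z := by
      intro k hk
      have h1 : e (c n ⟨k, hk⟩) = e h * e ⟨k, hk⟩ * (e h)⁻¹ := by rw [← hφ, he, MulAut.conj_apply]
      rw [← map_inv, ← map_mul, ← map_mul] at h1
      have h2 : (n : G) * k * (n : G)⁻¹ = h * k * (h : G)⁻¹ := congrArg Subtype.val (e.injective h1)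
      calc z * k = (h : G)⁻¹ * ((n : G) * k * (n : G)⁻¹) * n := by rw [hz]; group
        _ = k * z := by rw [h2, hz]; group
    refine hno z ⟨?_, hza, hzb, hcomm⟩
    -- its square is central in the simple group
    have hz2 : z * z ∈ (stab2 G a b) := swap_mul_mem hza hzb hza hzb
    haveI := C.kit.simple
    rcases (Subgroup.center ↥(stab2 G a b)).normal_of_characteristic.eq_bot_or_eq_top with e' | e'
    · have hmem : (⟨z * z, hz2⟩ : ↥(stab2 G a b)) ∈ Subgroup.center ↥(stab2 G a b) := Subgroup.mem_center_iff.mpr fun k => Subtype.ext (by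
        show (k : G) * (z * z) = z * z * k
        rw [← mul_assoc, ← hcomm k k.2, mul_assoc, ← hcomm k k.2, ← mul_assoc])
      rw [e', Subgroup.mem_bot] at hmem
      exact congrArg Subtype.val hmem
    · exact absurd ⟨⟨fun x y => Subgroup.mem_center_iff.mp (e' ▸ Subgroup.mem_top y) x⟩⟩ C.kit.nonab
  refine ⟨ψ, ?_, fun n => ⟨fun hn => ⟨e ⟨n, hn⟩, (hψ ⟨n, hn⟩).symm⟩, ?_⟩, hψ⟩
  · refine (injective_iff_map_eq_one ψ).mpr fun n hn => ?_
    have h1 : φ n = 1 := by rw [hg, show g n = 1 from hn, map_one]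
    by_cases hnH : (n : G) ∈ (stab2 G a b)
    · have h2 : phi (e ⟨n, hnH⟩) = 1 := by rw [← hψ]; exact hn
      rw [← map_one (phi (F := F)), phi_injective.eq_iff, MulEquiv.map_eq_one_iff] at h2
      exact Subtype.ext (congrArg Subtype.val h2 :)
    · exact (hkey n hnH 1 (by rw [h1, map_one, map_one])).elim
  · rintro ⟨x, hx⟩
    by_contra hn
    obtain ⟨h, rfl⟩ := e.surjective x
    exact hkey n hn h (by rw [hg, show g n = phi (e h) from hx.symm, act_phi])

/-- The conjugates of a root of `t` under the centraliser of `t`. -/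
theorem Cx.root_conj [FaithfulSMul G Ω] (C : Cx a b T) (hno : ∀ z : G, ¬ Swap z a b) {F : Type} [Field F]
    [Fintype F] (hq : Fintype.card F % 8 = 3 ∨ Fintype.card F % 8 = 5) (h5 : 5 ≤ Fintype.card F)
    (e : ↥(stab2 G a b) ≃* PSL₂[F]) {t y c : G} (I : Inv2 t a b) (hya : y • a = b) (hyb : y • b = a)
    (hy : y * y = t) (hc : c ∈ stab2 G a b) (hct : c * t = t * c) : c * y * c⁻¹ = y ∨ c * y * c⁻¹ = y * t := by
  obtain ⟨ψ, hinj, -, hψ⟩ := C.exists_model hno hq e
  have hodd : Odd (Fintype.card F) := Nat.odd_iff.mpr (by omega)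
  let y' : ↥(setwise G a b) := ⟨y, Or.inr ⟨hya, hyb⟩⟩
  let c' : ↥(setwise G a b) := ⟨c, stab2_le_setwise hc⟩
  let t' : ↥(setwise G a b) := ⟨t, stab2_le_setwise I.mem⟩
  set τ := ψ t'
  have hτ2 : τ * τ = 1 := by rw [← map_mul, ← map_one ψ]; exact congrArg ψ (Subtype.ext I.sq)
  have hτ1 : τ ≠ 1 := fun h => I.ne_one (congrArg Subtype.val (hinj (h.trans (map_one ψ).symm)))
  obtain ⟨U, hUc, -, hτU, -, -, -, -, -, hout, -⟩ := invol_cent hodd (by omega) hτ2 hτ1
  have hU : ∀ x : ↥(setwise G a b), x * x = t' → ψ x ∈ U := by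
    intro x hx
    by_contra h
    have hc' : ψ x ∈ Subgroup.centralizer ({τ} : Set PGL₂[F]) := Subgroup.mem_centralizer_singleton_iff.mpr (by
      show ψ x * ψ t' = ψ t' * ψ x
      rw [← map_mul, ← map_mul, ← hx, mul_assoc])
    have h1 := (hout _ hc' h).1
    rw [← map_mul, hx] at h1
    exact hτ1 h1
  have hy' : y' * y' = t' := Subtype.ext hy
  have hcy : c' * y' * c'⁻¹ * (c' * y' * c'⁻¹) = t' := by
    rw [conj_mul, hy']
    exact Subtype.ext (show c * t * c⁻¹ = t by rw [hct, mul_inv_cancel_right])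
  have hu : (ψ y')⁻¹ * ψ (c' * y' * c'⁻¹) ∈ U := mul_mem (inv_mem (hU _ hy')) (hU _ hcy)
  haveI := hUc
  haveI : IsMulCommutative U := IsCyclic.isMulCommutative
  set u := (ψ y')⁻¹ * ψ (c' * y' * c'⁻¹) with hudef
  have hu2 : u * u = 1 := by
    set p := ψ y'
    set r := ψ (c' * y' * c'⁻¹)
    have hpr : r * p⁻¹ = p⁻¹ * r := setLike_mul_comm (hU _ hcy) (inv_mem (hU _ hy'))
    calc u * u = p⁻¹ * (r * p⁻¹) * r := by rw [hudef]; group
      _ = (p * p)⁻¹ * (r * r) := by rw [hpr]; group
      _ = 1 := by rw [← map_mul, ← map_mul, hy', hcy, inv_mul_cancel]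
  have hsq : u = 1 ∨ u = τ := by
    classical
    by_contra hne
    push Not at hne
    haveI : Finite PGL₂[F] := Finite.of_surjective _ Matrix.ProjGenLinGroup.mk_surjective
    haveI := Fintype.ofFinite U
    have h := IsCyclic.card_pow_eq_one_le (α := U) (n := 2) two_pos
    have hsub : ({1, ⟨τ, hτU⟩, ⟨u, hu⟩} : Finset U) ⊆ Finset.univ.filter fun a : U => a ^ 2 = 1 := by
      intro a ha
      simp only [Finset.mem_insert, Finset.mem_singleton] at ha
      refine Finset.mem_filter.mpr ⟨Finset.mem_univ _, ?_⟩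
      rcases ha with rfl | rfl | rfl
      · exact one_pow 2
      · exact Subtype.ext (by show τ ^ 2 = 1; rw [pow_two, hτ2])
      · exact Subtype.ext (by show u ^ 2 = 1; rw [pow_two, hu2])
    have hcd := (Finset.card_le_card hsub).trans h
    rw [Finset.card_insert_of_notMem (by
      simp only [Finset.mem_insert, Finset.mem_singleton, not_or]
      exact ⟨fun e => hτ1 (congrArg Subtype.val e).symm, fun e => hne.1 (congrArg Subtype.val e).symm⟩),
      Finset.card_pair fun e => hne.2 (congrArg Subtype.val e).symm] at hcd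
    omega
  rcases hsq with h | h
  · left
    rw [hudef, inv_mul_eq_one] at h
    exact (congrArg Subtype.val (hinj h)).symm
  · right
    rw [hudef, inv_mul_eq_iff_eq_mul, ← map_mul] at h
    exact congrArg Subtype.val (hinj h)

/-- The interchanging conjugates of `t`: all outer involutions, `q (q - ε) / 2` of them. -/
theorem Cx.outer_swaps [FaithfulSMul G Ω] (C : Cx a b T) {t s : G} (I : Inv2 t a b) (O : Outer s t a b T)
    {F : Type} [Field F] [Fintype F] (hq : Fintype.card F % 8 = 3 ∨ Fintype.card F % 8 = 5)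
    (h5 : 5 ≤ Fintype.card F) (e : ↥(stab2 G a b) ≃* PSL₂[F]) :
    swaps t a b * qp F = Nat.card ↥(stab2 G a b) := by
  classical
  obtain ⟨ψ, hinj, hmem, hψ⟩ := C.exists_model (fun z Z => O.no_swap C Z) hq e
  have hodd : Odd (Fintype.card F) := Nat.odd_iff.mpr (by omega)
  let s' : ↥(setwise G a b) := ⟨s, Or.inr ⟨O.sa, O.sb⟩⟩
  set σ := ψ s'
  have hsH : ∀ x : G, x • a = b → x ∉ (stab2 G a b) := fun x hxa hx => C.ne (by
    have h1 : x • a = a := hx.1
    rw [hxa] at h1; exact h1.symm)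
  have hσR : σ ∉ (phi (F := F)).range := fun h => hsH s O.sa ((hmem s').mpr h)
  have hσ2 : σ * σ = 1 := by rw [← map_mul, ← map_one ψ]; exact congrArg ψ (Subtype.ext O.sq)
  have hσ1 : σ ≠ 1 := fun h => hσR (h ▸ one_mem _)
  letI : MulAction ↥(stab2 G a b) G := MulAction.compHom G (MulAut.conj.comp (stab2 G a b).subtype)
  have hact : ∀ (h : ↥(stab2 G a b)) (x : G), h • x = (h : G) * x * (h : G)⁻¹ := fun _ _ => rfl
  have horb : orbit ↥(stab2 G a b) s = {x : G | x ∈ cls t ∧ x • a = b ∧ x • b = a} := by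
    ext x
    constructor
    · rintro ⟨h, rfl⟩
      show h • s ∈ _
      rw [hact]
      obtain ⟨e1, e2⟩ := conj_swap (stab2_le_setwise h.2) O.sa O.sb
      exact ⟨cls_conj t h O.mem_cls, e1, e2⟩
    · rintro ⟨hx, hxa, hxb⟩
      let x' : ↥(setwise G a b) := ⟨x, Or.inr ⟨hxa, hxb⟩⟩
      have hxR : ψ x' ∉ (phi (F := F)).range := fun h => hsH x hxa ((hmem x').mpr h)
      obtain ⟨w, hw⟩ := invol_conj hodd (by omega) hσ2 hσ1 (σ := ψ x')
        (by rw [← map_mul, ← map_one ψ]; exact congrArg ψ (Subtype.ext (cls_sq I.sq hx)))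
        (fun h => hxR (h ▸ one_mem _)) (iff_of_false hσR hxR)
      obtain ⟨h, rfl⟩ := e.surjective w
      rw [← hψ, ← map_inv, ← map_mul, ← map_mul] at hw
      exact ⟨h, congrArg Subtype.val (hinj hw)⟩
  obtain ⟨U, -, -, -, -, -, -, -, hCP, -, -⟩ := invol_cent hodd (by omega) hσ2 hσ1
  have hstab : Nat.card (stabilizer ↥(stab2 G a b) s) = qp F := by
    rw [← show torusOrder σ = qp F by rw [torusOrder, if_neg hσR], ← hCP]
    have key : ∀ h : ↥(stab2 G a b), h ∈ stabilizer ↥(stab2 G a b) s ↔ e h ∈ (Subgroup.centralizer ({σ} : Set PGL₂[F])).comap phi := by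
      intro h
      rw [mem_stabilizer_iff, hact, Subgroup.mem_comap, Subgroup.mem_centralizer_singleton_iff, ← hψ,
        ← map_mul, ← map_mul, hinj.eq_iff, mul_inv_eq_iff_eq_mul]
      exact ⟨fun h' => Subtype.ext h', fun h' => congrArg Subtype.val h'⟩
    exact Nat.card_congr (e.toEquiv.subtypeEquiv key)
  have h := Subgroup.card_mul_index (stabilizer ↥(stab2 G a b) s)
  rw [index_stabilizer, horb, hstab, mul_comm] at h
  exact h

end CfsgLib.StabSimpAb
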