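import Cfsg.Agent.Lib.StabSimpAb.Parity
import Cfsg.Agent.Lib.StabSimpAb.OuterModel

/-!
Even degree: the fixed points of `T`, and `C(t)` on the fixed points of `t` under an outer swapper.
-/

set_option autoImplicit false
set_option linter.unusedSectionVars false
set_option linter.style.haveILetI false

namespace CfsgLib.StabSimpAb

open MulAction CfsgLib.StabAlt5

universe u v

section Abstract

variable {Y : Type u} [Group Y] [Finite Y] {Δ : Type v} [Finite Δ] [MulAction Y Δ] [FaithfulSMul Y Δ]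

/-- A fixed point free swapper centralising the two-point stabiliser: all or the square. -/
theorem outer_square (h2 : TwoTrans Y Δ) {A B : Δ} (hAB : A ≠ B) {y v : Y} (y2 : y * y = 1) (hyA : y • A = B)
    (hyB : y • B = A) (hfpf : ∀ c : Δ, y • c ≠ c)
    (hcomm : ∀ d : Y, d • A = A → d • B = B → d * y = y * d) (hvA : v • A = A) (hvB : v • B = B)
    (v2 : v * v = 1)
    (hclass : ∀ x : Y, x * x = 1 → x ≠ 1 → x • A = A → x • B = B →
      ∃ d : Y, d • A = A ∧ d • B = B ∧ d * v * d⁻¹ = x) :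
    Nat.card Δ = (fixedBy Δ v).ncard ∨ Nat.card Δ = (fixedBy Δ v).ncard ^ 2 := by
  classical
  by_cases hv1 : v = 1
  · left
    rw [hv1, show fixedBy Δ (1 : Y) = Set.univ from Set.eq_univ_of_forall fun c => one_smul Y c, Set.ncard_univ]
  right
  set k := (fixedBy Δ v).ncard with hk
  set C1 : Set Y := {x | x * x = 1 ∧ x ≠ 1 ∧ ∃ c d : Δ, c ≠ d ∧ x • c = c ∧ x • d = d} with hC1
  have hCc : ∀ g x : Y, x ∈ C1 → g * x * g⁻¹ ∈ C1 := fun g x ⟨x2, x1, c, d, hcd, hc, hd⟩ =>
    ⟨by rw [conj_mul, x2, mul_one, mul_inv_cancel], fun e => x1 (conj_eq_one_iff.mp e), g • c, g • d,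
      fun e => hcd (MulAction.injective g e), conj_fix hc, conj_fix hd⟩
  have hfix : ∀ x ∈ C1, (fixedBy Δ x).ncard = k := by
    rintro x ⟨x2, x1, c, d, hcd, hc, hd⟩
    obtain ⟨g, hgc, hgd⟩ := h2 c d A B hcd hAB
    obtain ⟨e, -, -, he⟩ := hclass (g * x * g⁻¹) (by rw [conj_mul, x2, mul_one, mul_inv_cancel])
      (fun e => x1 (conj_eq_one_iff.mp e)) (hgc ▸ conj_fix hc) (hgd ▸ conj_fix hd)
    rw [← ncard_fixedBy_conj g x, ← he, ncard_fixedBy_conj]
  have e1 := fix_count h2 hAB C1 hCc hfix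
  have e2 := swap_count h2 hAB C1 hCc (fun x hx => hx.1) hfix
  have hvC : v ∈ C1 := ⟨v2, hv1, A, B, hAB, hvA, hvB⟩
  set J : Set Y := {x | x ∈ C1 ∧ x • A = A ∧ x • B = B} with hJ
  set W : Set Y := {x | x ∈ C1 ∧ x • A = B ∧ x • B = A} with hW
  have hym : ∀ x, x ∈ W → y * x ∈ J := by
    rintro x ⟨hx, hxA, hxB⟩
    have hA : (y * x) • A = A := by rw [mul_smul, hxA, hyB]
    have hB : (y * x) • B = B := by rw [mul_smul, hxB, hyA]
    have hc := hcomm _ hA hB
    have hyx : y * x = x * y := by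
      calc y * x = y * x * y * y := by rw [mul_assoc _ y y, y2, mul_one]
        _ = y * (y * x) * y := by rw [← hc]
        _ = x * y := by rw [← mul_assoc, y2, one_mul]
    have x2 : x * x = 1 := hx.1
    have h1 : y * x ≠ 1 := fun e => by
      obtain ⟨-, -, c, d, -, hcf, -⟩ := hx
      refine hfpf c ?_
      rw [eq_inv_of_mul_eq_one_left e, inv_of_sq x2]
      exact hcf
    have h2' : y * x * (y * x) = 1 := by
      calc y * x * (y * x) = x * y * (y * x) := by rw [hyx]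
        _ = x * (y * y) * x := by group
        _ = 1 := by rw [y2, mul_one, x2]
    exact ⟨⟨h2', h1, A, B, hAB, hA, hB⟩, hA, hB⟩
  have hvJ : v ∈ J := ⟨hvC, hvA, hvB⟩
  have hy1 : ∀ x, y * (y * x) = x := fun x => by rw [← mul_assoc, y2, one_mul]
  rcases Set.eq_empty_or_nonempty W with hWe | ⟨x0, hx0⟩
  · exfalso
    change C1.ncard * (Nat.card Δ - k) = _ * W.ncard at e2
    rw [hWe, Set.ncard_empty, mul_zero] at e2
    have h0 : Nat.card Δ - k = 0 :=
      (Nat.mul_eq_zero.mp e2).resolve_left ((Set.ncard_pos (Set.toFinite _)).mpr ⟨v, hvC⟩).ne'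
    have hle : k ≤ Nat.card Δ := by rw [hk, ← Set.ncard_univ]; exact Set.ncard_le_ncard (Set.subset_univ _)
    have huniv : fixedBy Δ v = Set.univ := Set.eq_of_subset_of_ncard_le (Set.subset_univ _)
      (by rw [Set.ncard_univ, ← hk]; omega)
    refine hv1 (eq_of_smul_eq_smul (α := Δ) fun c => ?_)
    rw [one_smul]
    exact (huniv.symm ▸ Set.mem_univ c : c ∈ fixedBy Δ v)
  have hrev : ∀ j ∈ J, y * j ∈ W := by
    rintro j ⟨⟨j2, j1, -⟩, hjA, hjB⟩
    obtain ⟨d, hdA, hdB, rfl⟩ := hclass j j2 j1 hjA hjB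
    obtain ⟨h0, h0A, h0B⟩ := hym x0 hx0
    obtain ⟨d0, hd0A, hd0B, hd0⟩ := hclass _ h0.1 h0.2.1 h0A h0B
    have hyd := hcomm d hdA hdB
    have hyd0 := hcomm d0 hd0A hd0B
    have e3 : d * d0⁻¹ * x0 * (d * d0⁻¹)⁻¹ = y * (d * v * d⁻¹) := by
      calc d * d0⁻¹ * x0 * (d * d0⁻¹)⁻¹ = d * d0⁻¹ * (y * (d0 * v * d0⁻¹)) * d0 * d⁻¹ := by
            rw [hd0, hy1]; group
        _ = d * d0⁻¹ * (y * d0) * v * d⁻¹ := by group
        _ = d * y * v * d⁻¹ := by rw [← hyd0]; group
        _ = _ := by rw [hyd]; group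
    refine ⟨e3 ▸ hCc _ _ hx0.1, ?_, ?_⟩
    · rw [mul_smul, hjA, hyA]
    · rw [mul_smul, hjB, hyB]
  have hcard : W.ncard = J.ncard := Set.ncard_congr (fun x _ => y * x) hym
    (fun x x' _ _ e => mul_left_cancel e) fun j hj => ⟨y * j, hrev j hj, hy1 j⟩
  change C1.ncard * (Nat.card Δ - k) = _ * W.ncard at e2
  change C1.ncard * (k * (k - 1)) = _ * J.ncard at e1
  rw [hcard, ← e1] at e2
  have h3 := Nat.eq_of_mul_eq_mul_left ((Set.ncard_pos (Set.toFinite _)).mpr ⟨v, hvC⟩) e2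
  have hle : k ≤ Nat.card Δ := by rw [hk, ← Set.ncard_univ]; exact Set.ncard_le_ncard (Set.subset_univ _)
  have hk2 : 2 ≤ k := (Set.ncard_pair hAB).symm.le.trans (Set.ncard_le_ncard (by
    rintro c (rfl | rfl)
    exacts [hvA, hvB]))
  show Nat.card Δ = k ^ 2
  clear_value k
  obtain ⟨k', rfl⟩ : ∃ k', k = k' + 2 := ⟨k - 2, by omega⟩
  rw [Nat.add_sub_assoc (by norm_num : 1 ≤ 2)] at h3
  have hq : (k' + 2) ^ 2 = (k' + 2) * (k' + (2 - 1)) + (k' + 2) := by ring
  rw [hq, ← h3]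
  omega

end Abstract

variable {G : Type u} [Group G] [Finite G] {Ω : Type v} [Finite Ω] [MulAction G Ω]
variable {a b : Ω} {T : Subgroup G}

/-- The parity of the fixed points of a 2-group. -/
theorem even_fixPts {P : Subgroup G} (h2 : IsPGroup 2 P) (hev : Even (Nat.card Ω)) :
    Even (fixPts Ω P).ncard := by
  haveI : Fact (Nat.Prime 2) := ⟨Nat.prime_two⟩
  have h := h2.card_modEq_card_fixedPoints Ω
  have e : Nat.card (fixedPoints P Ω) = (fixPts Ω P).ncard := by
    rw [Nat.card_coe_set_eq]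
    congr 1
    ext c
    exact ⟨fun hc x hx => hc ⟨x, hx⟩, fun hc x => hc x x.2⟩
  rw [Nat.even_iff] at hev ⊢
  rw [← e]
  unfold Nat.ModEq at h
  omega

/-- The number of fixed points of `T`, and its normaliser in the point stabiliser. -/
theorem Cx.fixT (C : Cx a b T) (hev : Even (Nat.card Ω)) :
    ((fixPts Ω T).ncard = 2 ∨ 4 ∣ (fixPts Ω T).ncard) ∧ 2 ≤ (fixPts Ω T).ncard ∧ Even (fixPts Ω T).ncard ∧
      Nat.card ↥(Subgroup.normalizer (T : Set G) ⊓ stabilizer G a) = ((fixPts Ω T).ncard - 1) *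
        Nat.card ↥(stab2 G a b ⊓ Subgroup.normalizer (T : Set G)) := by
  classical
  set N := Subgroup.normalizer (T : Set G)
  set S := fixPts Ω T
  have ha : a ∈ S := C.left_mem le_rfl
  have hb : b ∈ S := C.right_mem le_rfl
  have hS : Inv N S := inv_fixPts T
  have htr : ∀ c d : Ω, c ∈ S → d ∈ S → c ≠ d → ∃ g ∈ N, g • a = c ∧ g • b = d := fun c d hc hd hcd =>
    C.norm_trans hcd hc hd
  have hk2 : 2 ≤ S.ncard := (Set.ncard_pair C.ne).symm.le.trans (Set.ncard_le_ncard (by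
    rintro c (rfl | rfl)
    exacts [ha, hb]))
  have hevS : Even S.ncard := even_fixPts C.kit.isPGroup hev
  refine ⟨?_, hk2, hevS, ?_⟩
  · have h2 := img_two hS ha hb htr
    have hD := odd_img_stab hS ha hb (T := T) (fun h => C.kit.odd (h.trans (Dvd.intro _
      (Subgroup.relIndex_mul_relIndex T (N ⊓ stab2 G a b) (stab2 G a b)
        (le_inf Subgroup.le_normalizer C.kit.le) inf_le_right)))) fun x hx _ c hc => hc x hx
    have := two_or_four h2 (a := (⟨a, ha⟩ : ↥S)) (b := ⟨b, hb⟩) (fun e => C.ne (congrArg Subtype.val e)) hD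
      (by rwa [Nat.card_coe_set_eq])
    rwa [Nat.card_coe_set_eq] at this
  · have h := (card_of_pairs N ha hb C.ne hS htr).2
    rw [inf_comm N (stab2 G a b)] at h
    exact h

/-- An element `y` of order four with square `t` interchanging the points, fixed points of `t`. -/
theorem Cx.outer_fix [FaithfulSMul G Ω] (C : Cx a b T) (hev : Even (Nat.card Ω)) (h4 : Nat.card T = 4) {t s : G}
    (ht : t ∈ T) (I : Inv2 t a b) (O : Outer s t a b T) (hts : s * t = t * s) {F : Type} [Field F] [Fintype F]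
    (hq : Fintype.card F % 8 = 3 ∨ Fintype.card F % 8 = 5) (h5 : 5 ≤ Fintype.card F)
    (e : ↥(stab2 G a b) ≃* Matrix.ProjectiveSpecialLinearGroup (Fin 2) F) :
    (fixedBy Ω t).ncard = (fixPts Ω T).ncard ∨ (fixedBy Ω t).ncard = (fixPts Ω T).ncard ^ 2 := by
  classical
  haveI : Fact (Nat.Prime 2) := ⟨Nat.prime_two⟩
  have hsi := inv_of_sq O.sq
  set T0 := T ⊓ Subgroup.centralizer ({s} : Set G)
  have hT0c : Nat.card T0 = 2 := by
    have h := O.card
    rw [h4] at h
    nlinarith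
  have htT0 : t ∈ T0 := ⟨ht, Subgroup.mem_centralizer_singleton_iff.mpr hts.symm⟩
  have hT0 : ∀ x ∈ T0, x = 1 ∨ x = t := by
    have hsub : ({1, t} : Set G) ⊆ (T0 : Set G) := by
      rintro x (rfl | rfl)
      exacts [one_mem _, htT0]
    have heq : ({1, t} : Set G) = (T0 : Set G) := Set.eq_of_subset_of_ncard_le hsub (by
      rw [Set.ncard_pair I.ne_one.symm, ← Nat.card_coe_set_eq]; exact hT0c.le)
    intro x hx
    have : x ∈ ({1, t} : Set G) := heq ▸ hx
    exact this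
  obtain ⟨v, hv, hne⟩ := O.nontriv
  have hv2 := C.kit.sq v hv
  have hvt : v ≠ t := fun h => hne (by rw [h]; exact hts)
  have hv1 : v ≠ 1 := fun h => hne (by rw [h, mul_one, one_mul])
  have hsq : v * (s * v * s) = t := (hT0 _ (O.fixed v hv)).resolve_left fun h => hne (by
    have h1 : s * v * s = v⁻¹ := eq_inv_of_mul_eq_one_right h
    rw [inv_of_sq hv2] at h1
    calc s * v = s * v * (s * s) := by rw [O.sq, mul_one]
      _ = v * s := by rw [← mul_assoc, h1])
  set y := s * v with hy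
  have hyy : y * y = t := by
    calc y * y = (s * v * s) * v := by rw [hy]; group
      _ = v * (s * v * s) := C.kit.comm (O.norm v hv) hv
      _ = t := hsq
  have hya : y • a = b := by rw [hy, mul_smul, (C.kit.le hv).1, O.sa]
  have hyb : y • b = a := by rw [hy, mul_smul, (C.kit.le hv).2, O.sb]
  have hyt : y * t = t * y := by rw [← hyy]; exact (mul_assoc y y y).symm
  set S := fixedBy Ω t
  have hS := inv_fixedBy (Ω := Ω) t
  set Cc := Subgroup.centralizer ({t} : Set G)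
  let A : ↥S := ⟨a, I.mem.1⟩
  let B : ↥S := ⟨b, I.mem.2⟩
  have hAB : A ≠ B := fun h => C.ne (congrArg Subtype.val h)
  have hyC : y ∈ Cc := Subgroup.mem_centralizer_singleton_iff.mpr hyt
  have hvC : v ∈ Cc := Subgroup.mem_centralizer_singleton_iff.mpr (C.kit.comm hv ht)
  have h2 : TwoTrans ↥(Img hS) ↥S := img_two hS I.mem.1 I.mem.2 fun c d hc hd hcd => C.cent_trans I hc hd hcd
  have hevS : Even (Nat.card ↥S) := by
    have := fix_parity (Δ := Ω) I.sq
    have hle : (fixedBy Ω t).ncard ≤ Nat.card Ω := by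
      rw [← Set.ncard_univ]; exact Set.ncard_le_ncard (Set.subset_univ _)
    rw [Nat.card_coe_set_eq]
    show Even (fixedBy Ω t).ncard
    rw [Nat.even_iff] at hev this ⊢
    omega
  set yb := toImg hS ⟨y, hyC⟩
  have yb2 : yb * yb = 1 := toImg_sq hS fun c hc => by
    show (y * y) • c = c
    rw [hyy]; exact hc
  have hfpf : ∀ c : ↥S, yb • c ≠ c := by
    intro c hc
    have hpos : 0 < (fixedBy ↥S yb).ncard := (Set.ncard_pos (Set.toFinite _)).mpr ⟨c, hc⟩
    have hp := fix_parity (Δ := ↥S) yb2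
    have hle : (fixedBy ↥S yb).ncard ≤ Nat.card ↥S := by
      rw [← Set.ncard_univ]; exact Set.ncard_le_ncard (Set.subset_univ _)
    have htwo : 1 < (fixedBy ↥S yb).ncard := by rw [Nat.even_iff] at hp hevS; omega
    obtain ⟨c', d', hc', hd', hcd⟩ := (Set.one_lt_ncard_iff (Set.toFinite _)).mp htwo
    have h1 := C.sq_of_fix (x := y) (k := 2) (by
      rw [show (2 : ℕ) ^ 2 = 2 + 2 by norm_num, pow_add, pow_two, hyy, I.sq]) (fun h => hcd (Subtype.ext h))
      ((toImg_fix hS).mp hc') ((toImg_fix hS).mp hd')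
    exact I.ne_one (hyy ▸ h1)
  have hcomm : ∀ d : ↥(Img hS), d • A = A → d • B = B → d * yb = yb * d := by
    intro d hdA hdB
    obtain ⟨g, rfl⟩ := toImg_surj hS d
    have hgH : (g : G) ∈ stab2 G a b := ⟨(toImg_fix hS).mp hdA, (toImg_fix hS).mp hdB⟩
    have hgt : (g : G) * t = t * g := Subgroup.mem_centralizer_singleton_iff.mp g.2
    rw [← mul_inv_eq_iff_eq_mul, ← map_inv, ← map_mul, ← map_mul, toImg_eq]
    intro c hc
    show ((g : G) * y * (g : G)⁻¹) • c = y • c
    rcases C.root_conj (fun z Z => O.no_swap C Z) hq h5 e I hya hyb hyy hgH hgt with h | h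
    · rw [h]
    · rw [h, mul_smul, show t • c = c from hc]
  set vb := toImg hS ⟨v, hvC⟩
  have vb2 : vb * vb = 1 := toImg_sq hS fun c _ => by
    show (v * v) • c = c
    rw [hv2, one_smul]
  -- the fixed points of `v` and `t`
  have hTeq : ∀ x ∈ T, x = 1 ∨ x = t ∨ x = v ∨ x = t * v := by
    have d1 : t * v ≠ 1 := fun h => hvt (by rw [eq_inv_of_mul_eq_one_right h, inv_of_sq I.sq])
    have d2 : t * v ≠ t := fun h => hv1 (mul_eq_left.mp h)
    have d3 : t * v ≠ v := fun h => I.ne_one (mul_eq_right.mp h)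
    have hsub : ({1, t, v, t * v} : Set G) ⊆ (T : Set G) := by
      rintro x (rfl | rfl | rfl | rfl)
      exacts [one_mem _, ht, hv, mul_mem ht hv]
    have heq : ({1, t, v, t * v} : Set G) = (T : Set G) := Set.eq_of_subset_of_ncard_le hsub (by
      rw [Set.ncard_insert_of_notMem (by simp [I.ne_one.symm, hv1.symm, d1.symm]),
        Set.ncard_insert_of_notMem (by simp [Ne.symm hvt, d2.symm]),
        Set.ncard_insert_of_notMem (by simp [d3.symm]), Set.ncard_singleton, ← Nat.card_coe_set_eq]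
      exact h4.le)
    intro x hx
    have hx' : x ∈ ({1, t, v, t * v} : Set G) := heq ▸ hx
    exact hx'
  have hclass : ∀ x : ↥(Img hS), x * x = 1 → x ≠ 1 → x • A = A → x • B = B →
      ∃ d : ↥(Img hS), d • A = A ∧ d • B = B ∧ d * vb * d⁻¹ = x := by
    intro x x2 x1 hxA hxB
    obtain ⟨g, rfl⟩ := toImg_surj hS x
    have hgH : (g : G) ∈ stab2 G a b := ⟨(toImg_fix hS).mp hxA, (toImg_fix hS).mp hxB⟩
    obtain ⟨j, l, hl, hjl⟩ : ∃ j l : ℕ, Odd l ∧ orderOf (g : G) = 2 ^ j * l := by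
      obtain ⟨j, l, hl, e'⟩ := Nat.exists_eq_two_pow_mul_odd (n := orderOf (g : G)) (orderOf_pos _).ne'
      exact ⟨j, l, hl, e'⟩
    have hgl : toImg hS (g ^ l) = toImg hS g := by
      obtain ⟨i, rfl⟩ := hl
      rw [map_pow, pow_succ, pow_mul, pow_two, x2, one_pow, one_mul]
    have hP : IsPGroup 2 (Subgroup.zpowers ((g : G) ^ l)) := fun u => ⟨j, Subtype.ext (by
      obtain ⟨u, i, rfl⟩ := u
      show (((g : G) ^ l) ^ i) ^ 2 ^ j = 1
      rw [← zpow_natCast, ← zpow_mul, mul_comm, zpow_mul, zpow_natCast, ← pow_mul, mul_comm l, ← hjl,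
        pow_orderOf_eq_one, one_zpow])⟩
    -- inside the centraliser of `t`
    set L := stab2 G a b ⊓ Cc
    have hTL : T ≤ L := fun u hu => ⟨C.kit.le hu, Subgroup.mem_centralizer_singleton_iff.mpr (C.kit.comm hu ht)⟩
    have hgL : (g : G) ^ l ∈ L := pow_mem (show (g : G) ∈ L from ⟨hgH, g.2⟩) l
    let PT : Sylow 2 L := (C.kit.isPGroup.comap_subtype (K := L)).toSylow fun h =>
      C.kit.odd (h.trans (Dvd.intro _ (Subgroup.relIndex_mul_relIndex T L (stab2 G a b) hTL inf_le_left)))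
    obtain ⟨Q, hQ⟩ := (hP.comap_subtype (K := L)).exists_le_sylow
    obtain ⟨c, hc⟩ := MulAction.exists_smul_eq L Q PT
    have hmem : c * ⟨(g : G) ^ l, hgL⟩ * c⁻¹ ∈ (PT : Subgroup L) := by
      rw [← hc, Sylow.coe_subgroup_smul]
      exact ⟨_, hQ (Subgroup.mem_zpowers _), rfl⟩
    have hmemT : (c : G) * (g : G) ^ l * (c : G)⁻¹ ∈ T := hmem
    let c' : ↥Cc := ⟨c, c.2.2⟩
    have hcx : toImg hS c' * toImg hS g * (toImg hS c')⁻¹ = vb := by
      rw [← hgl, ← map_inv, ← map_mul, ← map_mul, toImg_eq]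
      intro p hp
      show ((c : G) * (g : G) ^ l * (c : G)⁻¹) • p = v • p
      have hne' : ¬ ∀ q ∈ S, ((c : G) * (g : G) ^ l * (c : G)⁻¹) • q = q := fun hall => x1 (by
        have h1 : toImg hS (c' * g ^ l * c'⁻¹) = 1 := (toImg_eq_one hS).mpr hall
        rw [map_mul, map_mul, map_inv, conj_eq_one_iff, hgl] at h1
        exact h1)
      rcases hTeq _ hmemT with h | h | h | h
      · exact (hne' (fun q _ => by rw [h, one_smul])).elim
      · exact (hne' (fun q hq => by rw [h]; exact hq)).elim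
      · rw [h]
      · rw [h, mul_smul]
        exact fix_comm (C.kit.comm ht hv) hp
    refine ⟨(toImg hS c')⁻¹, ?_, ?_, ?_⟩
    · rw [inv_smul_eq_iff]; exact ((toImg_fix hS).mpr (mem_stabilizer_iff.mp c.2.1.1)).symm
    · rw [inv_smul_eq_iff]; exact ((toImg_fix hS).mpr (mem_stabilizer_iff.mp c.2.1.2)).symm
    · rw [← hcx]; group
  have h := outer_square h2 hAB yb2 (Subtype.ext hya) (Subtype.ext hyb) hfpf hcomm
    ((toImg_fix hS).mpr (mem_stabilizer_iff.mp (C.kit.le hv).1)) ((toImg_fix hS).mpr (mem_stabilizer_iff.mp (C.kit.le hv).2)) vb2 hclass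
  have hk : (fixedBy ↥S vb).ncard = (fixPts Ω T).ncard := by
    rw [ncard_fixedBy_toImg]
    congr 1
    ext c
    constructor
    · rintro ⟨hc, hcv⟩ x hx
      rcases hTeq x hx with rfl | rfl | rfl | rfl
      exacts [one_smul G c, hc, hcv, by rw [mul_smul, hcv]; exact hc]
    · exact fun hc => ⟨hc t ht, hc v hv⟩
  rwa [Nat.card_coe_set_eq, hk] at h

end CfsgLib.StabSimpAb
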