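import Cfsg.Agent.Lib.StabSimpAb.Orders
import Cfsg.Agent.Lib.PSL2Max.Basic

/-!
A simple group with Sylow four group: `N(T) ≅ A₄`; `L₂(q)` inside `L₂(r)`; kits in intermediate subgroups.
-/

set_option autoImplicit false
set_option linter.unusedSectionVars false
set_option linter.style.haveILetI false

namespace CfsgLib.StabSimpAb

open Subgroup

universe u

variable {G : Type u} [Group G] [Finite G] {H T : Subgroup G}

/-- The kit inside an overgroup. -/
theorem Kit.subgroupOf (K : Kit H T) {M : Subgroup G} (hM : H ≤ M) : Kit (H.subgroupOf M) (T.subgroupOf M) := by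
  have e := Subgroup.subgroupOfEquivOfLe hM
  haveI := K.simple
  haveI : Nontrivial ↥(H.subgroupOf M) := e.toEquiv.nontrivial
  refine ⟨fun x hx => K.le hx, fun x hx => Subtype.ext (K.sq x hx), ?_, ?_, ?_, ?_,
    IsSimpleGroup.isSimpleGroup_of_surjective e.symm.toMonoidHom e.symm.surjective, fun h => K.nonab ?_⟩
  · rw [Nat.card_congr (Subgroup.subgroupOfEquivOfLe (K.le.trans hM)).toEquiv]
    exact K.four
  · rw [relIndex_subgroupOf hM]
    exact K.odd
  · exact fun x hx h => K.self x hx fun y hy => congrArg Subtype.val (h ⟨y, hM (K.le hy)⟩ hy)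
  · intro x hx x1 y hy y1
    obtain ⟨k, hk, hkn, he⟩ := K.trans x hx (fun e => x1 (Subtype.ext e)) y hy (fun e => y1 (Subtype.ext e))
    exact ⟨⟨k, hM hk⟩, hk, mem_normalizer_iff.mpr fun z => mem_normalizer_iff.mp hkn (z : G), Subtype.ext he⟩
  · exact ⟨⟨fun a b => e.symm.injective (by rw [map_mul, map_mul]; exact h.is_comm.comm _ _)⟩⟩

/-- `|N(T)| = 12`. -/
theorem Kit.card_norm (K : Kit H T) (h4 : Nat.card T = 4) :
    Nat.card ↥(H ⊓ normalizer (T : Set G)) = 12 := by
  classical
  set L := H ⊓ normalizer (T : Set G) with hL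
  have hTL : T ≤ L := le_inf K.le le_normalizer
  obtain ⟨t, ht, ht1⟩ := T.bot_or_exists_ne_one.resolve_left fun e => by
    rw [e, card_bot] at h4; omega
  letI : MulAction L G := MulAction.compHom G (MulAut.conj.comp L.subtype)
  have hact : ∀ (l : L) (x : G), l • x = (l : G) * x * (l : G)⁻¹ := fun _ _ => rfl
  have horb : MulAction.orbit L t = (T : Set G) \ {1} := by
    ext x
    constructor
    · rintro ⟨l, rfl⟩
      show l • t ∈ _
      rw [hact]
      exact ⟨(mem_normalizer_iff.mp l.2.2 t).mp ht, fun e => ht1 (conj_eq_one_iff.mp e)⟩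
    · rintro ⟨hx, hx1⟩
      obtain ⟨k, hk, hkn, he⟩ := K.trans t ht ht1 x hx hx1
      exact ⟨⟨k, hk, hkn⟩, he⟩
  -- the stabiliser is `T`
  have hst : ∀ l : L, l • t = t → (l : G) ∈ T := by
    intro l hl
    rw [hact, mul_inv_eq_iff_eq_mul] at hl
    have hsq : ((l : G) ^ 2) ∈ T := by
      refine K.self _ (pow_mem l.2.1 2) fun y hy => ?_
      have e1 : (l : G) * ((l : G) * y * (l : G)⁻¹) * (l : G)⁻¹ = y := by
        set y' := (l : G) * y * (l : G)⁻¹ with hy'
        have hy'T : y' ∈ T := (mem_normalizer_iff.mp l.2.2 y).mp hy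
        set y'' := (l : G) * y' * (l : G)⁻¹ with hy''
        have hy''T : y'' ∈ T := (mem_normalizer_iff.mp l.2.2 y').mp hy'T
        by_contra hne
        by_cases hy1 : y = 1
        · apply hne; rw [hy'', hy', hy1]; group
        by_cases hyt : y = t
        · apply hne; rw [hy'', hy', hyt, hl, mul_inv_cancel_right, hl, mul_inv_cancel_right]
        have n1 : y' ≠ 1 := fun e => hy1 (conj_eq_one_iff.mp e)
        have n2 : y' ≠ t := fun e => hyt (by
          have : (l : G) * y = t * (l : G) := by rw [← e, hy']; group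
          rw [← hl] at this; exact mul_left_cancel this)
        have n3 : y' ≠ y := fun e => hne (by rw [hy'', e, ← hy', e])
        have n4 : y'' ≠ 1 := fun e => n1 (conj_eq_one_iff.mp e)
        have n5 : y'' ≠ t := fun e => n2 (by
          have : (l : G) * y' = t * (l : G) := by rw [← e, hy'']; group
          rw [← hl] at this; exact mul_left_cancel this)
        have n6 : y'' ≠ y' := fun e => n3 (by
          have h' : (l : G) * y' * (l : G)⁻¹ = (l : G) * y * (l : G)⁻¹ := e
          exact mul_left_cancel (mul_right_cancel h'))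
        have hsub : ({1, t, y, y', y''} : Set G) ⊆ (T : Set G) := by
          rintro z (rfl | rfl | rfl | rfl | rfl)
          exacts [one_mem _, ht, hy, hy'T, hy''T]
        have := Set.ncard_le_ncard hsub (Set.toFinite _)
        rw [Set.ncard_insert_of_notMem (by simp [ht1.symm, Ne.symm hy1, n1.symm, n4.symm]),
          Set.ncard_insert_of_notMem (by simp [Ne.symm hyt, n2.symm, n5.symm]),
          Set.ncard_insert_of_notMem (by simp [n3.symm, Ne.symm hne]), Set.ncard_pair n6.symm,
          ← Nat.card_coe_set_eq] at this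
        change _ ≤ Nat.card T at this
        omega
      calc (l : G) ^ 2 * y = (l : G) * ((l : G) * y * (l : G)⁻¹) * (l : G)⁻¹ * (l : G) ^ 2 := by rw [pow_two]; group
        _ = y * (l : G) ^ 2 := by rw [e1]
    haveI hn : (T.subgroupOf L).Normal := ⟨fun x hx g => (mem_normalizer_iff.mp g.2.2 x).mp hx⟩
    have hpow : (l : G) ^ T.relIndex L ∈ T := Subgroup.pow_index_mem (T.subgroupOf L) l
    obtain ⟨j, hj⟩ : Odd (T.relIndex L) := by
      rw [← Nat.not_even_iff_odd, even_iff_two_dvd]
      exact fun h => K.odd (h.trans (Dvd.intro _ (relIndex_mul_relIndex T L H hTL inf_le_left)))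
    have e : (l : G) = ((l : G) ^ 2) ^ (j + 1) * ((l : G) ^ T.relIndex L)⁻¹ := by
      rw [hj, ← pow_mul, show 2 * (j + 1) = (2 * j + 1) + 1 by ring]
      group
    rw [e]
    exact mul_mem (pow_mem hsq _) (inv_mem hpow)
  have hs : Nat.card (MulAction.stabilizer L t) = Nat.card T := Nat.card_congr
    { toFun := fun l => ⟨(l.1 : G), hst l.1 l.2⟩
      invFun := fun x => ⟨⟨x, hTL x.2⟩, by
        show (x : G) * t * (x : G)⁻¹ = t
        rw [K.comm x.2 ht, mul_inv_cancel_right]⟩
      left_inv := fun _ => rfl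
      right_inv := fun _ => rfl }
  have h := card_mul_index (MulAction.stabilizer L t)
  rw [MulAction.index_stabilizer, horb, hs, Set.ncard_sdiff_singleton_of_mem T.one_mem, ← Nat.card_coe_set_eq] at h
  change Nat.card T * (Nat.card T - 1) = _ at h
  rw [h4] at h
  exact h.symm

/-- An `A₄`-pair. -/
theorem Kit.exists_pair (K : Kit H T) (h4 : Nat.card T = 4) : ∃ x y : H, PSL2Max.IsPair x y := by
  haveI : Fact (Nat.Prime 3) := ⟨Nat.prime_three⟩
  set L := H ⊓ normalizer (T : Set G)
  obtain ⟨x, hx⟩ := exists_prime_orderOf_dvd_card' (G := L) 3 (by rw [K.card_norm h4]; norm_num)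
  have hx3 : (x : G) ^ 3 = 1 := congrArg Subtype.val (hx ▸ pow_orderOf_eq_one x)
  obtain ⟨v, hv, hne⟩ : ∃ v ∈ T, (x : G) * v ≠ v * x := by
    by_contra hall
    push Not at hall
    have hxT := K.self x x.2.1 hall
    have h2 := K.sq _ hxT
    have hx1 : (x : G) = 1 := by rw [← hx3, pow_succ, pow_two, h2, one_mul]
    rw [show x = 1 from Subtype.ext hx1, orderOf_one] at hx
    omega
  set a' := (x : G) * v * (x : G)⁻¹ with ha'
  set b' := (x : G) * a' * (x : G)⁻¹ with hb'
  have hc : (x : G) * b' * (x : G)⁻¹ = v := by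
    calc (x : G) * b' * (x : G)⁻¹ = (x : G) ^ 3 * v * ((x : G) ^ 3)⁻¹ := by
          rw [hb', ha']; simp only [pow_succ, pow_zero, one_mul]; group
      _ = v := by rw [hx3]; group
  have ha : a' ∈ T := (mem_normalizer_iff.mp x.2.2 v).mp hv
  have hb : b' ∈ T := (mem_normalizer_iff.mp x.2.2 a').mp ha
  have hv1 : v ≠ 1 := fun e => hne (by rw [e, mul_one, one_mul])
  have h1 : a' ≠ v := fun e => hne (mul_inv_eq_iff_eq_mul.mp e)
  have h2 : b' ≠ v := fun e => h1 (by
    have h' : (x : G) * b' * (x : G)⁻¹ = (x : G) * v * (x : G)⁻¹ := by rw [e]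
    rw [hc] at h'
    exact h'.symm)
  have h3 : b' ≠ a' := fun e => h1 (by
    have h' : (x : G) * a' * (x : G)⁻¹ = (x : G) * v * (x : G)⁻¹ := by rw [← hb', e]
    exact mul_left_cancel (mul_right_cancel h'))
  have hprod : a' * b' = v := by
    by_contra hne'
    have n1 : a' ≠ 1 := fun e => hv1 (conj_eq_one_iff.mp e)
    have n2 : b' ≠ 1 := fun e => n1 (conj_eq_one_iff.mp e)
    have n3 : a' * b' ≠ 1 := fun e => h3 (by rw [eq_inv_of_mul_eq_one_right e, inv_eq_of_mul_eq_one_left (K.sq _ ha)])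
    have n4 : a' * b' ≠ a' := fun e => n2 (mul_eq_left.mp e)
    have n5 : a' * b' ≠ b' := fun e => n1 (mul_eq_right.mp e)
    have hsub : ({1, v, a', b', a' * b'} : Set G) ⊆ (T : Set G) := by
      rintro z (rfl | rfl | rfl | rfl | rfl)
      exacts [one_mem _, hv, ha, hb, mul_mem ha hb]
    have := Set.ncard_le_ncard hsub (Set.toFinite _)
    rw [Set.ncard_insert_of_notMem (by simp [hv1.symm, n1.symm, n2.symm, n3.symm]),
      Set.ncard_insert_of_notMem (by simp [h1.symm, h2.symm, Ne.symm hne']),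
      Set.ncard_insert_of_notMem (by simp [h3.symm, n4.symm]), Set.ncard_pair n5.symm, ← Nat.card_coe_set_eq] at this
    change _ ≤ Nat.card T at this
    omega
  refine ⟨⟨x, x.2.1⟩, ⟨v, K.le hv⟩, Subtype.ext hx3, Subtype.ext (by show v ^ 2 = 1; rw [pow_two]; exact K.sq v hv),
    Subtype.ext ?_, fun e => hv1 (congrArg Subtype.val e)⟩
  show ((x : G) * v) ^ 3 = 1
  calc ((x : G) * v) ^ 3 = a' * b' * ((x : G) ^ 3 * v) := by
        rw [hb', ha']; simp only [pow_succ, pow_zero, one_mul]; group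
    _ = 1 := by rw [hx3, one_mul, hprod, K.sq v hv]

/-- A subgroup `L₂(q)` of `L₂(r)` with an isomorphism. -/
theorem sub_psl (K : Kit H T) (h4 : Nat.card T = 4) {q : ℕ} (hq : 11 ≤ q) (hq8 : q % 8 = 3 ∨ q % 8 = 5)
    (hH : 2 * Nat.card H = q * (q ^ 2 - 1)) {F : Type} [Field F] [Fintype F]
    (hF : Fintype.card F % 8 = 3 ∨ Fintype.card F % 8 = 5)
    (f : H →* Matrix.ProjectiveSpecialLinearGroup (Fin 2) F) (hf : Function.Injective f) :
    Fintype.card F = q ∨ ∃ m, 3 ≤ m ∧ Odd m ∧ Fintype.card F = q ^ m := by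
  obtain ⟨p, hp⟩ := CharP.exists F
  haveI := hp
  haveI : Fact p.Prime := ⟨CharP.char_is_prime F p⟩
  have hp2 : p ≠ 2 := GW.Model.p_ne_two (F := F) p (Nat.odd_iff.mpr (by omega))
  have hrc : Nat.card f.range = Nat.card H := (Nat.card_congr (MonoidHom.ofInjective hf).toEquiv).symm
  have mono : ∀ x y : ℕ, 2 ≤ y → x < y → x * (x ^ 2 - 1) < y * (y ^ 2 - 1) := fun x y h' h => by
    have h1 : x ^ 2 - 1 ≤ y ^ 2 - 1 := Nat.sub_le_sub_right (Nat.pow_le_pow_left h.le 2) 1
    exact Nat.mul_lt_mul_of_lt_of_le h h1 (by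
      have := Nat.pow_le_pow_left h' 2
      omega)
  by_cases htop : f.range = ⊤
  · left
    have h1 := PSL2Max.two_card (F := F) p hp2
    rw [htop, card_top] at hrc
    rw [hrc, hH] at h1
    rcases lt_trichotomy (Fintype.card F) q with h | h | h
    · exact absurd h1 (mono _ _ (by omega) h).ne'
    · exact h
    · exact absurd h1 (mono _ _ (by omega) h).ne
  obtain ⟨x, y, hxy⟩ := K.exists_pair h4
  have h10 : 10 * (11 ^ 2 - 1) ≤ q * (q ^ 2 - 1) :=
    Nat.mul_le_mul (by omega) (Nat.sub_le_sub_right (Nat.pow_le_pow_left hq 2) 1)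
  rcases PSL2Max.over_cases (F := F) p hp2 le_rfl htop
      ⟨f x, ⟨x, rfl⟩, f y, ⟨y, rfl⟩, hxy.map_inj f hf⟩ with h | h | h | ⟨Q, m, hQ, hm, hQm, h⟩
  all_goals rw [hrc] at h
  · omega
  · omega
  · omega
  · right
    have hQo : Odd Q := by
      rw [← Nat.not_even_iff_odd]
      intro he
      have h2 : 2 ∣ Fintype.card F := hQm ▸ dvd_pow (even_iff_two_dvd.mp he) (by omega)
      omega
    rcases h with h | h
    · have hQq : Q = q := by
        rw [hH] at h
        rcases lt_trichotomy Q q with h' | h' | h'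
        · exact absurd h (mono _ _ (by omega) h').ne'
        · exact h'
        · exact absurd h (mono _ _ (by omega) h').ne
      subst hQq
      have hmo : Odd m := by
        rw [← Nat.not_even_iff_odd]
        rintro ⟨j, rfl⟩
        rw [← hQm, ← two_mul, pow_mul, Nat.pow_mod, Nat.pow_mod Q 2] at hF
        rcases hq8 with h8 | h8 <;> rw [h8] at hF <;> norm_num at hF
      refine ⟨m, ?_, hmo, hQm.symm⟩
      rw [Nat.odd_iff] at hmo
      omega
    · exfalso
      have h8 : 8 ∣ Q ^ 2 - 1 := by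
        obtain ⟨i, rfl⟩ := hQo
        obtain ⟨l, hl⟩ := Nat.even_mul_succ_self i
        refine ⟨l, ?_⟩
        have : (2 * i + 1) ^ 2 = 4 * (i * (i + 1)) + 1 := by ring
        omega
      have hc8 : 8 ∣ Nat.card H := h ▸ h8.mul_left Q
      have h16 : 16 ∣ q * (q ^ 2 - 1) := hH ▸ (by obtain ⟨c, hc⟩ := hc8; exact ⟨c, by rw [hc]; ring⟩)
      have hsq : (q * (q ^ 2 - 1)) % 16 = 8 := by
        have e1 : q ^ 2 % 16 = (q % 16) ^ 2 % 16 := Nat.pow_mod q 2 16
        have h1 : 1 ≤ q ^ 2 := Nat.one_le_pow _ _ (by omega)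
        have hq16 : q % 16 = 3 ∨ q % 16 = 5 ∨ q % 16 = 11 ∨ q % 16 = 13 := by omega
        rw [Nat.mul_mod]
        rcases hq16 with h' | h' | h' | h' <;> rw [h'] at e1 <;> norm_num at e1 <;> rw [h'] <;> omega
      omega

end CfsgLib.StabSimpAb
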