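import Cfsg.Agent.Lib.StabSimpAb.EvenSocle
import Cfsg.Agent.Lib.StabSimpAb.EvenChain
import Cfsg.Agent.Lib.StabSimpAb.EvenFix
import Cfsg.Agent.Lib.StabSimpAb.DirectCount
import Cfsg.Agent.Lib.StabSimpAb.FourGroup

/-!
Even degree: the numbers attached to the point stabiliser.

Blueprint: `blueprint/S3400.md`, section 1.
-/

set_option autoImplicit false
set_option linter.unusedSectionVars false
set_option linter.style.haveILetI false

namespace CfsgLib.StabSimpAb

open MulAction CfsgLib.StabAlt5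
open Cfsg (oddCore)

universe u v

variable {G : Type u} [Group G] [Finite G] {Ω : Type v} [Finite Ω] [MulAction G Ω] [FaithfulSMul G Ω]
variable {a b : Ω} {T : Subgroup G}

/-- The numbers of a socle `K` with Sylow subgroup `TK`. -/
structure EvenNum (C : Cx a b T) (t : G) {A : Type u} [Group A] (K TK : Subgroup A) (g d f R iK cK : ℕ) : Prop where
  kit : Kit K TK
  cardT : Nat.card TK = Nat.card T
  dvdH : Nat.card (stab2 G a b) ∣ Nat.card K
  hom : ∃ φ : ↥(stab2 G a b) →* ↥K, Function.Injective φ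
  cent : CentCard K TK cK
  cK_eq : R * Nat.card ↥(stab2 G a b ⊓ Subgroup.centralizer ({t} : Set G)) = cK
  cardK : iK * cK = Nat.card K
  gOdd : Odd g
  fOdd : Odd f
  dpos : 0 < d
  fix : (fixedBy Ω t).ncard = g * (d * f) * R + 1
  eq : g ^ 2 * iK = invNum G a b + swaps t a b * (fixedBy Ω t).ncard
  two : Nat.card T = 4 → (fixPts Ω T).ncard = d * f + 1
  three : 8 ≤ Nat.card T → ∃ h, g = h * h ∧ h ∣ d
  tower : ∀ r, Nat.card T = 2 ^ r → ∃ h, Odd h ∧ g = h ^ 2 ^ (r - 2)
  one : swaps t a b = 1 → g = 1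

theorem Cx.even_num (C : Cx a b T) (hev : Even (Nat.card Ω)) {t : G} (ht : t ∈ T) (I : Inv2 t a b) :
    ∃ (A : Type u) (_ : Group A) (_ : Finite A) (K TK : Subgroup A) (g d f R iK cK : ℕ),
      EvenNum C t K TK g d f R iK cK := by
  classical
  haveI : Fact (Nat.Prime 2) := ⟨Nat.prime_two⟩
  set n := Nat.card Ω with hn
  set m := (fixedBy Ω t).ncard with hm
  set H := stab2 G a b with hH
  set M := stabilizer G a with hM
  have hHM : H ≤ M := inf_le_left
  have hTM : T ≤ M := C.kit.le.trans hHM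
  have hn2 : 2 ≤ n := by
    rw [hn, ← Set.ncard_univ, ← Set.ncard_pair C.ne]
    exact Set.ncard_le_ncard (Set.subset_univ _)
  set H' := H.subgroupOf M
  set T' := T.subgroupOf M
  have KM : Kit H' T' := C.kit.subgroupOf hHM
  have hcardM : Nat.card M = (n - 1) * Nat.card H := C.card_stab_a
  have hHidx : H'.index = n - 1 := by
    have h := Subgroup.card_mul_index H'
    rw [Nat.card_congr (Subgroup.subgroupOfEquivOfLe hHM).toEquiv, hcardM, mul_comm (n - 1)] at h
    exact Nat.eq_of_mul_eq_mul_left Nat.card_pos h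
  have hTidx : ¬ 2 ∣ T'.index := by
    rw [← Subgroup.relIndex_mul_index (show T' ≤ H' from fun x hx => C.kit.le hx), hHidx,
      Subgroup.relIndex_subgroupOf hHM]
    intro h
    rcases (Nat.prime_two.dvd_mul).mp h with h | h
    · exact C.kit.odd h
    · rw [Nat.even_iff] at hev; omega
  obtain ⟨K, S⟩ := exists_socle KM hTidx
  set π := QuotientGroup.mk' (oddCore M)
  set t' : M := ⟨t, hTM ht⟩
  have ht' : t' ∈ T' := ht
  have ht'1 : t' ≠ 1 := fun e => I.ne_one (congrArg Subtype.val e)
  have ht'2 : t' * t' = 1 := Subtype.ext I.sq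
  have hπt : π t' ≠ 1 := fun e => ht'1 (inj_of_socle S (KM.le ht') e)
  set O := oddCore M
  obtain ⟨r, hr⟩ := IsPGroup.iff_card.mp C.kit.isPGroup
  have hr2 : 2 ≤ r := by
    by_contra h
    have h4 := C.kit.four
    rw [hr] at h4
    rcases (show r = 0 ∨ r = 1 by omega) with rfl | rfl <;> norm_num at h4
  have hT' : Nat.card T' = 2 ^ r := by rw [Nat.card_congr (Subgroup.subgroupOfEquivOfLe hTM).toEquiv, hr]
  have hconj : ∀ x ∈ T', x ≠ 1 → ∀ y ∈ T', y ≠ 1 → cOrd O (Subgroup.zpowers x) = cOrd O (Subgroup.zpowers y) := by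
    intro x hx x1 y hy y1
    obtain ⟨h, hh, he⟩ := KM.conj_all (KM.le hx) (KM.le hy) (KM.sq x hx) x1 (KM.sq y hy) y1
    have key : ∀ z : M, O ⊓ Subgroup.centralizer ((Subgroup.zpowers z : Subgroup M) : Set M) =
        O ⊓ Subgroup.centralizer ({z} : Set M) := fun z => by
      rw [Subgroup.zpowers_eq_closure, Subgroup.centralizer_closure]
    show Nat.card _ = Nat.card _
    rw [key, key, ← he]
    exact Nat.card_congr
      { toFun := fun z => ⟨h * z * h⁻¹, (inferInstance : O.Normal).conj_mem _ z.2.1 h,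
          Subgroup.mem_centralizer_singleton_iff.mpr (by
            rw [show h * (z : M) * h⁻¹ * (h * x * h⁻¹) = h * ((z : M) * x) * h⁻¹ by group,
              Subgroup.mem_centralizer_singleton_iff.mp z.2.2]
            group)⟩
        invFun := fun z => ⟨h⁻¹ * z * h, by
            simpa using (inferInstance : O.Normal).conj_mem _ z.2.1 h⁻¹,
          Subgroup.mem_centralizer_singleton_iff.mpr (by
            calc h⁻¹ * (z : M) * h * x = h⁻¹ * ((z : M) * (h * x * h⁻¹)) * h := by group
              _ = h⁻¹ * ((h * x * h⁻¹) * (z : M)) * h := by rw [Subgroup.mem_centralizer_singleton_iff.mp z.2.2]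
              _ = x * (h⁻¹ * (z : M) * h) := by group)⟩
        left_inv := fun z => Subtype.ext (by show h⁻¹ * (h * z * h⁻¹) * h = z; group)
        right_inv := fun z => Subtype.ext (by show h * (h⁻¹ * z * h) * h⁻¹ = z; group) }
  have hOodd : Odd (Nat.card O) := CfsgLib.odd_card_oddCore
  obtain ⟨g, d, hdpos, hc, hO, hd2, hdT, hd3, hdt, hgodd⟩ := ratios (inferInstance : O.Normal) hOodd KM.sq hconj hr2 hT'
    ht' ht'1
  set cK := Nat.card ↥(K ⊓ Subgroup.centralizer ({π t'} : Set (↥M ⧸ oddCore M)))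
  set cH := Nat.card ↥(H ⊓ Subgroup.centralizer ({t} : Set G)) with hcH
  have hcH' : Nat.card ↥(H' ⊓ Subgroup.centralizer ({t'} : Set M)) = cH := Nat.card_congr
    { toFun := fun x => ⟨((x : M) : G), x.2.1, Subgroup.mem_centralizer_singleton_iff.mpr
        (congrArg Subtype.val (Subgroup.mem_centralizer_singleton_iff.mp x.2.2))⟩
      invFun := fun x => ⟨⟨x, hHM x.2.1⟩, x.2.1, Subgroup.mem_centralizer_singleton_iff.mpr
        (Subtype.ext (Subgroup.mem_centralizer_singleton_iff.mp x.2.2))⟩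
      left_inv := fun _ => rfl
      right_inv := fun _ => rfl }
  obtain ⟨R, hR⟩ : cH ∣ cK := hcH' ▸ S.cent_dvd t'
  obtain ⟨iK, hiK⟩ : cK ∣ Nat.card K := Subgroup.card_dvd_of_le inf_le_left
  set f := K.index with hf
  have hM' := S.card
  have hcent : (m - 1) * cH = g * d * (f * cK) := by
    have h := S.card_cent ht' ht'2 hπt
    rw [hc] at h
    rw [← h, ← (C.card_cent I).2]
    exact Nat.card_congr
      { toFun := fun x => ⟨⟨x.1, x.2.2⟩, Subgroup.mem_centralizer_singleton_iff.mpr
          (Subtype.ext (Subgroup.mem_centralizer_singleton_iff.mp x.2.1))⟩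
        invFun := fun x => ⟨(x.1 : G), Subgroup.mem_centralizer_singleton_iff.mpr
          (congrArg Subtype.val (Subgroup.mem_centralizer_singleton_iff.mp x.2)), x.1.2⟩
        left_inv := fun _ => rfl
        right_inv := fun _ => rfl }
  have hcHpos : 0 < cH := Nat.card_pos
  have hm2 : 2 ≤ m := C.two_le_fix I
  have hm1 : m - 1 = g * (d * f) * R := Nat.eq_of_mul_eq_mul_right hcHpos (by rw [hcent, hR]; ring)
  have hfixm : m = g * (d * f) * R + 1 := by omega
  have hmn : m < n := fix_lt I.ne_one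
  have heq : g ^ 2 * iK = invNum G a b + swaps t a b * m := by
    have hb := C.basic I
    rw [← hm, ← hn] at hb
    have h1 : (n - 1) * invNum G a b = g ^ 2 * iK * (m - 1) := by
      refine Nat.eq_of_mul_eq_mul_right hcHpos ?_
      rw [mul_assoc, C.invNum_mul I, ← hcardM, hM', hO, hiK, hR, hm1]
      ring
    have h2 : invNum G a b * (n - 1) = invNum G a b * (n - m) + invNum G a b * (m - 1) := by
      rw [← mul_add]; congr 1; clear * - hmn hm2; omega
    refine Nat.eq_of_mul_eq_mul_right (show 0 < m - 1 from Nat.sub_pos_of_lt hm2) ?_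
    rw [← h1, mul_comm (n - 1), h2, hb]
    ring
  have hcardTK : Nat.card (T'.map π) = Nat.card T := by
    rcases S.card_T with h | h
    · rw [h, Nat.card_congr (Subgroup.subgroupOfEquivOfLe hTM).toEquiv]
    · exact absurd KM.le h
  refine ⟨_, inferInstance, inferInstance, K, T'.map π, g, d, f, R, iK, cK, ⟨S.kit, hcardTK, ?_, ?_, ?_, ?_, ?_,
    hgodd, S.odd, hdpos, hfixm, heq, fun h4 => ?_, fun h8 => ?_, fun r' hr' => ?_, fun hw => ?_⟩⟩
  · rw [← Nat.card_congr (Subgroup.subgroupOfEquivOfLe hHM).toEquiv]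
    exact S.card_H_dvd
  · refine ⟨((π.comp H'.subtype).codRestrict K fun x => S.le (Subgroup.mem_map_of_mem _ x.2)).comp
      (Subgroup.subgroupOfEquivOfLe hHM).symm.toMonoidHom, ?_⟩
    have hinj : Function.Injective ⇑((π.comp H'.subtype).codRestrict K fun x =>
        S.le (Subgroup.mem_map_of_mem _ x.2)) := (injective_iff_map_eq_one _).mpr fun x hx =>
      Subtype.ext (inj_of_socle S x.2 (congrArg Subtype.val hx))
    exact fun x y hxy => (Subgroup.subgroupOfEquivOfLe hHM).symm.injective (hinj hxy)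
  · exact S.kit.centCard (Subgroup.mem_map_of_mem _ ht') hπt
  · rw [mul_comm]; exact hR.symm
  · rw [mul_comm]; exact hiK.symm
  · have hr' : r = 2 := Nat.pow_right_injective le_rfl (show 2 ^ r = 2 ^ 2 by rw [← hr, h4])
    obtain ⟨-, -, -, hN⟩ := C.fixT hev
    have hN' : Nat.card (Subgroup.normalizer (T' : Set M)) =
        Nat.card ↥(Subgroup.normalizer (T : Set G) ⊓ stabilizer G a) := Nat.card_congr
      { toFun := fun x => ⟨(x.1 : G), mem_normalizer_of_le fun z hz =>
          (Subgroup.mem_normalizer_iff.mp x.2 ⟨z, hTM hz⟩).mp hz, x.1.2⟩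
        invFun := fun x => ⟨⟨x.1, x.2.2⟩, Subgroup.mem_normalizer_iff.mpr fun z =>
          Subgroup.mem_normalizer_iff.mp x.2.1 (z : G)⟩
        left_inv := fun _ => rfl
        right_inv := fun _ => rfl }
    rw [hN, S.card_norm hTidx KM.isPGroup KM.le, S.kit.card_norm (by rw [hcardTK, h4]), C.kit.card_norm h4] at hN'
    have h1 : d = Nat.card ↥(O ⊓ Subgroup.centralizer (T' : Set M)) := hd2 hr'
    rw [← h1, ← mul_assoc] at hN'
    have := Nat.eq_of_mul_eq_mul_right (by norm_num : 0 < 12) hN'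
    obtain ⟨-, hk2, -, -⟩ := C.fixT hev
    change _ = d * f + 1
    change d * f = _ at this
    omega
  · refine hd3 ?_
    by_contra h
    have hr' : r = 2 := le_antisymm (Nat.lt_succ_iff.mp (not_le.mp h)) hr2
    rw [hr, hr'] at h8
    norm_num at h8
  · have : r' = r := Nat.pow_right_injective le_rfl (show 2 ^ r' = 2 ^ r by rw [← hr, hr'])
    subst this
    exact hdt
  · -- every involution of `T` fixes all fixed points of `t`
    have hle : O ⊓ Subgroup.centralizer ({t'} : Set M) ≤ O ⊓ Subgroup.centralizer (T' : Set M) := by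
      intro x hx
      refine ⟨hx.1, Subgroup.mem_centralizer_iff.mpr fun v hv => ?_⟩
      rcases eq_or_ne v 1 with rfl | hv1
      · rw [one_mul, mul_one]
      have J : Inv2 (v : G) a b := C.inv2_of_mem hv fun e => hv1 (Subtype.ext e)
      have hvt : (v : G) * t = t * (v : G) := C.kit.comm hv ht
      have hxt : (x : G) * t = t * (x : G) :=
        congrArg Subtype.val (Subgroup.mem_centralizer_singleton_iff.mp hx.2)
      have hcom : x * v * x⁻¹ * v⁻¹ ∈ H' ⊓ O := by
        refine ⟨?_, by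
          rw [show x * v * x⁻¹ * v⁻¹ = x * (v * x⁻¹ * v⁻¹) by group]
          exact mul_mem hx.1 ((inferInstance : O.Normal).conj_mem _ (inv_mem hx.1) v)⟩
        have hfix : ∀ c : Ω, t • c = c → ((x : G) * v * (x : G)⁻¹ * (v : G)⁻¹) • c = c := by
          intro c hc
          have h1 : (v : G)⁻¹ • c = c := inv_smul_eq_iff.mpr (C.fix_of_one I J hw hvt hc).symm
          have hc2 : t • ((x : G)⁻¹ • c) = (x : G)⁻¹ • c := by
            refine fix_comm ?_ hc
            exact ((Commute.inv_left hxt : Commute (x : G)⁻¹ t).eq).symm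
          rw [mul_smul, h1, mul_smul, mul_smul, C.fix_of_one I J hw hvt hc2, smul_inv_smul]
        exact ⟨hfix a I.mem.1, hfix b I.mem.2⟩
      rw [S.inj, Subgroup.mem_bot, mul_inv_eq_one, mul_inv_eq_iff_eq_mul] at hcom
      exact hcom.symm
    have h1 : g * d ≤ cOrd O T' := hc ▸ Subgroup.card_le_of_le hle
    have h2 : cOrd O T' ≤ d := hdT
    nlinarith [hgodd.pos]

end CfsgLib.StabSimpAb
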