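import Cfsg.Agent.Lib.StabSimpAb.Kit
import Cfsg.Agent.Lib.StabAlt5.Local4
import Cfsg.Agent.Lib.PSolvable

/-!
A group whose Sylow 2-subgroup lies in a simple subgroup with abelian Sylow 2-subgroup: the socle modulo the odd core.
-/

set_option autoImplicit false
set_option linter.unusedSectionVars false
set_option linter.style.haveILetI false

namespace CfsgLib.StabSimpAb

open Subgroup CfsgLib.StabAlt5
open Cfsg (oddCore)

universe u

variable {M : Type u} [Group M] [Finite M]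

/-- A coset of a normal subgroup of odd order fixed by an involution contains a fixed element. -/
theorem exists_cent_rep {O : Subgroup M} [O.Normal] (hO : Odd (Nat.card O)) {x g : M} (hx : x * x = 1)
    (hg : g⁻¹ * (x * g * x) ∈ O) : ∃ o ∈ O, g * o * x = x * (g * o) := by
  have hxi : x⁻¹ = x := inv_eq_of_mul_eq_one_left hx
  set u := g⁻¹ * (x * g * x) with hu
  have hxu : x * u * x = u⁻¹ := by
    calc x * u * x = x * g⁻¹ * x * g * (x * x) := by rw [hu]; group
      _ = u⁻¹ := by rw [hx, hu, _root_.mul_inv_rev, _root_.mul_inv_rev, _root_.mul_inv_rev, inv_inv, hxi]; group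
  obtain ⟨j, hj⟩ := hO
  have hpow : u ^ (2 * j + 1) = 1 := by
    have h := pow_card_eq_one' (x := (⟨u, hg⟩ : O))
    rw [hj] at h
    exact congrArg Subtype.val h
  refine ⟨u ^ (j + 1), pow_mem hg _, ?_⟩
  have hxv : x * u ^ (j + 1) * x = (u ^ (j + 1))⁻¹ := by
    rw [← inv_pow, ← hxu]
    conv_lhs => rw [show x * u ^ (j + 1) * x = x * u ^ (j + 1) * x⁻¹ by rw [hxi]]
    rw [← conj_pow, hxi]
  have h1 : (g * u ^ (j + 1))⁻¹ * (x * (g * u ^ (j + 1)) * x) = (u ^ (2 * j + 1))⁻¹ := by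
    calc (g * u ^ (j + 1))⁻¹ * (x * (g * u ^ (j + 1)) * x)
        = (u ^ (j + 1))⁻¹ * g⁻¹ * x * g * (x * x) * u ^ (j + 1) * x := by rw [hx]; group
      _ = (u ^ (j + 1))⁻¹ * u * (x * u ^ (j + 1) * x) := by rw [hu]; group
      _ = _ := by rw [hxv]; group
  rw [hpow, inv_one, inv_mul_eq_one] at h1
  calc g * u ^ (j + 1) * x = x * (g * u ^ (j + 1)) * x * x := by rw [← h1]
    _ = _ := by rw [mul_assoc _ x x, hx, mul_one]

local notation "π" => QuotientGroup.mk' (oddCore M)

/-- The centraliser of an involution and that of its image. -/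
theorem card_cent_quot {x : M} (hx : x * x = 1) :
    Nat.card (centralizer ({x} : Set M)) = Nat.card ↥(oddCore M ⊓ centralizer ({x} : Set M)) *
      Nat.card (centralizer ({π x} : Set (M ⧸ oddCore M))) := by
  rw [← card_image_mul (QuotientGroup.mk' (oddCore M)) (centralizer ({x} : Set M)), QuotientGroup.ker_mk']
  congr 2
  refine congrArg (fun X : Subgroup (M ⧸ oddCore M) => (↥X : Type u)) ?_
  refine le_antisymm ?_ fun y hy => ?_
  · rintro _ ⟨g, hg, rfl⟩
    refine mem_centralizer_singleton_iff.mpr ?_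
    rw [← map_mul, ← map_mul, mem_centralizer_singleton_iff.mp hg]
  · obtain ⟨g, rfl⟩ := QuotientGroup.mk'_surjective _ y
    rw [mem_centralizer_singleton_iff, ← map_mul, ← map_mul] at hy
    obtain ⟨o, ho, he⟩ := exists_cent_rep CfsgLib.odd_card_oddCore hx (g := g) (by
      have h := QuotientGroup.eq.mp hy
      rw [_root_.mul_inv_rev] at h
      have h' := (inferInstance : (oddCore M).Normal).conj_mem _ h x
      simp only [inv_eq_of_mul_eq_one_left hx, mul_assoc] at h' ⊢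
      rwa [← mul_assoc x x, hx, one_mul] at h')
    exact ⟨g * o, mem_centralizer_singleton_iff.mpr he, by
      rw [map_mul, show π o = 1 from (QuotientGroup.eq_one_iff o).mpr ho, mul_one]⟩

variable {H T : Subgroup M}

/-- The socle of `M / O(M)`. -/
structure Socle (H T : Subgroup M) (K : Subgroup (M ⧸ oddCore M)) : Prop where
  normal : K.Normal
  le : H.map π ≤ K
  inj : H ⊓ oddCore M = ⊥
  kit : Kit K (T.map π)
  odd : Odd K.index

theorem inj_of_socle {K : Subgroup (M ⧸ oddCore M)} (S : Socle H T K) {x : M} (hx : x ∈ H) (h : π x = 1) : x = 1 := by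
  have : x ∈ H ⊓ oddCore M := ⟨hx, (QuotientGroup.eq_one_iff x).mp h⟩
  rwa [S.inj, mem_bot] at this

/-- The socle exists. -/
theorem exists_socle (C : Kit H T) (hT : ¬ 2 ∣ T.index) : ∃ K, Socle H T K := by
  classical
  haveI : Fact (Nat.Prime 2) := ⟨Nat.prime_two⟩
  set A := M ⧸ oddCore M
  have hinv : ∃ x ∈ T, x ≠ 1 := (T.bot_or_exists_ne_one).resolve_left fun e => by
    have h4 := C.four
    rw [e, card_bot] at h4
    omega
  have hinj : H ⊓ oddCore M = ⊥ := by
    refine (C.normal_eq fun h _ x hx => (inferInstance : (oddCore M).Normal).conj_mem x hx h).resolve_right fun hle => ?_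
    obtain ⟨x, hx, hx1⟩ := hinv
    have h1 : orderOf x ∣ Nat.card (oddCore M) :=
      Subgroup.orderOf_coe (⟨x, hle (C.le hx)⟩ : oddCore M) ▸ orderOf_dvd_natCard _
    rw [orderOf_eq_prime (by rw [pow_two]; exact C.sq x hx) hx1] at h1
    exact Nat.not_even_iff_odd.mpr CfsgLib.odd_card_oddCore (even_iff_two_dvd.mpr h1)
  set Tb := T.map π
  have hTbp : IsPGroup 2 Tb := C.isPGroup.map _
  set P : Sylow 2 M := C.isPGroup.toSylow hT
  set Pb : Sylow 2 A := P.mapSurjective (QuotientGroup.mk'_surjective _)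
  have hPb : (Pb : Subgroup A) = Tb := rfl
  -- involutions go into the image of `T`
  have hcore : Cfsg.pPrimeCore 2 A = ⊥ := CfsgLib.pPrimeCore_quotient_eq_bot 2
  have hK1 : ∀ N : Subgroup A, (∀ g ∈ H.map π, ∀ y ∈ N, g * y * g⁻¹ ∈ N) → (∃ y ∈ Tb, y ∈ N ∧ y ≠ 1) →
      H.map π ≤ N := by
    rintro N hN ⟨_, ⟨x, hx, rfl⟩, hxN, hx1⟩
    have hle := (C.normal_eq (N := N.comap π) fun h hh y hy => by
      rw [mem_comap, map_mul, map_mul, map_inv]
      exact hN _ (mem_map_of_mem _ hh) _ hy).resolve_left fun e => by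
      have : x ∈ H ⊓ N.comap π := ⟨C.le hx, hxN⟩
      rw [e, mem_bot] at this
      exact hx1 (by rw [this, map_one])
    exact map_le_iff_le_comap.mpr hle
  have hbig : ∀ N : Subgroup A, N.Normal → N ≠ ⊥ → H.map π ≤ N := by
    intro N hN hne
    haveI := hN
    refine hK1 N (fun g _ y hy => hN.conj_mem y hy g) ?_
    have h2 : 2 ∣ Nat.card N := by
      by_contra h
      have := CfsgLib.le_pPrimeCore (p := 2) (N := N) (Nat.prime_two.coprime_iff_not_dvd.mpr h).symm
      rw [hcore, le_bot_iff] at this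
      exact hne this
    obtain ⟨y, hy⟩ := exists_prime_orderOf_dvd_card' 2 h2
    obtain ⟨Q, hQ⟩ := (show IsPGroup 2 (zpowers (y : A)) from IsPGroup.of_card (n := 1) (by
      rw [Nat.card_zpowers, orderOf_coe, hy, pow_one])).exists_le_sylow
    obtain ⟨g, hg⟩ := MulAction.exists_smul_eq A Q Pb
    refine ⟨g * y * g⁻¹, ?_, hN.conj_mem _ y.2 g, fun e => ?_⟩
    · rw [← hPb, ← hg, Sylow.coe_subgroup_smul]
      exact ⟨_, hQ (mem_zpowers _), rfl⟩
    · have h0 : y = 1 := Subtype.ext (conj_eq_one_iff.mp e)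
      rw [h0, orderOf_one] at hy
      omega
  -- a minimal normal subgroup
  have hHne : H.map π ≠ ⊥ := fun e => by
    obtain ⟨x, hx, hx1⟩ := hinv
    have h1 : π x ∈ H.map π := mem_map_of_mem _ (C.le hx)
    rw [e, mem_bot] at h1
    have h2 : x ∈ H ⊓ oddCore M := ⟨C.le hx, (QuotientGroup.eq_one_iff x).mp h1⟩
    rw [hinj, mem_bot] at h2
    exact hx1 h2
  have hex : ∃ n, ∃ N : Subgroup A, N.Normal ∧ N ≠ ⊥ ∧ Nat.card N = n :=
    ⟨_, ⊤, inferInstance, fun e => hHne (le_bot_iff.mp (e ▸ le_top)), rfl⟩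
  obtain ⟨K, hKn, hKne, hKc⟩ := Nat.find_spec hex
  haveI := hKn
  have hHK := hbig K hKn hKne
  have hTK : Tb ≤ K := (map_mono C.le).trans hHK
  have hidx : ¬ 2 ∣ Tb.index := hPb ▸ Pb.not_dvd_index
  have hrel : ¬ 2 ∣ Tb.relIndex K := fun h => hidx (h.trans (Dvd.intro _ (relIndex_mul_index hTK)))
  let PK : Sylow 2 K := (hTbp.comap_subtype (K := K)).toSylow hrel
  have hsimple : IsSimpleGroup K := by
    haveI : Nontrivial K := (nontrivial_iff_ne_bot K).mpr hKne
    refine ⟨fun M1 hM1 => ?_⟩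
    haveI := hM1
    by_cases hb : M1 = ⊥
    · exact Or.inl hb
    refine Or.inr ?_
    set N1 := M1.map K.subtype with hN1
    have hconjK : ∀ k ∈ K, ∀ y ∈ N1, k * y * k⁻¹ ∈ N1 := by
      rintro k hk _ ⟨y, hy, rfl⟩
      exact ⟨⟨k, hk⟩ * y * ⟨k, hk⟩⁻¹, hM1.conj_mem y hy _, rfl⟩
    have h2 : 2 ∣ Nat.card M1 := by
      by_contra h
      have h1 := CfsgLib.le_pPrimeCore (p := 2) (N := M1) (Nat.prime_two.coprime_iff_not_dvd.mpr h).symm
      set O1 := (Cfsg.pPrimeCore 2 ↥K).map K.subtype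
      have hO1n : O1.Normal := by
        refine ⟨?_⟩
        rintro _ ⟨y, hy, rfl⟩ g
        let φ : ↥K ≃* ↥K :=
          { toFun := fun z => ⟨g * z * g⁻¹, hKn.conj_mem _ z.2 g⟩
            invFun := fun z => ⟨g⁻¹ * z * g, by have := hKn.conj_mem _ z.2 g⁻¹; rwa [inv_inv] at this⟩
            left_inv := fun z => Subtype.ext (by show g⁻¹ * (g * z * g⁻¹) * g = _; group)
            right_inv := fun z => Subtype.ext (by show g * (g⁻¹ * z * g) * g⁻¹ = _; group)
            map_mul' := fun z w => Subtype.ext (by show g * ((z : A) * w) * g⁻¹ = g * z * g⁻¹ * (g * w * g⁻¹); group) }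
        exact ⟨φ y, CfsgLib.pPrimeCore_map_equiv 2 φ ▸ mem_map_of_mem _ hy, rfl⟩
      have : O1 ≤ Cfsg.pPrimeCore 2 A := CfsgLib.le_pPrimeCore (N := O1) (by
        rw [card_map_of_injective K.subtype_injective]
        exact CfsgLib.card_pPrimeCore_coprime 2)
      rw [hcore, le_bot_iff, map_eq_bot_iff_of_injective _ K.subtype_injective] at this
      exact hb (le_bot_iff.mp (this ▸ h1))
    obtain ⟨y, hy⟩ := exists_prime_orderOf_dvd_card' 2 h2
    obtain ⟨Q, hQ⟩ := (show IsPGroup 2 (zpowers (y : ↥K)) from IsPGroup.of_card (n := 1) (by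
      rw [Nat.card_zpowers, orderOf_coe, hy, pow_one])).exists_le_sylow
    obtain ⟨g, hg⟩ := MulAction.exists_smul_eq (↥K) Q PK
    have hgy : g * y * g⁻¹ ∈ (PK : Subgroup ↥K) := by
      rw [← hg, Sylow.coe_subgroup_smul]
      exact ⟨_, hQ (mem_zpowers _), rfl⟩
    have hHN1 : H.map π ≤ N1 := hK1 N1 (fun h hh => hconjK h (hHK hh))
      ⟨(g * y * g⁻¹ : ↥K), hgy, ⟨_, hM1.conj_mem _ y.2 g, rfl⟩, fun e => by
        have h0 : g * (y : ↥K) * g⁻¹ = 1 := Subtype.ext e
        have : y = 1 := Subtype.ext (conj_eq_one_iff.mp h0)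
        rw [this, orderOf_one] at hy
        omega⟩
    -- the intersection of the conjugates
    have hcoreN : H.map π ≤ N1.normalCore := by
      intro z hz g
      have hle : H.map π ≤ N1.map (MulAut.conj g⁻¹).toMonoidHom := by
        refine hK1 _ (fun h hh w hw => ?_) ?_
        · obtain ⟨w, hw, rfl⟩ := hw
          refine ⟨(g * h * g⁻¹) * w * (g * h * g⁻¹)⁻¹, hconjK _ (hKn.conj_mem _ (hHK hh) g) w hw, ?_⟩
          show g⁻¹ * _ * g⁻¹⁻¹ = h * (g⁻¹ * w * g⁻¹⁻¹) * h⁻¹
          group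
        · obtain ⟨_, ⟨x, hx, rfl⟩, hx1⟩ : ∃ w ∈ N1, w ≠ 1 :=
            N1.bot_or_exists_ne_one.resolve_left fun e => hb ((map_eq_bot_iff_of_injective _ K.subtype_injective).mp e)
          -- an involution of the conjugate
          obtain ⟨g', hg'⟩ : ∃ g' : ↥K, g' = ⟨g⁻¹ * (y : ↥K) * g⁻¹⁻¹, hKn.conj_mem _ (y : ↥K).2 g⁻¹⟩ := ⟨_, rfl⟩
          have hg'o : orderOf g' = 2 := by
            rw [← orderOf_coe, hg']
            exact ((MulAut.conj g⁻¹).orderOf_eq _).trans (by rw [orderOf_coe, orderOf_coe, hy])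
          obtain ⟨Q', hQ'⟩ := (show IsPGroup 2 (zpowers g') from IsPGroup.of_card (n := 1) (by
            rw [Nat.card_zpowers, hg'o, pow_one])).exists_le_sylow
          obtain ⟨k, hk⟩ := MulAction.exists_smul_eq (↥K) Q' PK
          refine ⟨(k * g' * k⁻¹ : ↥K), ?_, ?_, fun e => ?_⟩
          · have : k * g' * k⁻¹ ∈ (PK : Subgroup ↥K) := by
              rw [← hk, Sylow.coe_subgroup_smul]
              exact ⟨_, hQ' (mem_zpowers _), rfl⟩
            exact this
          · refine ⟨(g * k * g⁻¹) * (y : ↥K) * (g * k * g⁻¹)⁻¹, hconjK _ (hKn.conj_mem _ k.2 g) _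
              ⟨_, y.2, rfl⟩, ?_⟩
            rw [hg']
            show g⁻¹ * _ * g⁻¹⁻¹ = (k : A) * (g⁻¹ * ((y : ↥K) : A) * g⁻¹⁻¹) * (k : A)⁻¹
            group
          · have h0 : k * g' * k⁻¹ = 1 := Subtype.ext e
            rw [conj_eq_one_iff.mp h0, orderOf_one] at hg'o
            omega
      obtain ⟨w, hw, rfl⟩ := hle hz
      show g * (g⁻¹ * w * g⁻¹⁻¹) * g⁻¹ ∈ N1
      simpa [mul_assoc] using hw
    have hle := Nat.find_min' hex ⟨N1.normalCore, normalCore_normal N1,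
      fun e => hHne (le_bot_iff.mp (e ▸ hcoreN)), rfl⟩
    rw [← hKc] at hle
    have he : N1.normalCore = K := eq_of_le_of_card_ge ((normalCore_le N1).trans (map_subtype_le M1)) hle
    refine eq_top_iff.mpr fun z _ => ?_
    obtain ⟨w, hw, hwz⟩ := normalCore_le N1 (he.symm ▸ z.2 : (z : A) ∈ N1.normalCore)
    rwa [← Subtype.ext hwz]
  have hna : ¬ IsMulCommutative K := fun hcm => C.nonab ⟨⟨fun x y => by
    have h1 : π (x : M) * π y = π y * π x := congrArg Subtype.val
      (hcm.is_comm.comm ⟨_, hHK (mem_map_of_mem π x.2)⟩ ⟨_, hHK (mem_map_of_mem π y.2)⟩)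
    rw [← map_mul, ← map_mul] at h1
    have h2 : ((x : M) * y)⁻¹ * ((y : M) * x) ∈ H ⊓ oddCore M :=
      ⟨H.mul_mem (H.inv_mem (H.mul_mem x.2 y.2)) (H.mul_mem y.2 x.2), QuotientGroup.eq.mp h1⟩
    rw [hinj, mem_bot, inv_mul_eq_one] at h2
    exact Subtype.ext h2⟩⟩
  have hab : ∀ S : Sylow 2 K, IsMulCommutative (S : Subgroup K) := by
    intro S
    obtain ⟨g, rfl⟩ := MulAction.exists_smul_eq (↥K) PK S
    refine ⟨⟨fun x y => Subtype.ext ?_⟩⟩
    obtain ⟨x', hx', hx''⟩ := (SetLike.ext_iff.mp (Sylow.coe_subgroup_smul (g := g) (P := PK)) (x : ↥K)).mp x.2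
    obtain ⟨y', hy', hy''⟩ := (SetLike.ext_iff.mp (Sylow.coe_subgroup_smul (g := g) (P := PK)) (y : ↥K)).mp y.2
    show (x : ↥K) * y = y * x
    rw [← hx'', ← hy'']
    show MulAut.conj g x' * MulAut.conj g y' = MulAut.conj g y' * MulAut.conj g x'
    rw [← map_mul, ← map_mul]
    congr 1
    obtain ⟨x0, hx0, hxe⟩ := (show (x' : A) ∈ Tb from hx')
    obtain ⟨y0, hy0, hye⟩ := (show (y' : A) ∈ Tb from hy')
    refine Subtype.ext ?_
    show (x' : A) * y' = y' * x'
    rw [← hxe, ← hye, ← map_mul, ← map_mul, C.comm hx0 hy0]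
  haveI := hsimple
  have hlisted := WalterAb.listed_of_P (fun X _ _ => Walter.p_all X) K hsimple hna hab
  have hkit := kit_of_good hsimple hna (hlisted.good PK)
  have hPK : (PK : Subgroup ↥K).map K.subtype = Tb := map_subgroupOf_eq_of_le hTK
  rw [hPK] at hkit
  refine ⟨K, hKn, hHK, hinj, hkit, ?_⟩
  rw [← Nat.not_even_iff_odd, even_iff_two_dvd]
  exact fun h => hidx (h.trans (Dvd.intro_left _ (relIndex_mul_index hTK)))

variable {K : Subgroup (M ⧸ oddCore M)} (S : Socle H T K)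
include S

/-- The order of `M`. -/
theorem Socle.card : Nat.card M = Nat.card (oddCore M) * (K.index * Nat.card K) := by
  rw [← Subgroup.card_mul_index (oddCore M), mul_comm K.index, K.card_mul_index, index_eq_card]

theorem Socle.card_H_dvd : Nat.card H ∣ Nat.card K := by
  have e : Nat.card (H.map π) = Nat.card H := by
    have h := card_image_mul (QuotientGroup.mk' (oddCore M)) H
    rw [QuotientGroup.ker_mk', inf_comm, S.inj, card_bot, one_mul] at h
    exact h
  exact e ▸ card_dvd_of_le S.le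

theorem Socle.card_T : Nat.card (T.map π) = Nat.card T ∨ ¬ T ≤ H := by
  by_cases hle : T ≤ H
  · refine Or.inl ?_
    have h := card_image_mul (QuotientGroup.mk' (oddCore M)) T
    have e : oddCore M ⊓ T = ⊥ := le_bot_iff.mp fun x hx =>
      S.inj ▸ (⟨hle hx.2, hx.1⟩ : x ∈ H ⊓ oddCore M)
    rw [QuotientGroup.ker_mk', e, card_bot, one_mul] at h
    exact h
  · exact Or.inr hle

theorem Socle.cent_dvd (x : M) : Nat.card ↥(H ⊓ centralizer ({x} : Set M)) ∣
    Nat.card ↥(K ⊓ centralizer ({π x} : Set (M ⧸ oddCore M))) := by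
  have e : Nat.card ((H ⊓ centralizer ({x} : Set M)).map π) = Nat.card ↥(H ⊓ centralizer ({x} : Set M)) := by
    have h := card_image_mul (QuotientGroup.mk' (oddCore M)) (H ⊓ centralizer ({x} : Set M))
    have e : oddCore M ⊓ (H ⊓ centralizer ({x} : Set M)) = ⊥ := le_bot_iff.mp fun y hy =>
      S.inj ▸ (⟨hy.2.1, hy.1⟩ : y ∈ H ⊓ oddCore M)
    rw [QuotientGroup.ker_mk', e, card_bot, one_mul] at h
    exact h
  refine e ▸ card_dvd_of_le ?_
  rintro _ ⟨y, hy, rfl⟩
  exact ⟨S.le (mem_map_of_mem _ hy.1), mem_centralizer_singleton_iff.mpr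
    (by rw [← map_mul, ← map_mul, mem_centralizer_singleton_iff.mp hy.2])⟩

/-- The centraliser of an involution of `T`. -/
theorem Socle.card_cent {x : M} (hx : x ∈ T) (x2 : x * x = 1) (hx1 : π x ≠ 1) :
    Nat.card (centralizer ({x} : Set M)) = Nat.card ↥(oddCore M ⊓ centralizer ({x} : Set M)) *
      (K.index * Nat.card ↥(K ⊓ centralizer ({π x} : Set (M ⧸ oddCore M)))) := by
  haveI := S.normal
  rw [card_cent_quot x2, card_supplement K (centralizer ({π x} : Set (M ⧸ oddCore M))) fun g => ?_]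
  have h2 : g * π x * g⁻¹ * (g * π x * g⁻¹) = 1 := by
    rw [conj_mul, ← map_mul, x2, map_one, mul_one, mul_inv_cancel]
  obtain ⟨l, hl, he⟩ := S.kit.conj_all (S.normal.conj_mem _ (S.kit.le (mem_map_of_mem _ hx)) g)
    (S.kit.le (mem_map_of_mem _ hx)) h2 (fun e => hx1 (conj_eq_one_iff.mp e))
    (by rw [← map_mul, x2, map_one]) hx1
  refine ⟨l, hl, mem_centralizer_singleton_iff.mpr (mul_inv_eq_iff_eq_mul.mp ?_)⟩
  refine (Eq.trans ?_ he)
  group

/-- The normaliser of the Sylow subgroup. -/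
theorem Socle.card_norm (hT : ¬ 2 ∣ T.index) (h2 : IsPGroup 2 T) (hTH : T ≤ H) :
    Nat.card (normalizer (T : Set M)) = Nat.card ↥(oddCore M ⊓ centralizer (T : Set M)) *
      (K.index * Nat.card ↥(K ⊓ normalizer ((T.map π : Subgroup _) : Set (M ⧸ oddCore M)))) := by
  haveI := S.normal
  haveI : Fact (Nat.Prime 2) := ⟨Nat.prime_two⟩
  have hOT : oddCore M ⊓ normalizer (T : Set M) = oddCore M ⊓ centralizer (T : Set M) := by
    refine le_antisymm (fun y hy => ⟨hy.1, mem_centralizer_iff.mpr fun z hz => ?_⟩)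
      (inf_le_inf_left _ (centralizer_le_normalizer _))
    have h1 : y * z * y⁻¹ * z⁻¹ ∈ H ⊓ oddCore M :=
      ⟨H.mul_mem (hTH ((mem_normalizer_iff.mp hy.2 z).mp hz)) (H.inv_mem (hTH hz)), by
        have e : y * z * y⁻¹ * z⁻¹ = y * (z * y⁻¹ * z⁻¹) := by group
        rw [e]
        exact mul_mem hy.1 ((inferInstance : (oddCore M).Normal).conj_mem _ (inv_mem hy.1) z)⟩
    rw [S.inj, mem_bot, mul_inv_eq_one, mul_inv_eq_iff_eq_mul] at h1
    exact h1.symm
  have himg : (normalizer (T : Set M)).map π = normalizer ((T.map π : Subgroup _) : Set (M ⧸ oddCore M)) := by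
    refine le_antisymm (le_normalizer_map _) fun y hy => ?_
    obtain ⟨g, rfl⟩ := QuotientGroup.mk'_surjective _ y
    set U := (T.map π).comap π with hU
    have hTU : T ≤ U := le_comap_map _ _
    have hgU : T.map (MulAut.conj g).toMonoidHom ≤ U := by
      rintro _ ⟨z, hz, rfl⟩
      show π (g * z * g⁻¹) ∈ T.map π
      rw [map_mul, map_mul, map_inv]
      exact (mem_normalizer_iff.mp hy _).mp (mem_map_of_mem _ hz)
    have hidx : ¬ 2 ∣ T.relIndex U := fun h => hT (h.trans (Dvd.intro _ (relIndex_mul_index hTU)))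
    let P : Sylow 2 U := (h2.comap_subtype (K := U)).toSylow hidx
    obtain ⟨Q, hQ⟩ := ((h2.map (MulAut.conj g).toMonoidHom).comap_subtype (K := U)).exists_le_sylow
    obtain ⟨u, hu⟩ := MulAction.exists_smul_eq U Q P
    have hmem : ∀ z ∈ T, (u : M) * g * z * ((u : M) * g)⁻¹ ∈ T := by
      intro z hz
      have h3 : u * ⟨g * z * g⁻¹, hgU ⟨z, hz, rfl⟩⟩ * u⁻¹ ∈ (P : Subgroup U) := by
        rw [← hu, Sylow.coe_subgroup_smul]
        exact ⟨_, hQ (show g * z * g⁻¹ ∈ T.map (MulAut.conj g).toMonoidHom from ⟨z, hz, rfl⟩), rfl⟩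
      have h4 : (u : M) * (g * z * g⁻¹) * (u : M)⁻¹ ∈ T := h3
      simpa [mul_assoc] using h4
    obtain ⟨τ, hτ, hτe⟩ := (show π (u : M) ∈ T.map π from u.2)
    refine ⟨τ⁻¹ * ((u : M) * g), mul_mem (inv_mem (le_normalizer hτ)) (mem_normalizer_of_le hmem), ?_⟩
    rw [map_mul, map_mul, map_inv, hτe, inv_mul_cancel_left]
  rw [← card_image_mul (QuotientGroup.mk' (oddCore M)) (normalizer (T : Set M)), QuotientGroup.ker_mk', hOT,
    himg, card_supplement K (normalizer ((T.map π : Subgroup _) : Set (M ⧸ oddCore M))) fun g => ?_]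
  -- Frattini
  obtain ⟨PK, hPK⟩ := S.kit.exists_sylow
  let φ := (MulAut.conj g).toMonoidHom
  have hle : (T.map π).map φ ≤ K := by
    rintro _ ⟨z, hz, rfl⟩
    exact S.normal.conj_mem _ (S.kit.le hz) g
  obtain ⟨k, hk, hmem⟩ := S.kit.conj_into hle (S.kit.isPGroup.map φ)
  exact ⟨k, hk, mem_normalizer_of_le fun z hz => by
    simpa [φ, mul_assoc] using hmem _ ⟨z, hz, rfl⟩⟩

end CfsgLib.StabSimpAb
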