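import Cfsg.Agent.Lib.StabSimpAb.Kit
import Cfsg.Agent.Lib.StabSimpAb.Abstract
import Cfsg.Agent.Lib.StabAlt5.Local4

/-!
The local structure at a Sylow four group of a simple subgroup.
-/

set_option autoImplicit false
set_option linter.unusedSectionVars false
set_option linter.style.haveILetI false

namespace CfsgLib.StabSimpAb

open Subgroup CfsgLib.StabAlt5

universe u

variable {G : Type u} [Group G] [Finite G] {H T : Subgroup G}

/-- Sylow's theorem in a subgroup between `T` and `H`. -/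
theorem Kit.conj_in (K : Kit H T) {R : Subgroup G} (hTR : T ≤ R) (hRH : R ≤ H) {P : Subgroup G} (hP : P ≤ R)
    (h2 : IsPGroup 2 P) : ∃ r ∈ R, ∀ x ∈ P, r * x * r⁻¹ ∈ T := by
  haveI : Fact (Nat.Prime 2) := ⟨Nat.prime_two⟩
  let S : Sylow 2 R := (K.isPGroup.comap_subtype (K := R)).toSylow fun h =>
    K.odd (h.trans (Dvd.intro _ (relIndex_mul_relIndex T R H hTR hRH)))
  obtain ⟨Q, hQ⟩ := (h2.comap_subtype (K := R)).exists_le_sylow
  obtain ⟨g, hg⟩ := MulAction.exists_smul_eq R Q S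
  refine ⟨g, g.2, fun x hx => ?_⟩
  have h1 : g * (⟨x, hP hx⟩ : R) * g⁻¹ ∈ (S : Subgroup R) := by
    rw [← hg, Sylow.coe_subgroup_smul]
    exact ⟨⟨x, hP hx⟩, hQ hx, rfl⟩
  exact h1

/-- The elements of a four group. -/
theorem four_cases {T : Subgroup G} (h4 : Nat.card T = 4) (hsq : ∀ x ∈ T, x * x = 1) {t v : G} (ht : t ∈ T)
    (hv : v ∈ T) (t1 : t ≠ 1) (v1 : v ≠ 1) (hvt : v ≠ t) : ∀ x, x ∈ T ↔ x = 1 ∨ x = t ∨ x = v ∨ x = t * v := by
  have d1 : t * v ≠ 1 := fun h => hvt (by rw [eq_inv_of_mul_eq_one_right h, inv_of_sq (hsq t ht)])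
  have d2 : t * v ≠ t := fun h => v1 (mul_eq_left.mp h)
  have d3 : t * v ≠ v := fun h => t1 (mul_eq_right.mp h)
  have hsub : ({1, t, v, t * v} : Set G) ⊆ (T : Set G) := by
    rintro x (rfl | rfl | rfl | rfl)
    exacts [one_mem _, ht, hv, mul_mem ht hv]
  have heq : ({1, t, v, t * v} : Set G) = (T : Set G) := Set.eq_of_subset_of_ncard_le hsub (by
    rw [Set.ncard_insert_of_notMem (by simp [t1.symm, v1.symm, d1.symm]),
      Set.ncard_insert_of_notMem (by simp [Ne.symm hvt, d2.symm]),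
      Set.ncard_insert_of_notMem (by simp [d3.symm]), Set.ncard_singleton, ← Nat.card_coe_set_eq]
    exact h4.le)
  intro x
  rw [← SetLike.mem_coe, ← heq]
  rfl

/-- Normalising the four group and fixing one of its involutions. -/
theorem Kit.cent_norm (K : Kit H T) (h4 : Nat.card T = 4) {t h : G} (ht : t ∈ T) (t1 : t ≠ 1) (hh : h ∈ H)
    (hn : ∀ x ∈ T, h * x * h⁻¹ ∈ T) (hc : h * t = t * h) : h ∈ T := by
  classical
  haveI : Fact (Nat.Prime 2) := ⟨Nat.prime_two⟩
  obtain ⟨v, hv, v1, hvt⟩ : ∃ v ∈ T, v ≠ 1 ∧ v ≠ t := by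
    by_contra hall
    push Not at hall
    have hsub : (T : Set G) ⊆ {1, t} := fun w hw => by
      by_cases hw1 : w = 1
      · exact Or.inl hw1
      · exact Or.inr (hall w hw hw1)
    have := Set.ncard_le_ncard hsub (Set.toFinite _)
    rw [Set.ncard_pair t1.symm, ← Nat.card_coe_set_eq] at this
    change Nat.card T ≤ 2 at this
    omega
  have hmem := four_cases h4 K.sq ht hv t1 v1 hvt
  have hct : h * t * h⁻¹ = t := by rw [hc, mul_inv_cancel_right]
  have hcv : h * v * h⁻¹ = v ∨ h * v * h⁻¹ = t * v := by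
    rcases (hmem _).mp (hn v hv) with e | e | e | e
    · exact absurd (conj_eq_one_iff.mp e) v1
    · exact absurd (mul_left_cancel (mul_right_cancel (e.trans hct.symm))) hvt
    · exact Or.inl e
    · exact Or.inr e
  have hv2 : h * h * v * (h * h)⁻¹ = v := by
    rw [show h * h * v * (h * h)⁻¹ = h * (h * v * h⁻¹) * h⁻¹ by group]
    rcases hcv with e | e
    · rw [e, e]
    · rw [e, show h * (t * v) * h⁻¹ = h * t * h⁻¹ * (h * v * h⁻¹) by group, hct, e, ← mul_assoc, K.sq t ht, one_mul]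
  have hsq : h * h ∈ T := by
    refine K.self _ (mul_mem hh hh) fun x hx => ?_
    have et : h * h * t = t * (h * h) := by rw [mul_assoc, hc, ← mul_assoc, hc, mul_assoc]
    have ev : h * h * v = v * (h * h) := mul_inv_eq_iff_eq_mul.mp hv2
    rcases (hmem x).mp hx with rfl | rfl | rfl | rfl
    · rw [mul_one, one_mul]
    · exact et
    · exact ev
    · rw [← mul_assoc, et, mul_assoc t, ev, ← mul_assoc]
  have hP : IsPGroup 2 (zpowers h) := fun y => ⟨2, Subtype.ext (by
    obtain ⟨y, l, rfl⟩ := y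
    show (h ^ l) ^ 2 ^ 2 = 1
    rw [← zpow_natCast, ← zpow_mul, mul_comm, zpow_mul, zpow_natCast, show (2 : ℕ) ^ 2 = 2 * 2 by norm_num,
      pow_mul, pow_two, pow_two, K.sq _ hsq, one_zpow])⟩
  have hPn : zpowers h ≤ normalizer (T : Set G) := zpowers_le.mpr (mem_normalizer_of_le hn)
  obtain ⟨l, -, hl⟩ := K.conj_into (sup_le (zpowers_le.mpr hh) K.le) (hP.to_sup_of_normal_right' K.isPGroup hPn)
  have hle : (zpowers h ⊔ T).map (MulAut.conj l).toMonoidHom ≤ T := by
    rintro _ ⟨x, hx, rfl⟩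
    exact hl x hx
  have hcard := card_le_of_le hle
  rw [card_map_of_injective (MulEquiv.injective _)] at hcard
  rw [show T = zpowers h ⊔ T from eq_of_le_of_card_ge le_sup_right hcard]
  exact mem_sup_left (mem_zpowers h)

end CfsgLib.StabSimpAb
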