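import Cfsg.Agent.Lib.StabSimpAb.Abstract

/-!
The group induced on an invariant set of points.
-/

set_option autoImplicit false
set_option linter.unusedSectionVars false
set_option linter.style.haveILetI false

namespace CfsgLib.StabSimpAb

open MulAction CfsgLib.StabAlt5

universe u v

variable {G : Type u} [Group G] {Ω : Type v} [MulAction G Ω]

/-- `S` is invariant under `C`. -/
def Inv (C : Subgroup G) (S : Set Ω) : Prop := ∀ g ∈ C, ∀ c ∈ S, g • c ∈ S

theorem inv_fixedBy (t : G) : Inv (Subgroup.centralizer ({t} : Set G)) (fixedBy Ω t) := fun _ hg _ hc =>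
  fix_comm (Subgroup.mem_centralizer_singleton_iff.mp hg).symm hc

theorem inv_fixPts (K : Subgroup G) : Inv (Subgroup.normalizer (K : Set G)) (fixPts Ω K) := fun _ hg _ hc =>
  smul_mem_fixPts hg hc

theorem Inv.mono {C D : Subgroup G} {S : Set Ω} (h : Inv D S) (hle : C ≤ D) : Inv C S := fun g hg => h g (hle hg)

variable {C : Subgroup G} {S : Set Ω} (hS : Inv C S)

/-- The action of `C` on `S`. -/
def imgHom : ↥C →* Equiv.Perm ↥S where
  toFun g :=
    { toFun := fun c => ⟨(g : G) • (c : Ω), hS g g.2 c c.2⟩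
      invFun := fun c => ⟨(g : G)⁻¹ • (c : Ω), hS _ (inv_mem g.2) c c.2⟩
      left_inv := fun c => Subtype.ext (inv_smul_smul _ _)
      right_inv := fun c => Subtype.ext (smul_inv_smul _ _) }
  map_one' := Equiv.ext fun c => Subtype.ext (one_smul G (c : Ω))
  map_mul' g h := Equiv.ext fun c => Subtype.ext (mul_smul (g : G) (h : G) (c : Ω))

/-- The group induced by `C` on `S`. -/
abbrev Img : Subgroup (Equiv.Perm ↥S) := (imgHom hS).range

/-- The image of an element. -/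
def toImg : ↥C →* ↥(Img hS) := (imgHom hS).rangeRestrict

theorem toImg_smul (g : ↥C) (c : ↥S) : ((toImg hS g • c : ↥S) : Ω) = (g : G) • (c : Ω) := rfl

theorem toImg_fix {g : ↥C} {c : ↥S} : toImg hS g • c = c ↔ (g : G) • (c : Ω) = c :=
  Subtype.ext_iff.trans Iff.rfl

theorem toImg_eq_one {g : ↥C} : toImg hS g = 1 ↔ ∀ c ∈ S, (g : G) • c = c := by
  constructor
  · intro h c hc
    have := toImg_smul hS g ⟨c, hc⟩
    rw [h, one_smul] at this
    exact this.symm
  · exact fun h => Subtype.ext (Equiv.ext fun c => Subtype.ext (h c c.2))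

theorem toImg_surj (x : ↥(Img hS)) : ∃ g : ↥C, toImg hS g = x := MonoidHom.rangeRestrict_surjective _ x

theorem toImg_eq {g h : ↥C} : toImg hS g = toImg hS h ↔ ∀ c ∈ S, (g : G) • c = (h : G) • c := by
  constructor
  · intro e c hc
    have := toImg_smul hS g ⟨c, hc⟩
    rw [e, toImg_smul] at this
    exact this.symm
  · intro e
    exact Subtype.ext (Equiv.ext fun c => Subtype.ext (e c c.2))

theorem img_trans (htr : ∀ c d : Ω, c ∈ S → d ∈ S → ∃ g ∈ C, g • c = d) (c d : ↥S) :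
    ∃ x : ↥(Img hS), x • c = d := by
  obtain ⟨g, hg, e⟩ := htr c d c.2 d.2
  exact ⟨toImg hS ⟨g, hg⟩, Subtype.ext e⟩

theorem img_two {a b : Ω} (ha : a ∈ S) (hb : b ∈ S)
    (htr : ∀ c d : Ω, c ∈ S → d ∈ S → c ≠ d → ∃ g ∈ C, g • a = c ∧ g • b = d) :
    TwoTrans ↥(Img hS) ↥S := by
  intro c d c' d' hcd hcd'
  obtain ⟨g, hg, hga, hgb⟩ := htr c d c.2 d.2 fun e => hcd (Subtype.ext e)
  obtain ⟨g', hg', hga', hgb'⟩ := htr c' d' c'.2 d'.2 fun e => hcd' (Subtype.ext e)
  refine ⟨toImg hS ⟨g' * g⁻¹, mul_mem hg' (inv_mem hg)⟩, Subtype.ext ?_, Subtype.ext ?_⟩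
  · rw [toImg_smul, mul_smul, ← hga, inv_smul_smul, hga']
  · rw [toImg_smul, mul_smul, ← hgb, inv_smul_smul, hgb']

theorem toImg_sq {g : ↥C} (h : ∀ c ∈ S, ((g : G) * g) • c = c) : toImg hS g * toImg hS g = 1 := by
  rw [← map_mul]
  exact (toImg_eq_one hS).mpr h

/-- The fixed points of an image. -/
theorem ncard_fixedBy_toImg (g : ↥C) :
    (fixedBy ↥S (toImg hS g)).ncard = {c | c ∈ S ∧ (g : G) • c = c}.ncard := by
  refine Set.ncard_congr (fun c _ => (c : Ω)) (fun c hc => ⟨c.2, (toImg_fix hS).mp hc⟩)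
    (fun c d _ _ e => Subtype.ext e) fun c hc => ⟨⟨c, hc.1⟩, (toImg_fix hS).mpr hc.2, rfl⟩

end CfsgLib.StabSimpAb
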