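import Cfsg.Agent.Lib.StabSimpAb.Kit

/-!
`L₂(2^a)`: the hyperplanes of the Sylow 2-subgroup form one class.
-/

set_option autoImplicit false
set_option linter.unusedSectionVars false
set_option linter.style.haveILetI false

namespace CfsgLib.StabSimpAb

open Subgroup

universe u

variable {G : Type u} [Group G] [Finite G] {H T : Subgroup G}

theorem eq_one_of_conj {a b : G} (h : a⁻¹ * b * a = 1) : b = 1 := by
  simpa [mul_assoc, mul_eq_one_iff_eq_inv, inv_mul_eq_one] using h

variable (K : KitE H T)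
include K

/-- The centraliser in `H` of an involution of `T` is `T`. -/
theorem KitE.cent_eq {t : G} (ht : t ∈ T) (ht1 : t ≠ 1) : H ⊓ centralizer ({t} : Set G) = T :=
  le_antisymm (fun x hx => K.cent t ht ht1 x hx.1 (mem_centralizer_singleton_iff.mp hx.2)) fun x hx =>
    ⟨K.le hx, mem_centralizer_singleton_iff.mpr (K.toKit.comm hx ht)⟩

/-- Conjugation by `h ∈ H` into `T` of one involution of `T` normalises `T`. -/
theorem KitE.norm_of_conj {h t : G} (hh : h ∈ H) (ht : t ∈ T) (ht1 : t ≠ 1) (he : h * t * h⁻¹ ∈ T) :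
    h ∈ normalizer (T : Set G) := by
  have key : ∀ k ∈ H, ∀ s ∈ T, s ≠ 1 → k * s * k⁻¹ ∈ T → ∀ x ∈ T, k * x * k⁻¹ ∈ T := fun k hk s hs hs1 hks x hx =>
    K.cent _ hks (fun e => hs1 (conj_eq_one_iff.mp e)) _ (mul_mem (mul_mem hk (K.le hx)) (inv_mem hk))
      (by rw [conj_mul, conj_mul, K.toKit.comm hx hs])
  refine mem_normalizer_iff.mpr fun x => ⟨fun hx => key h hh t ht ht1 he x hx, fun hx => ?_⟩
  have := key h⁻¹ (inv_mem hh) _ he (fun e => ht1 (conj_eq_one_iff.mp e))
    (by rw [show h⁻¹ * (h * t * h⁻¹) * h⁻¹⁻¹ = t by group]; exact ht) _ hx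
  simpa [mul_assoc] using this

/-- The stabiliser in `H` of a hyperplane of `T` is `T`. -/
theorem KitE.norm_hyp {W : Subgroup G} (hW : W ≤ T) (hc : 2 * Nat.card W = Nat.card T) {h : G} (hh : h ∈ H)
    (hn : ∀ x ∈ W, h * x * h⁻¹ ∈ W) : h ∈ T := by
  classical
  by_contra hhT
  obtain ⟨w, hw, hw1⟩ := W.bot_or_exists_ne_one.resolve_left fun e => by
    rw [e, card_bot] at hc
    have := K.eight
    omega
  -- the elements of `H` normalising `W`
  set M : Subgroup G := H ⊓ normalizer (W : Set G) with hM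
  have hhN : h ∈ normalizer (W : Set G) := Subgroup.mem_normalizer_iff''.mpr fun x => by
    constructor
    · intro hx
      have hs : Function.Surjective fun y : W => (⟨h * y * h⁻¹, hn y y.2⟩ : W) :=
        Finite.surjective_of_injective fun y z e => Subtype.ext (by simpa using congrArg Subtype.val e)
      obtain ⟨y, hy⟩ := hs ⟨x, hx⟩
      have hxy : h * (y : G) * h⁻¹ = x := congrArg Subtype.val hy
      rw [← hxy]
      simpa [mul_assoc] using y.2
    · intro hx
      simpa [mul_assoc] using hn _ hx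
  have hTM : T ≤ M := fun x hx => ⟨K.le hx, mem_normalizer_iff.mpr fun y => by
    constructor
    · intro hy; rwa [K.toKit.comm hx (hW hy), mul_inv_cancel_right]
    · intro hy
      have h1 : y = x⁻¹ * (x * y * x⁻¹) * x := by group
      rw [h1, mul_assoc, K.toKit.comm (hW hy) hx, inv_mul_cancel_left]
      exact hy⟩
  letI : MulAction M {x : G // x ∈ W ∧ x ≠ 1} :=
    { smul := fun m x => ⟨(m : G) * x * (m : G)⁻¹, (mem_normalizer_iff.mp m.2.2 _).mp x.2.1,
        fun e => x.2.2 (conj_eq_one_iff.mp e)⟩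
      one_smul := fun x => Subtype.ext (by show (1 : G) * x * (1 : G)⁻¹ = x; simp)
      mul_smul := fun m n x => Subtype.ext (by
        show (m : G) * n * x * ((m : G) * n)⁻¹ = m * (n * x * (n : G)⁻¹) * (m : G)⁻¹; group) }
  -- every point stabiliser is `T`
  have hst : ∀ x : {x : G // x ∈ W ∧ x ≠ 1}, Nat.card (MulAction.stabilizer M x) = Nat.card T := fun x =>
    Nat.card_congr
      { toFun := fun m => ⟨(m.1 : G), K.cent _ (hW x.2.1) x.2.2 _ m.1.2.1
          (mul_inv_eq_iff_eq_mul.mp (congrArg Subtype.val m.2))⟩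
        invFun := fun y => ⟨⟨y, hTM y.2⟩, Subtype.ext (mul_inv_eq_iff_eq_mul.mpr (K.toKit.comm y.2 (hW x.2.1)))⟩
        left_inv := fun _ => rfl
        right_inv := fun _ => rfl }
  set r := T.relIndex M with hr
  have horb : ∀ x : {x : G // x ∈ W ∧ x ≠ 1}, Nat.card (MulAction.orbit M x) = r := fun x => by
    have h1 := Subgroup.card_mul_index (MulAction.stabilizer M x)
    rw [hst, MulAction.index_stabilizer, ← Nat.card_coe_set_eq] at h1
    have h2 : Nat.card T * r = Nat.card M := by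
      rw [hr, Subgroup.relIndex, ← Subgroup.card_mul_index (T.subgroupOf M),
        Nat.card_congr (Subgroup.subgroupOfEquivOfLe hTM).toEquiv]
    exact Nat.eq_of_mul_eq_mul_left Nat.card_pos (h1.trans h2.symm)
  have hdW : r ∣ Nat.card W - 1 := by
    haveI := Fintype.ofFinite (Quotient (MulAction.orbitRel M {x : G // x ∈ W ∧ x ≠ 1}))
    have e := Nat.card_congr (MulAction.selfEquivSigmaOrbits M {x : G // x ∈ W ∧ x ≠ 1})
    rw [Nat.card_sigma, Finset.sum_congr rfl fun q _ => horb _, Finset.sum_const, smul_eq_mul] at e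
    have hcard : Nat.card {x : G // x ∈ W ∧ x ≠ 1} = Nat.card W - 1 := by
      have : Nat.card {x : G // x ∈ W ∧ x ≠ 1} = ((W : Set G) \ {1}).ncard := by
        rw [← Nat.card_coe_set_eq]; rfl
      rw [this, Set.ncard_sdiff_singleton_of_mem W.one_mem, ← Nat.card_coe_set_eq]
      rfl
    exact ⟨_, hcard ▸ e.trans (mul_comm _ _)⟩
  -- the whole normaliser of `T` in `H` is regular on the involutions
  set L : Subgroup G := H ⊓ normalizer (T : Set G) with hL
  have hML : M ≤ L := fun m hm => ⟨hm.1, K.norm_of_conj hm.1 (hW hw) hw1 (hW ((mem_normalizer_iff.mp hm.2 w).mp hw))⟩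
  letI : MulAction L {x : G // x ∈ T ∧ x ≠ 1} :=
    { smul := fun m x => ⟨(m : G) * x * (m : G)⁻¹, (mem_normalizer_iff.mp m.2.2 _).mp x.2.1,
        fun e => x.2.2 (conj_eq_one_iff.mp e)⟩
      one_smul := fun x => Subtype.ext (by show (1 : G) * x * (1 : G)⁻¹ = x; simp)
      mul_smul := fun m n x => Subtype.ext (by
        show (m : G) * n * x * ((m : G) * n)⁻¹ = m * (n * x * (n : G)⁻¹) * (m : G)⁻¹; group) }
  have hTL : T ≤ L := hTM.trans hML
  have hdT : r ∣ Nat.card T - 1 := by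
    let x : {x : G // x ∈ T ∧ x ≠ 1} := ⟨w, hW hw, hw1⟩
    have hstL : Nat.card (MulAction.stabilizer L x) = Nat.card T := Nat.card_congr
      { toFun := fun m => ⟨(m.1 : G), K.cent _ x.2.1 x.2.2 _ m.1.2.1
          (mul_inv_eq_iff_eq_mul.mp (congrArg Subtype.val m.2))⟩
        invFun := fun y => ⟨⟨y, hTL y.2⟩, Subtype.ext (mul_inv_eq_iff_eq_mul.mpr (K.toKit.comm y.2 x.2.1))⟩
        left_inv := fun _ => rfl
        right_inv := fun _ => rfl }
    have h1 := Subgroup.card_mul_index (MulAction.stabilizer L x)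
    have horb : MulAction.orbit L x = Set.univ := Set.eq_univ_of_forall fun y => by
      obtain ⟨k, hk, hkn, he⟩ := K.trans _ x.2.1 x.2.2 _ y.2.1 y.2.2
      exact ⟨⟨k, hk, hkn⟩, Subtype.ext he⟩
    rw [hstL, MulAction.index_stabilizer, horb, Set.ncard_univ] at h1
    have hcard : Nat.card {x : G // x ∈ T ∧ x ≠ 1} = Nat.card T - 1 := by
      have : Nat.card {x : G // x ∈ T ∧ x ≠ 1} = ((T : Set G) \ {1}).ncard := by
        rw [← Nat.card_coe_set_eq]; rfl
      rw [this, Set.ncard_sdiff_singleton_of_mem T.one_mem, ← Nat.card_coe_set_eq]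
      rfl
    rw [hcard] at h1
    have h2 : Nat.card T * r = Nat.card M := by
      rw [hr, Subgroup.relIndex, ← Subgroup.card_mul_index (T.subgroupOf M),
        Nat.card_congr (Subgroup.subgroupOfEquivOfLe hTM).toEquiv]
    have hd := Subgroup.card_dvd_of_le hML
    rw [← h1, ← h2] at hd
    exact Nat.dvd_of_mul_dvd_mul_left Nat.card_pos hd
  have h1 : r ∣ 1 := by
    have h3 := Nat.dvd_sub hdT (hdW.mul_left 2)
    have h4 := K.eight
    rwa [show Nat.card T - 1 - 2 * (Nat.card W - 1) = 1 by omega] at h3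
  have hle : M ≤ T := by
    rw [← Subgroup.relIndex_eq_one, ← hr]
    exact Nat.dvd_one.mp h1
  exact hhT (hle ⟨hh, hhN⟩)

/-- The hyperplanes of `T` are conjugate under `N_H(T)`. -/
theorem KitE.hyp_conj {W W' : Subgroup G} (hW : W ≤ T) (hc : 2 * Nat.card W = Nat.card T) (hW' : W' ≤ T)
    (hc' : 2 * Nat.card W' = Nat.card T) :
    ∃ h ∈ H, h ∈ normalizer (T : Set G) ∧ ∀ x ∈ W, h * x * h⁻¹ ∈ W' := by
  classical
  by_contra hno
  push Not at hno
  haveI := Fintype.ofFinite G
  set L : Subgroup G := H ⊓ normalizer (T : Set G) with hL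
  -- the conjugates of `W`, one for each coset of `T`
  set q := Nat.card T with hq
  have hTL : T ≤ L := le_inf K.le Subgroup.le_normalizer
  set P : L → Set G := fun l => {x | (l : G)⁻¹ * x * l ∈ W ∧ x ∈ W' ∧ x ≠ 1} with hP
  have hsize : ∀ l : L, (P l).ncard + 1 = q / 4 := by
    intro l
    set Wl := W.map (MulAut.conj (l : G)).toMonoidHom with hWl
    have hWlT : Wl ≤ T := by
      rintro _ ⟨x, hx, rfl⟩
      exact (mem_normalizer_iff.mp l.2.2 x).mp (hW hx)
    have hWlc : Nat.card Wl = Nat.card W := card_map_of_injective (MulEquiv.injective _)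
    have hne : ¬ W' ≤ Wl := fun hle => by
      have he : W' = Wl := eq_of_le_of_card_ge hle (by omega)
      obtain ⟨x, hx, hxn⟩ := hno l l.2.1 l.2.2
      exact hxn (he ▸ ⟨x, hx, rfl⟩)
    have hmeet : 2 * Nat.card (W' ⊓ Wl : Subgroup G) = Nat.card W' := by
      have h1 : Wl.relIndex W' ≤ Wl.relIndex T := Subgroup.relIndex_le_of_le_right hW' (by
        rw [Subgroup.relIndex]
        exact Subgroup.FiniteIndex.index_ne_zero)
      have h2 : Wl.relIndex T = 2 := by
        have := Subgroup.card_mul_index (Wl.subgroupOf T)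
        rw [Nat.card_congr (Subgroup.subgroupOfEquivOfLe hWlT).toEquiv, hWlc] at this
        have hpos : 0 < Nat.card W := Nat.card_pos
        rw [Subgroup.relIndex]
        exact Nat.eq_of_mul_eq_mul_left hpos (by omega)
      have h3 : Wl.relIndex W' ≠ 1 := fun e => hne (Subgroup.relIndex_eq_one.mp e)
      have h4 : Wl.relIndex W' ≠ 0 := by rw [Subgroup.relIndex]; exact Subgroup.FiniteIndex.index_ne_zero
      have h5 := Subgroup.card_mul_index (Wl.subgroupOf W')
      rw [Nat.card_congr (Subgroup.subgroupOfEquivOfLe (inf_le_left : W' ⊓ Wl ≤ W')).toEquiv.symm]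
      rw [show (Wl.subgroupOf W').index = 2 from (show Wl.relIndex W' = 2 by omega)] at h5
      rw [Subgroup.inf_subgroupOf_left]
      omega
    have e : P l = ((W' ⊓ Wl : Subgroup G) : Set G) \ {1} := by
      ext x
      simp only [hP, Set.mem_setOf_eq, Set.mem_sdiff, SetLike.mem_coe, Set.mem_singleton_iff, Subgroup.mem_inf]
      constructor
      · rintro ⟨h1, h2, h3⟩
        exact ⟨⟨h2, ⟨_, h1, by simp [mul_assoc]⟩⟩, h3⟩
      · rintro ⟨⟨h2, y, hy, rfl⟩, h3⟩
        refine ⟨?_, h2, h3⟩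
        simpa [mul_assoc] using hy
    rw [e, Set.ncard_sdiff_singleton_of_mem (one_mem _), ← Nat.card_coe_set_eq]
    change Nat.card ↥(W' ⊓ Wl : Subgroup G) - 1 + 1 = _
    have := Nat.card_pos (α := ↥(W' ⊓ Wl : Subgroup G))
    omega
  -- transporters between involutions of `T`
  have htrans : ∀ x ∈ W', x ≠ 1 → ∀ y ∈ W, y ≠ 1 → Nat.card {l : L // (l : G)⁻¹ * x * l = y} = q := by
    intro x hx hx1 y hy hy1
    obtain ⟨k, hk, hkn, he⟩ := K.trans y (hW hy) hy1 x (hW' hx) hx1
    refine Nat.card_congr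
      { toFun := fun l => (⟨k⁻¹ * (l.1 : G), ?_⟩ : T)
        invFun := fun s => ⟨⟨k * s, mul_mem (show k ∈ L from ⟨hk, hkn⟩) (hTL s.2)⟩, ?_⟩
        left_inv := fun l => Subtype.ext (Subtype.ext (by simp))
        right_inv := fun s => Subtype.ext (by simp) }
    · refine K.cent y (hW hy) hy1 _ (mul_mem (inv_mem hk) l.1.2.1) ?_
      have h2 := l.2
      calc k⁻¹ * (l.1 : G) * y = k⁻¹ * (l.1 : G) * ((l.1 : G)⁻¹ * x * (l.1 : G)) := by rw [h2]
        _ = k⁻¹ * x * k * (k⁻¹ * (l.1 : G)) := by group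
        _ = y * (k⁻¹ * (l.1 : G)) := by
          rw [show k⁻¹ * x * k = y by rw [← he]; group]
    · show (k * (s : G))⁻¹ * x * (k * s) = y
      rw [← he]
      calc (k * (s : G))⁻¹ * (k * y * k⁻¹) * (k * s) = (s : G)⁻¹ * (y * s) := by group
        _ = y := by rw [K.toKit.comm (hW hy) s.2]; group
  have hLc : Nat.card L = q * (q - 1) := by
    obtain ⟨w, hw, hw1⟩ := T.bot_or_exists_ne_one.resolve_left fun e => by
      have := K.eight
      rw [e, card_bot] at this
      omega
    have e : Nat.card L = Nat.card (Σ y : ↥((T : Set G) \ {1}), {l : L // (l : G)⁻¹ * w * l = y}) :=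
      Nat.card_congr
        { toFun := fun l => ⟨⟨(l : G)⁻¹ * w * l, (mem_normalizer_iff''.mp l.2.2 w).mp hw, fun e => hw1 (by
              have h := congrArg (fun z => (l : G) * z * (l : G)⁻¹) (Set.mem_singleton_iff.mp e)
              simpa [mul_assoc] using h)⟩, ⟨l, rfl⟩⟩
          invFun := fun p => p.2.1
          left_inv := fun _ => rfl
          right_inv := by rintro ⟨⟨y, hy⟩, ⟨l, hl⟩⟩; dsimp only at hl; subst hl; rfl }
    rw [e, Nat.card_sigma]
    have h1 : ∀ y : ↥((T : Set G) \ {1}), Nat.card {l : L // (l : G)⁻¹ * w * l = y} = q := by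
      intro y
      obtain ⟨k, hk, hkn, he⟩ := K.trans y y.2.1 y.2.2 w hw hw1
      refine Nat.card_congr
        { toFun := fun l => (⟨k⁻¹ * (l.1 : G), ?_⟩ : T)
          invFun := fun s => ⟨⟨k * s, mul_mem (show k ∈ L from ⟨hk, hkn⟩) (hTL s.2)⟩, ?_⟩
          left_inv := fun l => Subtype.ext (Subtype.ext (by simp))
          right_inv := fun s => Subtype.ext (by simp) }
      · refine K.cent y y.2.1 y.2.2 _ (mul_mem (inv_mem hk) l.1.2.1) ?_
        have h2 := l.2
        calc k⁻¹ * (l.1 : G) * y = k⁻¹ * (l.1 : G) * ((l.1 : G)⁻¹ * w * (l.1 : G)) := by rw [h2]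
          _ = k⁻¹ * w * k * (k⁻¹ * (l.1 : G)) := by group
          _ = y * (k⁻¹ * (l.1 : G)) := by rw [show k⁻¹ * w * k = y by rw [← he]; group]
      · show (k * (s : G))⁻¹ * w * (k * s) = y
        rw [← he]
        calc (k * (s : G))⁻¹ * (k * y * k⁻¹) * (k * s) = (s : G)⁻¹ * (y * s) := by group
          _ = y := by rw [K.toKit.comm y.2.1 s.2]; group
    rw [Finset.sum_congr rfl fun y _ => h1 y, Finset.sum_const, smul_eq_mul, Finset.card_univ,
      ← Nat.card_eq_fintype_card, Nat.card_coe_set_eq, Set.ncard_sdiff_singleton_of_mem T.one_mem,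
      ← Nat.card_coe_set_eq, mul_comm]
    rfl
  -- count the pairs
  have hWc : ∀ V : Subgroup G, V ≤ T → 2 * Nat.card V = q → ((V : Set G) \ {1}).ncard + 1 = q / 2 := by
    intro V _ hV
    rw [Set.ncard_sdiff_singleton_of_mem (one_mem _), ← Nat.card_coe_set_eq]
    change Nat.card V - 1 + 1 = _
    have := Nat.card_pos (α := V)
    omega
  have e1 : Nat.card (Σ l : L, P l) = q * (q - 1) * (q / 4 - 1) := by
    have h1 : ∀ l : L, Nat.card (P l) = q / 4 - 1 := fun l => by
      rw [Nat.card_coe_set_eq]; have := hsize l; omega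
    rw [Nat.card_sigma, Finset.sum_congr rfl fun l _ => h1 l, Finset.sum_const, smul_eq_mul, Finset.card_univ,
      ← Nat.card_eq_fintype_card, hLc]
  have e2 : Nat.card (Σ l : L, P l) = (q / 2 - 1) * (q / 2 - 1) * q := by
    rw [Nat.card_congr (β := Σ p : ↥((W' : Set G) \ {1}) × ↥((W : Set G) \ {1}),
        {l : L // (l : G)⁻¹ * (p.1 : G) * l = p.2})
      { toFun := fun p => ⟨(⟨p.2, p.2.2.2.1, fun h => p.2.2.2.2 h⟩, ⟨(p.1 : G)⁻¹ * (p.2 : G) * p.1, p.2.2.1, fun e =>
            p.2.2.2.2 (eq_one_of_conj (Set.mem_singleton_iff.mp e))⟩), ⟨p.1, rfl⟩⟩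
        invFun := fun p => ⟨p.2.1, ⟨(p.1.1 : G),
          show (p.2.1 : G)⁻¹ * (p.1.1 : G) * (p.2.1 : G) ∈ W from p.2.2.symm ▸ p.1.2.2.1, p.1.1.2.1,
          fun h => p.1.1.2.2 h⟩⟩
        left_inv := fun _ => rfl
        right_inv := by rintro ⟨⟨x, ⟨y, hy⟩⟩, ⟨l, hl⟩⟩; dsimp only at hl; subst hl; rfl }]
    have h1 : ∀ p : ↥((W' : Set G) \ {1}) × ↥((W : Set G) \ {1}),
        Nat.card {l : L // (l : G)⁻¹ * (p.1 : G) * l = p.2} = q := fun p =>
      htrans _ p.1.2.1 p.1.2.2 _ p.2.2.1 p.2.2.2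
    rw [Nat.card_sigma, Finset.sum_congr rfl fun p _ => h1 p, Finset.sum_const, smul_eq_mul, Finset.card_univ,
      ← Nat.card_eq_fintype_card, Nat.card_prod, Nat.card_coe_set_eq, Nat.card_coe_set_eq]
    have := hWc W hW hc
    have := hWc W' hW' hc'
    congr 2 <;> omega
  rw [e1] at e2
  obtain ⟨r, hr⟩ : 4 ∣ q := by
    obtain ⟨k, hk⟩ := IsPGroup.iff_card.mp K.toKit.isPGroup
    have h8 := K.eight
    rw [hq, hk] at *
    rcases k with - | - | k
    · norm_num at h8
    · norm_num at h8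
    · exact ⟨2 ^ k, by ring⟩
  have h8 := K.eight
  obtain ⟨r, rfl⟩ : ∃ r', r = r' + 1 := ⟨r - 1, by omega⟩
  rw [hr, show 4 * (r + 1) / 4 - 1 = r by omega, show 4 * (r + 1) / 2 - 1 = 2 * r + 1 by omega,
    show 4 * (r + 1) - 1 = 4 * r + 3 by omega] at e2
  nlinarith

end CfsgLib.StabSimpAb
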