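import Cfsg.Agent.Lib.Walter.Ab.Main
import Cfsg.Agent.Lib.Walter.Main

/-!
Simple groups with abelian Sylow 2-subgroups as subgroups: the facts about the Sylow 2-subgroup.
-/

set_option autoImplicit false
set_option linter.unusedSectionVars false
set_option linter.style.haveILetI false

namespace CfsgLib.StabSimpAb

open Subgroup

universe u

variable {G : Type u} [Group G] [Finite G]

local notation "PSL₂[" F "]" => Matrix.ProjectiveSpecialLinearGroup (Fin 2) F

/-- A simple subgroup with its elementary abelian self-centralising Sylow 2-subgroup. -/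
structure Kit (H T : Subgroup G) : Prop where
  le : T ≤ H
  sq : ∀ x ∈ T, x * x = 1
  four : 4 ≤ Nat.card T
  odd : ¬ 2 ∣ T.relIndex H
  self : ∀ x ∈ H, (∀ y ∈ T, x * y = y * x) → x ∈ T
  trans : ∀ x ∈ T, x ≠ 1 → ∀ y ∈ T, y ≠ 1 → ∃ k ∈ H, k ∈ normalizer (T : Set G) ∧ k * x * k⁻¹ = y
  simple : IsSimpleGroup H
  nonab : ¬ IsMulCommutative H

/-- `L₂(2^a)`, `a ≥ 3`. -/
structure KitE (H T : Subgroup G) : Prop extends Kit H T where
  eight : 8 ≤ Nat.card T
  cent : ∀ t ∈ T, t ≠ 1 → ∀ x ∈ H, x * t = t * x → x ∈ T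
  card_H : Nat.card H = Nat.card T * (Nat.card T ^ 2 - 1)

/-- `L₂(q)`, `q ≡ 3, 5 (mod 8)`. -/
structure KitO (H T : Subgroup G) : Prop extends Kit H T where
  iso : ∃ (F : Type) (_ : Field F) (_ : Fintype F),
    (Fintype.card F % 8 = 3 ∨ Fintype.card F % 8 = 5) ∧ 5 ≤ Fintype.card F ∧ Nonempty (H ≃* PSL₂[F])

/-- Janko–Ree type. -/
structure KitJR (H T : Subgroup G) : Prop extends Kit H T where
  jr : WalterAb.IsJR H

variable {H T : Subgroup G}

theorem Kit.comm (K : Kit H T) {x y : G} (hx : x ∈ T) (hy : y ∈ T) : x * y = y * x := by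
  have h := K.sq _ (mul_mem hx hy)
  calc x * y = (x * y)⁻¹ := eq_inv_of_mul_eq_one_left h
    _ = y * x := by rw [_root_.mul_inv_rev, inv_eq_of_mul_eq_one_left (K.sq x hx), inv_eq_of_mul_eq_one_left (K.sq y hy)]

theorem Kit.isPGroup (K : Kit H T) : IsPGroup 2 T := fun x => ⟨1, Subtype.ext (by simpa [pow_two] using K.sq x x.2)⟩

/-- The Sylow subgroup of `H`. -/
theorem Kit.exists_sylow (K : Kit H T) : ∃ P : Sylow 2 H, (P : Subgroup H) = T.subgroupOf H := by
  haveI : Fact (Nat.Prime 2) := ⟨Nat.prime_two⟩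
  refine ⟨(K.isPGroup.comap_subtype (K := H)).toSylow ?_, ?_⟩
  · exact K.odd
  · rfl

/-- A 2-subgroup of `H` is conjugate into `T`. -/
theorem Kit.conj_into (K : Kit H T) {P : Subgroup G} (hP : P ≤ H) (h2 : IsPGroup 2 P) :
    ∃ h ∈ H, ∀ x ∈ P, h * x * h⁻¹ ∈ T := by
  haveI : Fact (Nat.Prime 2) := ⟨Nat.prime_two⟩
  obtain ⟨S, hS⟩ := K.exists_sylow
  obtain ⟨Q, hQ⟩ := (h2.comap_subtype (K := H)).exists_le_sylow
  obtain ⟨g, hg⟩ := MulAction.exists_smul_eq H Q S
  refine ⟨g, g.2, fun x hx => ?_⟩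
  have h1 : g * (⟨x, hP hx⟩ : H) * g⁻¹ ∈ (S : Subgroup H) := by
    rw [← hg, Sylow.coe_subgroup_smul]
    exact ⟨⟨x, hP hx⟩, hQ hx, rfl⟩
  rw [hS] at h1
  exact h1

theorem Kit.conj_mem (K : Kit H T) {x : G} (hx : x ∈ H) (hx2 : x * x = 1) :
    ∃ h ∈ H, h * x * h⁻¹ ∈ T := by
  obtain ⟨h, hh, hmem⟩ := K.conj_into (P := zpowers x) (zpowers_le.mpr hx) (fun y => ⟨1, Subtype.ext (by
    obtain ⟨y, k, rfl⟩ := y
    show (x ^ k) ^ 2 ^ 1 = 1
    rw [pow_one, ← zpow_natCast, ← zpow_mul, mul_comm, zpow_mul, zpow_natCast, pow_two, hx2, one_zpow])⟩)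
  exact ⟨h, hh, hmem x (mem_zpowers x)⟩

/-- The involutions of `H` are conjugate in `H`. -/
theorem Kit.conj_all (K : Kit H T) {x y : G} (hx : x ∈ H) (hy : y ∈ H) (x2 : x * x = 1) (x1 : x ≠ 1)
    (y2 : y * y = 1) (y1 : y ≠ 1) : ∃ h ∈ H, h * x * h⁻¹ = y := by
  obtain ⟨g, hg, hgx⟩ := K.conj_mem hx x2
  obtain ⟨g', hg', hgy⟩ := K.conj_mem hy y2
  obtain ⟨k, hk, -, he⟩ := K.trans _ hgx (fun e => x1 (conj_eq_one_iff.mp e)) _ hgy
    (fun e => y1 (conj_eq_one_iff.mp e))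
  refine ⟨g'⁻¹ * k * g, mul_mem (mul_mem (inv_mem hg') hk) hg, ?_⟩
  calc g'⁻¹ * k * g * x * (g'⁻¹ * k * g)⁻¹ = g'⁻¹ * (k * (g * x * g⁻¹) * k⁻¹) * g' := by group
    _ = y := by rw [he]; group

/-- The involutions generate. -/
theorem Kit.gen (K : Kit H T) {M : Subgroup G} (hM : ∀ x ∈ H, x * x = 1 → x ∈ M) : H ≤ M := by
  set S := Subgroup.closure {x : H | x * x = 1} with hS
  have hn : S.Normal := by
    refine ⟨fun x hx g => ?_⟩
    induction hx using Subgroup.closure_induction with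
    | mem x hx => exact subset_closure (by
        show g * x * g⁻¹ * (g * x * g⁻¹) = 1
        rw [conj_mul, show x * x = 1 from hx, mul_one, mul_inv_cancel])
    | one => simp
    | mul x y _ _ hx hy =>
      rw [show g * (x * y) * g⁻¹ = g * x * g⁻¹ * (g * y * g⁻¹) by group]
      exact mul_mem hx hy
    | inv x _ hx =>
      rw [show g * x⁻¹ * g⁻¹ = (g * x * g⁻¹)⁻¹ by group]
      exact inv_mem hx
  haveI := K.simple
  obtain ⟨t, ht, ht1⟩ := (T.bot_or_exists_ne_one).resolve_left fun e => by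
    have h4 := K.four
    rw [e, Subgroup.card_bot] at h4
    omega
  have htop : S = ⊤ := hn.eq_bot_or_eq_top.resolve_left fun e => ht1 (by
    have h : (⟨t, K.le ht⟩ : H) ∈ S := subset_closure (Subtype.ext (K.sq t ht))
    rw [e, mem_bot] at h
    exact congrArg Subtype.val h)
  intro x hx
  have hle : S ≤ M.comap H.subtype := (closure_le _).mpr fun y hy => hM y y.2 (congrArg Subtype.val hy)
  exact hle (htop ▸ mem_top (⟨x, hx⟩ : H))

/-- `H` has no non-trivial solvable normal subgroup. -/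
theorem Kit.normal_eq (K : Kit H T) {N : Subgroup G} (hn : ∀ h ∈ H, ∀ x ∈ N, h * x * h⁻¹ ∈ N) :
    H ⊓ N = ⊥ ∨ H ≤ N := by
  haveI := K.simple
  have : (N.subgroupOf H).Normal := ⟨fun x hx g => hn g g.2 x hx⟩
  refine this.eq_bot_or_eq_top.imp (fun e => (Subgroup.eq_bot_iff_forall _).mpr fun x hx => ?_)
    subgroupOf_eq_top.mp
  have h : (⟨x, hx.1⟩ : H) ∈ N.subgroupOf H := hx.2
  rw [e, mem_bot] at h
  exact congrArg Subtype.val h

/-- The kit from a list entry. -/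
theorem kit_of_good {S : Sylow 2 H} (hs : IsSimpleGroup H) (hna : ¬ IsMulCommutative H)
    (hG : WalterAb.Good S) : Kit H ((S : Subgroup H).map H.subtype) := by
  haveI : Fact (Nat.Prime 2) := ⟨Nat.prime_two⟩
  have e : ((S : Subgroup H).map H.subtype).subgroupOf H = (S : Subgroup H) :=
    comap_map_eq_self_of_injective H.subtype_injective _
  refine ⟨map_subtype_le _, ?_, ?_, ?_, fun x hx hc => ?_, ?_, hs, hna⟩
  · rintro _ ⟨x, hx, rfl⟩
    exact congrArg Subtype.val (hG.selfCent.sq x hx)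
  · rw [card_map_of_injective H.subtype_injective]
    exact hG.four
  · show ¬ 2 ∣ (((S : Subgroup H).map H.subtype).subgroupOf H).index
    rw [e]
    exact S.not_dvd_index
  · refine ⟨⟨x, hx⟩, hG.selfCent.self _ fun y hy => Subtype.ext ?_, rfl⟩
    first
    | exact hc y ⟨y, hy, rfl⟩
    | exact (hc y ⟨y, hy, rfl⟩).symm
  · rintro _ ⟨x, hx, rfl⟩ hx1 _ ⟨y, hy, rfl⟩ hy1
    obtain ⟨k, hk, htr⟩ := hG.trans
    obtain ⟨i, hi⟩ := htr x hx (fun e => hx1 (congrArg Subtype.val e)) y hy (fun e => hy1 (congrArg Subtype.val e))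
    refine ⟨(k ^ i : H), (k ^ i).2, ?_, congrArg Subtype.val hi⟩
    have hki := pow_mem hk i
    refine mem_normalizer_iff.mpr fun z => ⟨?_, ?_⟩
    · rintro ⟨z, hz, rfl⟩
      exact ⟨k ^ i * z * (k ^ i)⁻¹, (mem_normalizer_iff.mp hki z).mp hz, rfl⟩
    · rintro ⟨w, hw, he⟩
      refine ⟨(k ^ i)⁻¹ * w * k ^ i, (mem_normalizer_iff''.mp hki w).mp hw, ?_⟩
      show ((k ^ i : H) : G)⁻¹ * w * ((k ^ i : H) : G) = z
      rw [show (w : G) = ((k ^ i : H) : G) * z * ((k ^ i : H) : G)⁻¹ from he]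
      group

/-- A simple subgroup with abelian Sylow 2-subgroups is `L₂(4)`, `L₂(5)`, or one of the three kinds. -/
theorem exists_kit (hs : IsSimpleGroup H) (hna : ¬ IsMulCommutative H)
    (hab : ∀ S : Sylow 2 H, IsMulCommutative (S : Subgroup H)) :
    (∃ (F : Type) (_ : Field F) (_ : Fintype F), (Fintype.card F = 4 ∨ Fintype.card F = 5) ∧
        Nonempty (H ≃* PSL₂[F])) ∨
      (∃ T, KitE H T) ∨
      (∃ T, KitO H T ∧ ∃ (F : Type) (_ : Field F) (_ : Fintype F),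
        11 ≤ Fintype.card F ∧ Nonempty (H ≃* PSL₂[F])) ∨
      ∃ T, KitJR H T := by
  classical
  haveI : Fact (Nat.Prime 2) := ⟨Nat.prime_two⟩
  haveI := hs
  have hl := WalterAb.listed_of_P (fun X _ _ => Walter.p_all X) H hs hna hab
  rcases hl with ⟨F, iF, iFt, hq, ⟨e⟩⟩ | hJ
  · rcases hq with ⟨hq8, hq5⟩ | ⟨n, hn, hc⟩
    · by_cases h5 : Fintype.card F = 5
      · exact Or.inl ⟨F, iF, iFt, Or.inr h5, ⟨e⟩⟩
      refine Or.inr (Or.inr (Or.inl ?_))
      have hl : WalterAb.Listed H := Or.inl ⟨F, iF, iFt, Or.inl ⟨hq8, hq5⟩, ⟨e⟩⟩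
      exact ⟨_, ⟨kit_of_good hs hna (hl.good default), F, iF, iFt, hq8, hq5, ⟨e⟩⟩, F, iF, iFt, by omega, ⟨e⟩⟩
    · rcases Nat.lt_or_ge n 3 with h2 | h3
      · exact Or.inl ⟨F, iF, iFt, Or.inl (by rw [hc, show n = 2 by omega]; norm_num), ⟨e⟩⟩
      refine Or.inr (Or.inl ?_)
      haveI : CharP F 2 := by
        obtain ⟨p, hp⟩ := CharP.exists F
        obtain ⟨k, hpp, hk⟩ := FiniteField.card F p
        have : p = 2 := (Nat.prime_dvd_prime_iff_eq hpp Nat.prime_two).mp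
          (hpp.dvd_of_dvd_pow (n := n) (hc ▸ hk ▸ dvd_pow_self p k.ne_zero))
        exact this ▸ hp
      have h4 : 4 ≤ Fintype.card F := by
        rw [hc]; exact (show 4 = 2 ^ 2 by norm_num) ▸ Nat.pow_le_pow_right (by norm_num) (by omega)
      have hgood := WalterAb.good_even (F := F) h4
      set U : Sylow 2 PSL₂[F] := PSL2.uSylow 2
      set S : Sylow 2 H := Sylow.mapSurjective (f := e.symm.toMonoidHom) e.symm.surjective U with hS
      have hmap : (U : Subgroup PSL₂[F]).map e.symm.toMonoidHom = (S : Subgroup H) := rfl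
      have K := kit_of_good hs hna (hgood.map e.symm hmap)
      have hcT : Nat.card ((S : Subgroup H).map H.subtype) = Fintype.card F := by
        rw [card_map_of_injective H.subtype_injective, ← hmap, card_map_of_injective e.symm.injective]
        exact DicksonFull.card_uSylow (F := F) 2
      refine ⟨_, ⟨K, ?_, ?_, ?_⟩⟩
      · rw [hcT, hc]; exact (show 8 = 2 ^ 3 by norm_num) ▸ Nat.pow_le_pow_right (by norm_num) h3
      · rintro _ ⟨t, ht, rfl⟩ ht1 x hx hxt
        rw [← hmap] at ht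
        obtain ⟨_, ⟨s, rfl⟩, rfl⟩ := ht
        have hs0 : Multiplicative.toAdd s ≠ 0 := fun h => ht1 (by
          rw [show s = 1 from Multiplicative.toAdd.injective h]; simp)
        have hxt' : (⟨x, hx⟩ : H) * e.symm (PSL2.uHom s) = e.symm (PSL2.uHom s) * ⟨x, hx⟩ := Subtype.ext hxt
        have := congrArg e hxt'
        rw [map_mul, map_mul, MulEquiv.apply_symm_apply] at this
        refine ⟨⟨x, hx⟩, ?_, rfl⟩
        rw [← hmap]
        exact ⟨e ⟨x, hx⟩, WalterAb.mem_uRange_of_comm hs0 this, e.symm_apply_apply _⟩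
      · rw [hcT, Nat.card_congr e.toEquiv, ← DicksonFull.card_psl (F := F)]
        rw [show Nat.gcd 2 (Fintype.card F - 1) = 1 by
          refine Nat.coprime_comm.mp (Nat.Coprime.symm ?_)
          rw [Nat.coprime_two_left, Nat.odd_iff, hc]
          have : 2 ∣ 2 ^ n := dvd_pow_self 2 (by omega)
          have := Nat.one_le_two_pow (n := n)
          omega, one_mul]
  · exact Or.inr (Or.inr (Or.inr ⟨_, kit_of_good hs hna ((show WalterAb.Listed H from Or.inr hJ).good default), hJ⟩))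

end CfsgLib.StabSimpAb
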