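import Cfsg.Agent.Lib.StabSimpAb.Parity

/-!
Odd degree, a central swapper, two-point stabilisers with self-centralised involutions forming one class.

Blueprint: `blueprint/S3400.md`, section 2 (RANK and the involutions with one fixed point).
-/

set_option autoImplicit false
set_option linter.unusedSectionVars false
set_option linter.style.haveILetI false

namespace CfsgLib.StabSimpAb

open MulAction CfsgLib.StabAlt5

universe u v

variable {Y : Type u} [Group Y] {Δ : Type v} [MulAction Y Δ]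

/-- The hypotheses on the group of degree `Δ`. -/
structure FourHyp (z v : Y) (A B : Δ) : Prop where
  two : TwoTrans Y Δ
  ne : A ≠ B
  odd : Odd (Nat.card Δ)
  zsq : z * z = 1
  za : z • A = B
  zb : z • B = A
  zc : ∀ d : Y, d • A = A → d • B = B → d * z = z * d
  va : v • A = A
  vb : v • B = B
  vsq : v * v = 1
  vne : v ≠ 1
  cls : ∀ x : Y, x * x = 1 → x ≠ 1 → x • A = A → x • B = B → ∃ d : Y, d • A = A ∧ d • B = B ∧ d * v * d⁻¹ = x
  self : ∀ d : Y, d • A = A → d • B = B → d * v = v * d → d = 1 ∨ d = v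

variable [Finite Y] [Finite Δ] [FaithfulSMul Y Δ] {z v : Y} {A B : Δ} (H : FourHyp z v A B)
include H

theorem FourHyp.conj_v {x : Y} (x2 : x * x = 1) (x1 : x ≠ 1) {c d : Δ} (hcd : c ≠ d) (hc : x • c = c)
    (hd : x • d = d) : ∃ g : Y, g • c = A ∧ g • d = B ∧ g * x * g⁻¹ = v := by
  obtain ⟨g, hgc, hgd⟩ := H.two c d A B hcd H.ne
  obtain ⟨e, heA, heB, he⟩ := H.cls (g * x * g⁻¹) (by rw [conj_mul, x2, mul_one, mul_inv_cancel])
    (fun h => x1 (conj_eq_one_iff.mp h)) (hgc ▸ conj_fix hc) (hgd ▸ conj_fix hd)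
  refine ⟨e⁻¹ * g, ?_, ?_, ?_⟩
  · rw [mul_smul, hgc, inv_smul_eq_iff, heA]
  · rw [mul_smul, hgd, inv_smul_eq_iff, heB]
  · calc e⁻¹ * g * x * (e⁻¹ * g)⁻¹ = e⁻¹ * (g * x * g⁻¹) * e := by group
      _ = v := by rw [← he]; group

theorem FourHyp.self_of {x g : Y} (x2 : x * x = 1) (x1 : x ≠ 1) {c d : Δ} (hcd : c ≠ d) (hc : x • c = c)
    (hd : x • d = d) (hg : g * x = x * g) (hgc : g • c = c) (hgd : g • d = d) : g = 1 ∨ g = x := by
  obtain ⟨h, hhc, hhd, hh⟩ := H.conj_v x2 x1 hcd hc hd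
  rcases H.self (h * g * h⁻¹) (hhc ▸ conj_fix hgc) (hhd ▸ conj_fix hgd) (by
      rw [← hh, conj_mul, conj_mul, hg]) with e | e
  · exact Or.inl (conj_eq_one_iff.mp e)
  · exact Or.inr (mul_left_cancel (mul_right_cancel (e.trans hh.symm)))

theorem FourHyp.cent_trans {x : Y} (x2 : x * x = 1) (x1 : x ≠ 1) {c d : Δ} (hk : 2 ≤ (fixedBy Δ x).ncard)
    (hc : x • c = c) (hd : x • d = d) : ∃ g : Y, g * x = x * g ∧ g • c = d := by
  by_cases hcd : c = d
  · exact ⟨1, by rw [one_mul, mul_one], by rw [one_smul, hcd]⟩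
  obtain ⟨g, hg, hgc, -⟩ := witt_elem H.two hcd (t := x) (c := d) (d := c) (fun g h1 h2 => by
    obtain ⟨p, hpc, hpd, hp⟩ := H.conj_v x2 x1 hcd hc hd
    obtain ⟨r, hrc, hrd, hr⟩ := H.conj_v (x := g * x * g⁻¹) (by rw [conj_mul, x2, mul_one, mul_inv_cancel])
      (fun e => x1 (conj_eq_one_iff.mp e)) hcd h1 h2
    refine ⟨r⁻¹ * p, by rw [mul_smul, hpc, inv_smul_eq_iff, hrc], by rw [mul_smul, hpd, inv_smul_eq_iff, hrd], ?_⟩
    calc g * x * g⁻¹ = r⁻¹ * (r * (g * x * g⁻¹) * r⁻¹) * r := by group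
      _ = r⁻¹ * (p * x * p⁻¹) * r := by rw [hr, hp]
      _ = r⁻¹ * p * x * (r⁻¹ * p)⁻¹ := by group) (Ne.symm hcd) hd hc
  exact ⟨g, hg, hgc⟩

/-- RANK at an involution with two fixed points. -/
theorem FourHyp.rank_at {x e f : Y} {c : Δ} (x2 : x * x = 1) (x1 : x ≠ 1) (hk : 2 ≤ (fixedBy Δ x).ncard)
    (he : e * e = 1) (hf : f * f = 1) (hex : e * x = x * e) (hfx : f * x = x * f) (hc : x • c = c)
    (hec : e • c = c) (hfc : f • c = c) (he1 : e ≠ 1) (hex' : e ≠ x) (hf1 : f ≠ 1) (hfx' : f ≠ x) :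
    e = f ∨ e = x * f :=
  rank (fun p r hp hr => H.cent_trans x2 x1 hk hp hr)
    (fun g p r hg hpr hgp hgr hp hr => H.self_of x2 x1 hpr hp hr hg hgp hgr)
    he hf hex hfx hc hec hfc hk he1 hex' hf1 hfx'

theorem FourHyp.card_D : ∃ u : ℕ, Odd u ∧ Nat.card ↥(stabilizer Y A ⊓ stabilizer Y B) = 2 * u ∧
    {x : Y | x * x = 1 ∧ x ≠ 1 ∧ x • A = A ∧ x • B = B}.ncard = u := by
  classical
  haveI : Fact (Nat.Prime 2) := ⟨Nat.prime_two⟩
  set D := stabilizer Y A ⊓ stabilizer Y B with hD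
  let v' : D := ⟨v, H.va, H.vb⟩
  have hv' : orderOf v' = 2 := orderOf_eq_prime (Subtype.ext (by show v ^ 2 = 1; rw [pow_two]; exact H.vsq))
    (fun e => H.vne (congrArg Subtype.val e))
  obtain ⟨P, hP⟩ := (show IsPGroup 2 (Subgroup.zpowers v') from IsPGroup.of_card (n := 1) (by
    rw [Nat.card_zpowers, hv', pow_one])).exists_le_sylow
  have hvP : v' ∈ (P : Subgroup D) := hP (Subgroup.mem_zpowers _)
  have hsub : (P : Subgroup D) = Subgroup.zpowers v' := by
    refine le_antisymm (fun p hp => ?_) hP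
    have hnt : Nontrivial (P : Subgroup D) := ⟨⟨⟨v', hvP⟩, 1, fun e => H.vne (congrArg (fun w : (P : Subgroup D) => ((w : D) : Y)) e)⟩⟩
    haveI := hnt
    haveI := P.2.center_nontrivial
    obtain ⟨⟨w, hw⟩, hw1⟩ := exists_ne (1 : Subgroup.center (P : Subgroup D))
    have hwv : ((w : D) : Y) * v = v * ((w : D) : Y) :=
      (congrArg (fun x : (P : Subgroup D) => ((x : D) : Y)) (Subgroup.mem_center_iff.mp hw ⟨v', hvP⟩)).symm
    have hwv' : ((w : D) : Y) = v := (H.self _ (w : D).2.1 (w : D).2.2 hwv).resolve_left fun e =>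
      hw1 (Subtype.ext (Subtype.ext (Subtype.ext e)))
    have hpv : ((p : D) : Y) * v = v * ((p : D) : Y) := by
      have := congrArg (fun x : (P : Subgroup D) => ((x : D) : Y)) (Subgroup.mem_center_iff.mp hw ⟨p, hp⟩)
      simp only [Subgroup.coe_mul] at this
      rw [hwv'] at this
      exact this
    rcases H.self _ p.2.1 p.2.2 hpv with e | e
    · rw [show p = 1 from Subtype.ext e]; exact one_mem _
    · rw [show p = v' from Subtype.ext e]; exact Subgroup.mem_zpowers _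
  have hidx : ¬ 2 ∣ (Subgroup.zpowers v').index := hsub ▸ P.not_dvd_index
  have hcard := Subgroup.card_mul_index (Subgroup.zpowers v')
  rw [Nat.card_zpowers, hv'] at hcard
  refine ⟨(Subgroup.zpowers v').index, Nat.odd_iff.mpr (Nat.two_dvd_ne_zero.mp hidx), hcard.symm, ?_⟩
  letI : MulAction D Y := MulAction.compHom Y (MulAut.conj.comp D.subtype)
  have hact : ∀ (d : D) (x : Y), d • x = (d : Y) * x * (d : Y)⁻¹ := fun _ _ => rfl
  have horb : orbit D v = {x : Y | x * x = 1 ∧ x ≠ 1 ∧ x • A = A ∧ x • B = B} := by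
    ext x
    constructor
    · rintro ⟨d, rfl⟩
      show d • v ∈ _
      rw [hact]
      exact ⟨by rw [conj_mul, H.vsq, mul_one, mul_inv_cancel], fun e => H.vne (conj_eq_one_iff.mp e),
        conj_fix_of_fix d.2.1 H.va, conj_fix_of_fix d.2.2 H.vb⟩
    · rintro ⟨x2, x1, hA, hB⟩
      obtain ⟨d, hdA, hdB, he⟩ := H.cls x x2 x1 hA hB
      exact ⟨⟨d, hdA, hdB⟩, he⟩
  have hst : stabilizer D v = Subgroup.zpowers v' := by
    refine le_antisymm (fun d hd => ?_) (Subgroup.zpowers_le.mpr (by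
      show v * v * v⁻¹ = v
      rw [mul_inv_cancel_right]))
    rcases H.self _ d.2.1 d.2.2 (mul_inv_eq_iff_eq_mul.mp hd) with e | e
    · rw [show d = 1 from Subtype.ext e]; exact one_mem _
    · rw [show d = v' from Subtype.ext e]; exact Subgroup.mem_zpowers _
  rw [← horb, ← index_stabilizer, hst]

/-- An involution interchanging the two points is `z` or `z` times an involution fixing them. -/
theorem FourHyp.swap_cases {x : Y} (x2 : x * x = 1) (hA : x • A = B) (hB : x • B = A) :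
    x = z ∨ (z * x * (z * x) = 1 ∧ z * x ≠ 1 ∧ (z * x) • A = A ∧ (z * x) • B = B) := by
  by_cases hxz : x = z
  · exact Or.inl hxz
  have h1 : (z * x) • A = A := by rw [mul_smul, hA, H.zb]
  have h2 : (z * x) • B = B := by rw [mul_smul, hB, H.za]
  have hc := H.zc _ h1 h2
  rw [← mul_assoc, H.zsq, one_mul] at hc
  refine Or.inr ⟨?_, fun e => hxz ?_, h1, h2⟩
  · calc z * x * (z * x) = z * x * z * x := by group
      _ = 1 := by rw [hc, x2]
  · calc x = z * (z * x) := by rw [← mul_assoc, H.zsq, one_mul]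
      _ = z := by rw [e, mul_one]

/-- With a four group all of whose involutions fix two points, no involution fixes only one. -/
theorem FourHyp.no_one (hz : 2 ≤ (fixedBy Δ z).ncard) {e f : Y} {c : Δ} (he : e * e = 1) (hf : f * f = 1)
    (hef : e * f = f * e) (hne : e ≠ f) (he1 : e ≠ 1) (hf1 : f ≠ 1) (hec : e • c = c) (hfc : f • c = c)
    (hke : 2 ≤ (fixedBy Δ e).ncard) (hkf : 2 ≤ (fixedBy Δ f).ncard) (hkef : 2 ≤ (fixedBy Δ (e * f)).ncard)
    (x : Y) : ¬ OneFix Δ x := by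
  classical
  intro hx
  haveI := Fintype.ofFinite Δ
  set Z : Δ → Set Y := fun d => {x | OneFix Δ x ∧ x • d = d} with hZ
  set ν := (Z c).ncard with hν
  have hconst : ∀ d, (Z d).ncard = ν := by
    intro d
    obtain ⟨g, hg⟩ := H.two.transitive H.ne c
    obtain ⟨g', hg'⟩ := H.two.transitive H.ne d
    symm
    refine Set.ncard_congr (fun x _ => g' * g⁻¹ * x * (g' * g⁻¹)⁻¹) (fun x hx => ⟨hx.1.conj _, ?_⟩)
      (fun x y _ _ e => mul_left_cancel (mul_right_cancel e))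
      (fun y hy => ⟨(g' * g⁻¹)⁻¹ * y * (g' * g⁻¹), ⟨?_, ?_⟩, by group⟩)
    · have : (g' * g⁻¹) • c = d := by rw [mul_smul, ← hg, inv_smul_smul, hg']
      rw [← this]; exact conj_fix hx.2
    · simpa using hy.1.conj (g' * g⁻¹)⁻¹
    · have : (g' * g⁻¹) • c = d := by rw [mul_smul, ← hg, inv_smul_smul, hg']
      rw [mul_smul, mul_smul, this, hy.2, ← this, inv_smul_smul]
  set O : Set Y := {x | OneFix Δ x} with hO
  have hOcard : O.ncard = Nat.card Δ * ν := by
    have e0 : O = ⋃ d ∈ (Finset.univ : Finset Δ), Z d := by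
      ext x
      simp only [Finset.mem_univ, Set.iUnion_true, Set.mem_iUnion]
      exact ⟨fun hx => hx.exists_fix.imp fun d hd => ⟨hx, hd⟩, fun ⟨_, hx⟩ => hx.1⟩
    rw [e0, ncard_biUnion _ _ (fun d _ d' _ hdd => ?_),
      Finset.sum_congr rfl fun d _ => hconst d, Finset.sum_const, smul_eq_mul, Finset.card_univ,
      Nat.card_eq_fintype_card]
    exact Set.disjoint_left.mpr fun x h1 h2 => hdd (h1.1.eq_of_fix h1.2 h2.2)
  have hcount := swap_count H.two H.ne O (fun g x hx => hx.conj g) (fun x hx => hx.1) fun x hx => hx.2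
  set W : Set Y := {x | x ∈ O ∧ x • A = B ∧ x • B = A} with hW
  rw [hOcard] at hcount
  have hm : 2 ≤ Nat.card Δ := by
    rw [← Set.ncard_univ, ← Set.ncard_pair H.ne]; exact Set.ncard_le_ncard (Set.subset_univ _)
  have hνW : ν = W.ncard := by
    refine Nat.eq_of_mul_eq_mul_left (show 0 < Nat.card Δ * (Nat.card Δ - 1) from Nat.mul_pos (by omega) (by omega)) ?_
    rw [← hcount]; ring
  obtain ⟨d, hd⟩ := hx.exists_fix
  have hνpos : 0 < ν := by rw [← hconst d]; exact (Set.ncard_pos (Set.toFinite _)).mpr ⟨x, hx, hd⟩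
  obtain ⟨u, hu, -, hJ⟩ := H.card_D
  set J : Set Y := {x : Y | x * x = 1 ∧ x ≠ 1 ∧ x • A = A ∧ x • B = B}
  obtain ⟨w, hw⟩ := (Set.ncard_pos (Set.toFinite _)).mp (hνW ▸ hνpos)
  have hwJ : z * w ∈ J := (H.swap_cases hw.1.1 hw.2.1 hw.2.2).resolve_left fun e => by
    have := hw.1.2
    rw [e] at this
    omega
  have hWJ : W = (z * ·) '' J := by
    ext y
    constructor
    · intro hy
      refine ⟨z * y, (H.swap_cases hy.1.1 hy.2.1 hy.2.2).resolve_left fun e => ?_, by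
        show z * (z * y) = y
        rw [← mul_assoc, H.zsq, one_mul]⟩
      have := hy.1.2
      rw [e] at this
      omega
    · rintro ⟨j, ⟨j2, j1, jA, jB⟩, rfl⟩
      obtain ⟨g, hgA, hgB, hgj⟩ := H.cls j j2 j1 jA jB
      obtain ⟨g', hgA', hgB', hgw⟩ := H.cls (z * w) hwJ.1 hwJ.2.1 hwJ.2.2.1 hwJ.2.2.2
      have hdA : (g * g'⁻¹) • A = A := by rw [mul_smul, inv_smul_eq_iff.mpr hgA'.symm, hgA]
      have hdB : (g * g'⁻¹) • B = B := by rw [mul_smul, inv_smul_eq_iff.mpr hgB'.symm, hgB]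
      have hw' : w = z * (g' * v * g'⁻¹) := by rw [hgw, ← mul_assoc, H.zsq, one_mul]
      have he' : g * g'⁻¹ * w * (g * g'⁻¹)⁻¹ = z * j := by
        rw [hw', show g * g'⁻¹ * (z * (g' * v * g'⁻¹)) * (g * g'⁻¹)⁻¹ =
          g * g'⁻¹ * z * (g' * v * g⁻¹) by group, H.zc _ hdA hdB, ← hgj]
        group
      refine ⟨by show OneFix Δ (z * j); rw [← he']; exact hw.1.conj _, ?_, ?_⟩
      · rw [mul_smul, jA, H.za]
      · rw [mul_smul, jB, H.zb]
  have hνodd : Odd (Z c).ncard := by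
    rw [← hν, hνW, hWJ, Set.ncard_image_of_injective _ (mul_right_injective z), hJ]; exact hu
  -- an involution of the set centralised by the four group
  have step : ∀ (S : Set Y) (g : Y), g * g = 1 → Odd S.ncard → (∀ y ∈ S, g * y * g⁻¹ ∈ S) →
      Odd {y | y ∈ S ∧ g * y = y * g}.ncard := by
    intro S g g2 hS hinv
    by_contra hev
    have hsplit := Set.ncard_sdiff_add_ncard_of_subset (show {y | y ∈ S ∧ g * y = y * g} ⊆ S from fun _ h => h.1)
    have hodd' : Odd (S \ {y | y ∈ S ∧ g * y = y * g}).ncard := by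
      rw [Nat.odd_iff] at hS hev ⊢
      omega
    haveI : Finite (ConjAct Y) := Finite.of_equiv Y ConjAct.toConjAct.toEquiv
    obtain ⟨y, ⟨hyS, hy⟩, hfix⟩ := exists_fix_of_two (Y := ConjAct Y) (Δ := Y) (g := ConjAct.toConjAct g) (k := 1)
      (by rw [pow_one, pow_two, ← map_mul, g2, map_one]) (S := S \ {y | y ∈ S ∧ g * y = y * g})
      (fun y hy => by
        rw [ConjAct.smul_def, ConjAct.ofConjAct_toConjAct]
        refine ⟨hinv y hy.1, fun h => hy.2 ⟨hy.1, ?_⟩⟩
        have h2 := h.2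
        calc g * y = g * y * g⁻¹ * g := by group
          _ = g * (g * y * g⁻¹) * (g * g⁻¹) * (g⁻¹ * g) := by rw [h2]; group
          _ = y * g := by
            rw [mul_inv_cancel, mul_one, inv_mul_cancel, mul_one, inv_of_sq g2, ← mul_assoc, ← mul_assoc, g2,
              one_mul])
      hodd'
    rw [ConjAct.smul_def, ConjAct.ofConjAct_toConjAct, mul_inv_eq_iff_eq_mul] at hfix
    exact hy ⟨hyS, hfix⟩
  have hinvZ : ∀ g : Y, g • c = c → ∀ y ∈ Z c, g * y * g⁻¹ ∈ Z c := fun g hg y hy =>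
    ⟨hy.1.conj g, conj_fix_of_fix hg hy.2⟩
  have h1 := step (Z c) e he hνodd (hinvZ e hec)
  have h2 := step _ f hf h1 (fun y hy => ⟨hinvZ f hfc y hy.1, by
    calc e * (f * y * f⁻¹) = (e * f) * y * f⁻¹ := by group
      _ = f * (e * y) * f⁻¹ := by rw [hef]; group
      _ = f * y * (e * f⁻¹) := by rw [hy.2]; group
      _ = f * y * f⁻¹ * e := by
        rw [inv_of_sq hf, hef]; group⟩)
  obtain ⟨g, hg⟩ := (Set.ncard_pos (Set.toFinite _)).mp h2.pos
  obtain ⟨⟨⟨hg1, hgc⟩, hge⟩, hgf⟩ := hg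
  have hk : ∀ w : Y, 2 ≤ (fixedBy Δ w).ncard → g ≠ w := fun w hw e' => by
    have := hg1.2
    rw [e'] at this
    omega
  have hg1' : g ≠ 1 := fun e' => by
    have := hg1.2
    rw [e', show fixedBy Δ (1 : Y) = Set.univ from Set.eq_univ_of_forall fun c => one_smul Y c, Set.ncard_univ] at this
    omega
  rcases H.rank_at he he1 hke hg1.1 hf hge.symm hef.symm hec hgc hfc hg1' (hk e hke) hf1 (Ne.symm hne) with h | h
  · exact hk f hkf h
  · exact hk _ hkef h

end CfsgLib.StabSimpAb
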