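import Cfsg.Agent.Lib.StabSimpAb.OddAbs
import Cfsg.Agent.Lib.StabSimpAb.DirectCount

/-!
Odd degree and a central swapper conjugate to `t`: the involutions of the two-point stabiliser share fixed points
with the swapper.

Blueprint: `blueprint/S3400.md`, section 2 (DIRECT).
-/

set_option autoImplicit false
set_option linter.unusedSectionVars false
set_option linter.style.haveILetI false

namespace CfsgLib.StabSimpAb

open MulAction CfsgLib.StabAlt5

universe u v

variable {G : Type u} [Group G] [Finite G] {Ω : Type v} [Finite Ω] [MulAction G Ω]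
variable {a b : Ω} {T : Subgroup G}

/-- A central swapper conjugate to the involution `t`, odd degree. -/
structure Central (t z : G) (a b : Ω) (T : Subgroup G) : Prop where
  cx : Cx a b T
  odd : Odd (Nat.card Ω)
  swap : Swap z a b
  memT : t ∈ T
  ne_one : t ≠ 1
  cls : z ∈ cls t

variable {t z : G} (D : Central t z a b T)
include D

theorem Central.inv : Inv2 t a b := D.cx.inv2_of_mem D.memT D.ne_one

theorem Central.two_le_z : 2 ≤ (fixedBy Ω z).ncard := by
  rw [cls_fix D.cls]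
  exact D.cx.two_le_fix D.inv

theorem Central.two_lt_z : 2 < (fixedBy Ω z).ncard := by
  have h1 := D.two_le_z
  have h2 := odd_fixedBy (Δ := Ω) D.swap.sq D.odd
  rw [Nat.odd_iff] at h2
  omega

/-- No non-identity element of the two-point stabiliser fixes all fixed points of the swapper. -/
theorem Central.faithful_fix [FaithfulSMul G Ω] {h : G} (hh : h ∈ stab2 G a b)
    (hfix : ∀ c : Ω, z • c = c → h • c = c) : h = 1 := by
  classical
  set N := fixingSubgroup G (fixedBy Ω z) with hN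
  have hmem : ∀ x : G, x ∈ N ↔ ∀ c : Ω, z • c = c → x • c = c := fun x =>
    mem_fixingSubgroup_iff G
  have hn : ∀ k ∈ stab2 G a b, ∀ x ∈ N, k * x * k⁻¹ ∈ N := by
    intro k hk x hx
    refine (hmem _).mpr fun c hc => ?_
    have hkc : z • k⁻¹ • c = k⁻¹ • c := fix_comm (D.swap.comm _ (inv_mem hk)) hc
    rw [mul_smul, mul_smul, (hmem x).mp hx _ hkc, smul_inv_smul]
  rcases D.cx.kit.normal_eq hn with e | e
  · have h1 : h ∈ stab2 G a b ⊓ N := ⟨hh, (hmem h).mpr hfix⟩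
    rwa [e, Subgroup.mem_bot] at h1
  exfalso
  obtain ⟨c, d, hc, hd, hcd⟩ := (Set.one_lt_ncard_iff (Set.toFinite _)).mp D.two_le_z
  obtain ⟨g, -, -, hg⟩ := D.cx.transport hcd
  have hle : stab2 G a b ≤ stab2 G c d := fun x hx =>
    ⟨(hmem x).mp (e hx) c hc, (hmem x).mp (e hx) d hd⟩
  have hcard : Nat.card (stab2 G c d) = Nat.card (stab2 G a b) := Nat.card_congr
    { toFun := fun x => ⟨g⁻¹ * x * g, (hg x).mp x.2⟩
      invFun := fun x => ⟨g * x * g⁻¹, (hg _).mpr (by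
        rw [show g⁻¹ * (g * x * g⁻¹) * g = (x : G) by group]; exact x.2)⟩
      left_inv := fun x => Subtype.ext (by show g * (g⁻¹ * x * g) * g⁻¹ = x; group)
      right_inv := fun x => Subtype.ext (by show g⁻¹ * (g * x * g⁻¹) * g = x; group) }
  exact D.swap.not_mem D.cx.ne (Subgroup.eq_of_le_of_card_ge hle hcard.le ▸ (⟨hc, hd⟩ : z ∈ stab2 G c d))

/-- Transport of the elements centralising the swapper into the centraliser of `t`. -/
theorem Central.exists_shift : ∃ g : G, (∀ c : Ω, z • (g • c) = g • c ↔ t • c = c) ∧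
    ∀ x : G, x * z = z * x → g⁻¹ * x * g ∈ Subgroup.centralizer ({t} : Set G) := by
  obtain ⟨g, hg⟩ := D.cls
  refine ⟨g, fun c => ?_, fun x hx => Subgroup.mem_centralizer_singleton_iff.mpr ?_⟩
  · rw [← hg, mul_smul, mul_smul, inv_smul_smul]
    exact ⟨fun e => MulAction.injective g e, fun e => by rw [e]⟩
  · have e : t = g⁻¹ * z * g := by rw [← hg]; group
    rw [e]
    calc g⁻¹ * x * g * (g⁻¹ * z * g) = g⁻¹ * (x * z) * g := by group
      _ = _ := by rw [hx]; group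

/-- An involution of the two-point stabiliser and the swapper have two common fixed points. -/
theorem Central.share [FaithfulSMul G Ω] {x : G} (hx : x ∈ stab2 G a b) (x2 : x * x = 1) (x1 : x ≠ 1) :
    2 ≤ {c : Ω | z • c = c ∧ x • c = c}.ncard := by
  classical
  have I := D.inv
  have hconj : ∀ y ∈ stab2 G a b, y * y = 1 → y ≠ 1 →
      {c : Ω | z • c = c ∧ y • c = c}.ncard = {c : Ω | z • c = c ∧ t • c = c}.ncard := by
    intro y hy y2 y1
    obtain ⟨h, hh, he⟩ := D.cx.kit.conj_all I.mem hy I.sq I.ne_one y2 y1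
    symm
    refine Set.ncard_congr (fun c _ => h • c) (fun c hc => ⟨fix_comm (D.swap.comm h hh) hc.1, ?_⟩)
      (fun c d _ _ e => MulAction.injective h e) fun c hc => ⟨h⁻¹ • c, ⟨?_, ?_⟩, smul_inv_smul h c⟩
    · rw [← he]; exact conj_fix hc.2
    · exact fix_comm (D.swap.comm _ (inv_mem hh)) hc.1
    · have := conj_fix (g := h⁻¹) hc.2
      rwa [← he, show h⁻¹ * (h * t * h⁻¹) * h⁻¹⁻¹ = t by group] at this
  rw [hconj x hx x2 x1]
  by_contra hlt
  -- the action on the fixed points of `t`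
  set S := fixedBy Ω t
  have hS := inv_fixedBy (Ω := Ω) t
  set Cc := Subgroup.centralizer ({t} : Set G)
  have hzC : z ∈ Cc := Subgroup.mem_centralizer_singleton_iff.mpr (D.swap.comm t I.mem)
  have hzone : OneFix ↥S (toImg hS ⟨z, hzC⟩) := by
    refine ⟨toImg_sq hS fun c _ => by show (z * z) • c = c; rw [D.swap.sq, one_smul], ?_⟩
    rw [ncard_fixedBy_toImg]
    have e : {c | c ∈ S ∧ z • c = c} = {c : Ω | z • c = c ∧ t • c = c} := by
      ext c; exact ⟨fun h => ⟨h.2, h.1⟩, fun h => ⟨h.2, h.1⟩⟩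
    show {c | c ∈ S ∧ z • c = c}.ncard = 1
    rw [e]
    refine le_antisymm (by omega) ?_
    have hodd : Odd (Nat.card ↥S) := by rw [Nat.card_coe_set_eq]; exact odd_fixedBy I.sq D.odd
    obtain ⟨c, hc⟩ := exists_fix_involution (Δ := ↥S) (g := toImg hS ⟨z, hzC⟩)
      (toImg_sq hS fun c _ => by show (z * z) • c = c; rw [D.swap.sq, one_smul]) hodd
    exact (Set.ncard_pos (Set.toFinite _)).mpr ⟨c, (toImg_fix hS).mp hc, c.2⟩
  have htr : ∀ c d : ↥S, ∃ y : ↥(Img hS), y • c = d := by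
    refine img_trans hS fun c d hc hd => ?_
    obtain ⟨g, hg⟩ : ∃ g ∈ Cc, g • a = c := by
      by_cases h : c = a
      · exact ⟨1, one_mem _, by rw [one_smul, h]⟩
      · obtain ⟨g, hg, hga, -⟩ := D.cx.cent_trans I hc I.mem.1 h
        exact ⟨g, hg, hga⟩
    obtain ⟨g', hg'⟩ : ∃ g ∈ Cc, g • a = d := by
      by_cases h : d = a
      · exact ⟨1, one_mem _, by rw [one_smul, h]⟩
      · obtain ⟨g, hg, hga, -⟩ := D.cx.cent_trans I hd I.mem.1 h
        exact ⟨g, hg, hga⟩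
    exact ⟨g' * g⁻¹, mul_mem hg'.1 (inv_mem hg.1), by rw [mul_smul, ← hg.2, inv_smul_smul, hg'.2]⟩
  have hpair : ∀ (u u' : ↥(Img hS)) (p c : ↥S), OneFix ↥S u → OneFix ↥S u' → u • p ≠ p → u' • p = u • p →
      u • c = c → u' • c = c := by
    intro u u' p c hu hu' hp he huc
    obtain ⟨k, hk, hka, hkb⟩ := D.cx.cent_trans I p.2 (u • p).2 (fun e => hp (Subtype.ext e).symm)
    set zk := toImg hS ⟨k, hk⟩ * toImg hS ⟨z, hzC⟩ * (toImg hS ⟨k, hk⟩)⁻¹ with hzk
    have hzk1 : OneFix ↥S zk := hzone.conj _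
    have hcomm : ∀ w : ↥(Img hS), w * w = 1 → w • p = u • p → w * zk = zk * w := by
      intro w w2 hwp
      obtain ⟨g, rfl⟩ := toImg_surj hS w
      have hga : (g : G) • (p : Ω) = ((u • p : ↥S) : Ω) := congrArg Subtype.val hwp
      have hgb : (g : G) • ((u • p : ↥S) : Ω) = (p : Ω) := congrArg Subtype.val
        (show toImg hS g • (u • p) = p by rw [← hwp, ← mul_smul, w2, one_smul])
      have hm : z * (k⁻¹ * (g : G) * k) ∈ stab2 G a b := by
        refine swap_mul_mem D.swap.za D.swap.zb ?_ ?_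
        · rw [mul_smul, mul_smul, hka, hga, ← hkb, inv_smul_smul]
        · rw [mul_smul, mul_smul, hkb, hgb, ← hka, inv_smul_smul]
      have hz := D.swap.comm _ hm
      rw [← mul_assoc, D.swap.sq, one_mul] at hz
      rw [hzk, ← map_inv, ← map_mul, ← map_mul, ← map_mul, ← map_mul]
      congr 1
      refine Subtype.ext ?_
      show (g : G) * (k * z * k⁻¹) = k * z * k⁻¹ * g
      calc (g : G) * (k * z * k⁻¹) = k * ((k⁻¹ * g * k) * z) * k⁻¹ := by group
        _ = k * (z * (k⁻¹ * g * k)) * k⁻¹ := by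
          congr 2
          calc k⁻¹ * (g : G) * k * z = z * (k⁻¹ * g * k) * z * z := by rw [← hz]
            _ = _ := by rw [mul_assoc _ z z, D.swap.sq, mul_one]
        _ = _ := by group
    have h1 : zk • c = c := hu.eq_of_fix (fix_comm (hcomm u hu.1 rfl) huc) huc
    exact hzk1.eq_of_fix (fix_comm (hcomm u' hu'.1 he).symm h1) h1
  obtain ⟨g, hgfix, hgC⟩ := D.exists_shift
  let φ : ↥T → ↥(Img hS) := fun y => toImg hS ⟨g⁻¹ * y * g, hgC y (D.swap.comm y (D.cx.kit.le y.2)).symm⟩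
  have hfixy : ∀ y : ↥T, (fixedBy ↥S (φ y)).ncard = {c : Ω | z • c = c ∧ (y : G) • c = c}.ncard := by
    intro y
    rw [ncard_fixedBy_toImg]
    refine Set.ncard_congr (fun c _ => g • c) (fun c hc => ⟨(hgfix c).mpr hc.1, ?_⟩)
      (fun c d _ _ e => MulAction.injective g e) fun c hc => ⟨g⁻¹ • c, ⟨?_, ?_⟩, smul_inv_smul g c⟩
    · have := hc.2
      rwa [mul_smul, mul_smul, inv_smul_eq_iff] at this
    · exact (hgfix _).mp (by rw [smul_inv_smul]; exact hc.1)
    · show (g⁻¹ * (y : G) * g) • g⁻¹ • c = g⁻¹ • c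
      rw [mul_smul, mul_smul, smul_inv_smul, hc.2]
  have hone : ∀ y : ↥T, (y : G) ≠ 1 → OneFix ↥S (φ y) := by
    intro y y1
    refine ⟨toImg_sq hS fun c _ => ?_, ?_⟩
    · show (g⁻¹ * (y : G) * g * (g⁻¹ * y * g)) • c = c
      rw [show g⁻¹ * (y : G) * g * (g⁻¹ * y * g) = g⁻¹ * ((y : G) * y) * g by group, D.cx.kit.sq _ y.2, mul_one,
        inv_mul_cancel, one_smul]
    · rw [hfixy, hconj _ (D.cx.kit.le y.2) (D.cx.kit.sq _ y.2) y1]
      have h := hzone.2
      rw [ncard_fixedBy_toImg] at h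
      rw [← h]
      congr 1
      ext c; exact ⟨fun h => ⟨h.2, h.1⟩, fun h => ⟨h.2, h.1⟩⟩
  obtain ⟨y, hy, y1, hyt⟩ : ∃ y ∈ T, y ≠ 1 ∧ y ≠ t := by
    by_contra hall
    push Not at hall
    have hsub : (T : Set G) ⊆ {1, t} := fun w hw => by
      by_cases hw1 : w = 1
      · exact Or.inl hw1
      · exact Or.inr (hall w hw hw1)
    have := Set.ncard_le_ncard hsub (Set.toFinite _)
    rw [Set.ncard_pair I.ne_one.symm, ← Nat.card_coe_set_eq] at this
    have h4 := D.cx.kit.four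
    change Nat.card T ≤ 2 at this
    omega
  obtain ⟨c, hc⟩ := (hone ⟨t, D.memT⟩ I.ne_one).exists_fix
  have hcomm : φ ⟨y, hy⟩ * φ ⟨t, D.memT⟩ = φ ⟨t, D.memT⟩ * φ ⟨y, hy⟩ := by
    rw [← map_mul, ← map_mul]
    congr 1
    refine Subtype.ext ?_
    show g⁻¹ * y * g * (g⁻¹ * t * g) = g⁻¹ * t * g * (g⁻¹ * y * g)
    calc g⁻¹ * y * g * (g⁻¹ * t * g) = g⁻¹ * (y * t) * g := by group
      _ = _ := by rw [D.cx.kit.comm hy D.memT]; group
  have hyc : φ ⟨y, hy⟩ • c = c := (hone ⟨t, D.memT⟩ I.ne_one).eq_of_fix (fix_comm hcomm.symm hc) hc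
  have heq := mid htr hpair (hone ⟨y, hy⟩ y1) (hone ⟨t, D.memT⟩ I.ne_one) hyc hc
  refine hyt ?_
  have := D.faithful_fix (h := y * t) (mul_mem (D.cx.kit.le hy) I.mem) fun d hd => ?_
  · rw [eq_inv_of_mul_eq_one_left this, inv_of_sq I.sq]
  have hd' : g⁻¹ • d ∈ S := (hgfix _).mp (by rw [smul_inv_smul]; exact hd)
  have := (toImg_eq hS).mp heq _ hd'
  simp only [mul_smul, smul_inv_smul, smul_left_cancel_iff] at this
  have h2 : y • t • d = t • y • d := by rw [← mul_smul, ← mul_smul, D.cx.kit.comm hy D.memT]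
  rw [mul_smul, h2, this, ← mul_smul, I.sq, one_smul]

/-- Not all of `T` fixes every fixed point of `t`. -/
theorem Central.not_trivial [FaithfulSMul G Ω] : ∃ y ∈ T, ∃ c : Ω, t • c = c ∧ y • c ≠ c := by
  classical
  by_contra hall
  push Not at hall
  have I := D.inv
  set S := fixedBy Ω t
  have hS := inv_fixedBy (Ω := Ω) t
  set Cc := Subgroup.centralizer ({t} : Set G)
  have h2 : TwoTrans ↥(Img hS) ↥S := img_two hS I.mem.1 I.mem.2 fun c d hc hd hcd => D.cx.cent_trans I hc hd hcd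
  have hodd := odd_img_stab hS I.mem.1 I.mem.2 (T := T) (fun h => D.cx.kit.odd (h.trans (Dvd.intro _
    (Subgroup.relIndex_mul_relIndex T (Cc ⊓ stab2 G a b) (stab2 G a b) (fun x hx =>
      ⟨Subgroup.mem_centralizer_singleton_iff.mpr (D.cx.kit.comm hx D.memT), D.cx.kit.le hx⟩) inf_le_right))))
    fun y hy _ c hc => hall y hy c hc
  obtain ⟨g, hgfix, hgC⟩ := D.exists_shift
  have htC := hgC t (D.swap.comm t I.mem).symm
  set x := toImg hS ⟨g⁻¹ * t * g, htC⟩
  have x2 : x * x = 1 := toImg_sq hS fun c _ => by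
    show (g⁻¹ * t * g * (g⁻¹ * t * g)) • c = c
    rw [show g⁻¹ * t * g * (g⁻¹ * t * g) = g⁻¹ * (t * t) * g by group, I.sq, mul_one, inv_mul_cancel, one_smul]
  obtain ⟨p, r, hp, hr, hpr⟩ := (Set.one_lt_ncard_iff (Set.toFinite _)).mp (D.share I.mem I.sq I.ne_one)
  have hmove : ∀ d : Ω, z • d = d → t • d = d → ∃ h : g⁻¹ • d ∈ S, x • (⟨g⁻¹ • d, h⟩ : ↥S) = ⟨g⁻¹ • d, h⟩ := by
    intro d hd hdt
    refine ⟨(hgfix _).mp (by rw [smul_inv_smul]; exact hd), (toImg_fix hS).mpr ?_⟩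
    show (g⁻¹ * t * g) • g⁻¹ • d = g⁻¹ • d
    rw [mul_smul, mul_smul, smul_inv_smul, hdt]
  obtain ⟨hp', hxp⟩ := hmove p hp.1 hp.2
  obtain ⟨hr', hxr⟩ := hmove r hr.1 hr.2
  have hx1 := fix_le_one h2 (fun e => D.cx.ne (congrArg Subtype.val e)) hodd x2
    (fun e => hpr (MulAction.injective g⁻¹ (congrArg Subtype.val e))) hxp hxr
  refine I.ne_one (D.faithful_fix I.mem fun d hd => ?_)
  have hd' : g⁻¹ • d ∈ S := (hgfix _).mp (by rw [smul_inv_smul]; exact hd)
  have h3 := (toImg_eq_one hS).mp hx1 _ hd'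
  rwa [mul_smul, mul_smul, smul_inv_smul, inv_smul_eq_iff, smul_inv_smul] at h3

end CfsgLib.StabSimpAb
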