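import Cfsg.Agent.Lib.StabSimpAb.OddAbs
import Cfsg.Agent.Lib.StabSimpAb.Orders
import Cfsg.Agent.Lib.StabAlt5.Four
import Cfsg.Agent.Lib.EqualConj.Minimal

/-!
All involutions fixing at least two points, self-centralised: degree eleven.

Blueprint: `blueprint/S3400.md`, section 2 (GWX).
-/

set_option autoImplicit false
set_option linter.unusedSectionVars false
set_option linter.style.haveILetI false

namespace CfsgLib.StabSimpAb

open MulAction CfsgLib.StabAlt5
open Cfsg (oddCore)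

universe u v

/-- The quadratic relation has one solution. -/
theorem gw_arith {k u : ℕ} {e : ℤ} (he : e = 1 ∨ e = -1) (hk : 3 ≤ k) (hko : Odd k) (huo : Odd u)
    (h : ((u : ℤ) + 1) ^ 2 * k ^ 2 - 8 * u * k ^ 2 + ((u : ℤ) ^ 2 - 1) * k - 6 * e * u * k - 2 * u = 0) :
    k = 3 ∧ u = 3 := by
  have hdiv : (k : ℤ) ∣ 2 * u :=
    ⟨((u : ℤ) + 1) ^ 2 * k - 8 * u * k + ((u : ℤ) ^ 2 - 1) - 6 * e * u, by linear_combination -h⟩
  have hd : k ∣ u := (Nat.coprime_two_right.mpr hko).dvd_of_dvd_mul_left (by exact_mod_cast hdiv)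
  obtain ⟨j, rfl⟩ := hd
  have hjo : Odd j := (Nat.odd_mul.mp huo).2
  have hj : 1 ≤ j := hjo.pos
  push_cast at h
  have h' : (k : ℤ) ^ 3 * j ^ 2 - 6 * k ^ 2 * j + k + (k : ℤ) ^ 2 * j ^ 2 - 1 - 6 * e * k * j - 2 * j = 0 := by
    have hk0 : (k : ℤ) ≠ 0 := by omega
    refine mul_left_cancel₀ hk0 ?_
    rw [mul_zero, ← h]
    ring
  have hkz : (3 : ℤ) ≤ k := by exact_mod_cast hk
  have hjz : (1 : ℤ) ≤ j := by exact_mod_cast hj
  have hez : e ≤ 1 ∧ -1 ≤ e := by rcases he with rfl | rfl <;> norm_num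
  have hkj : (k : ℤ) * j ≤ 8 := by
    by_contra hlt
    push Not at hlt
    have h1 : 9 * ((k : ℤ) ^ 2 * j) ≤ (k : ℤ) * j * ((k : ℤ) ^ 2 * j) :=
      mul_le_mul_of_nonneg_right (by omega) (by positivity)
    nlinarith [mul_le_mul_of_nonneg_left hez.1 (by positivity : (0 : ℤ) ≤ k * j),
      mul_le_mul_of_nonneg_right hkz (by positivity : (0 : ℤ) ≤ (k : ℤ) * j)]
  have hk8 : k * j ≤ 8 := by exact_mod_cast hkj
  have hk8' : k ≤ 8 := le_trans (Nat.le_mul_of_pos_right k (by omega)) hk8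
  have hj2 : j ≤ 2 := by
    by_contra hlt
    have h9 : 9 ≤ k * j := Nat.mul_le_mul hk (show 3 ≤ j by omega)
    omega
  rw [Nat.odd_iff] at hjo hko
  obtain rfl : j = 1 := by omega
  rcases (show k = 3 ∨ k = 5 ∨ k = 7 by omega) with rfl | rfl | rfl <;> rcases he with rfl | rfl <;>
    first
    | exact ⟨rfl, rfl⟩
    | (exfalso; norm_num at h')

variable {Y : Type u} [Group Y] {Δ : Type v} [MulAction Y Δ]
variable [Finite Y] [Finite Δ] [FaithfulSMul Y Δ] {z v : Y} {A B : Δ}

omit [MulAction Y Δ] [Finite Δ] [FaithfulSMul Y Δ] in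
/-- A group with elementary abelian Sylow 2-subgroup: 2-subgroups are abelian. -/
theorem comm_of_sq_sub {M : Subgroup Y} (hsq : ∀ x ∈ M, x * x = 1) {x y : Y} (hx : x ∈ M) (hy : y ∈ M) :
    x * y = y * x := by
  have h := hsq _ (mul_mem hx hy)
  calc x * y = (x * y)⁻¹ := eq_inv_of_mul_eq_one_left h
    _ = y * x := by rw [_root_.mul_inv_rev, inv_of_sq (hsq x hx), inv_of_sq (hsq y hy)]

/-- GWX. -/
theorem FourHyp.degree_eleven (H : FourHyp z v A B)
    (hall : ∀ x : Y, x * x = 1 → x ≠ 1 → 2 ≤ (fixedBy Δ x).ncard) {u : ℕ}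
    (hu : Nat.card ↥(stabilizer Y A ⊓ stabilizer Y B) = 2 * u) : Nat.card Δ = 11 ∧ u = 3 := by
  classical
  haveI : Fact (Nat.Prime 2) := ⟨Nat.prime_two⟩
  obtain ⟨u', huo, hD, hJ⟩ := H.card_D
  obtain rfl : u = u' := by omega
  set m := Nat.card Δ with hm
  set k := (fixedBy Δ v).ncard with hk
  set D := stabilizer Y A ⊓ stabilizer Y B with hDdef
  have hz1 : z ≠ 1 := fun e => H.ne (by have := H.za; rwa [e, one_smul] at this)
  have htwo : ∀ x : Y, x * x = 1 → x ≠ 1 → ∃ g : Y, g * x * g⁻¹ = v := by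
    intro x x2 x1
    obtain ⟨c, d, hc, hd, hcd⟩ := (Set.one_lt_ncard_iff (Set.toFinite _)).mp (hall x x2 x1)
    obtain ⟨g, -, -, hg⟩ := H.conj_v x2 x1 hcd hc hd
    exact ⟨g, hg⟩
  have hfixk : ∀ x : Y, x * x = 1 → x ≠ 1 → (fixedBy Δ x).ncard = k := fun x x2 x1 => by
    obtain ⟨g, hg⟩ := htwo x x2 x1
    rw [hk, ← hg, ncard_fixedBy_conj]
  have hk3 : 3 ≤ k := by
    have h1 := hall v H.vsq H.vne
    have h2 := odd_fixedBy H.vsq H.odd
    rw [Nat.odd_iff] at h2
    omega
  have hko : Odd k := odd_fixedBy H.vsq H.odd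
  -- counting involutions
  set I : Set Y := {x | x * x = 1 ∧ x ≠ 1} with hI
  have hIc : ∀ g x : Y, x ∈ I → g * x * g⁻¹ ∈ I := fun g x hx =>
    ⟨by rw [conj_mul, hx.1, mul_one, mul_inv_cancel], fun e => hx.2 (conj_eq_one_iff.mp e)⟩
  have e1 := fix_count H.two H.ne I hIc fun x hx => hfixk x hx.1 hx.2
  have e2 := swap_count H.two H.ne I hIc (fun x hx => hx.1) fun x hx => hfixk x hx.1 hx.2
  set J : Set Y := {x : Y | x * x = 1 ∧ x ≠ 1 ∧ x • A = A ∧ x • B = B} with hJdef
  have hfa : {x : Y | x ∈ I ∧ x • A = A ∧ x • B = B} = J := by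
    ext x
    exact ⟨fun h => ⟨h.1.1, h.1.2, h.2⟩, fun h => ⟨⟨h.1, h.2.1⟩, h.2.2⟩⟩
  have hzJ : z ∉ (z * ·) '' J := by
    rintro ⟨j, hj, e⟩
    exact hj.2.1 (mul_eq_left.mp e)
  have hsw : {x : Y | x ∈ I ∧ x • A = B ∧ x • B = A} = insert z ((z * ·) '' J) := by
    ext x
    constructor
    · rintro ⟨hx, hA, hB⟩
      rcases H.swap_cases hx.1 hA hB with e | hj
      · exact Or.inl e
      · exact Or.inr ⟨z * x, hj, by show z * (z * x) = x; rw [← mul_assoc, H.zsq, one_mul]⟩
    · rintro (rfl | ⟨j, ⟨j2, j1, jA, jB⟩, rfl⟩)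
      · exact ⟨⟨H.zsq, hz1⟩, H.za, H.zb⟩
      · refine ⟨⟨?_, fun e => ?_⟩, by rw [mul_smul, jA, H.za], by rw [mul_smul, jB, H.zb]⟩
        · calc z * j * (z * j) = z * (j * z) * j := by group
            _ = z * z * (j * j) := by rw [H.zc j jA jB]; group
            _ = 1 := by rw [H.zsq, j2, one_mul]
        · have e' : z * j = 1 := e
          rw [eq_inv_of_mul_eq_one_left e', inv_of_sq j2] at hz1
          exact H.ne (by have := H.za; rwa [eq_inv_of_mul_eq_one_left e', inv_of_sq j2, jA] at this)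
  rw [hfa, hJ] at e1
  rw [hsw, Set.ncard_insert_of_notMem hzJ, Set.ncard_image_of_injective _ (mul_right_injective z), hJ] at e2
  have hIpos : 0 < I.ncard := (Set.ncard_pos (Set.toFinite _)).mpr ⟨v, H.vsq, H.vne⟩
  have hrel : u * (m - k) = (u + 1) * (k * (k - 1)) := by
    refine Nat.eq_of_mul_eq_mul_left hIpos ?_
    calc I.ncard * (u * (m - k)) = u * (I.ncard * (m - k)) := by ring
      _ = (u + 1) * (m * (m - 1) * u) := by rw [e2]; ring
      _ = _ := by rw [← e1]; ring
  have hkm : k ≤ m := by rw [hk, hm, ← Set.ncard_univ]; exact Set.ncard_le_ncard (Set.subset_univ _)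
  have hmrel : u * m = k * ((u + 1) * k - 1) := by
    have h := hrel
    zify [hkm, show 1 ≤ k by omega, show 1 ≤ (u + 1) * k from Nat.mul_pos (by omega) (by omega)] at h ⊢
    linear_combination h
  have hm1 : 1 ≤ m := by omega
  have hm1rel : u * (m - 1) = (k - 1) * ((u + 1) * k + u) := by
    have h := hmrel
    zify [hm1, show 1 ≤ k by omega, show 1 ≤ (u + 1) * k from Nat.mul_pos (by omega) (by omega)] at h ⊢
    linear_combination h
  -- the orders
  have hY : Nat.card Y = m * ((m - 1) * (2 * u)) := by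
    have h := (card_of_pairs (⊤ : Subgroup Y) (Δ := (Set.univ : Set Δ)) (a := A) (b := B) trivial trivial H.ne
      (fun _ _ _ _ => trivial) fun c d _ _ hcd => by
        obtain ⟨g, hg⟩ := H.two A B c d H.ne hcd
        exact ⟨g, trivial, hg⟩).1
    rw [Subgroup.card_top, Set.ncard_univ, top_inf_eq, ← hDdef, hu] at h
    exact h
  set C := Subgroup.centralizer ({v} : Set Y) with hC
  have hctrans : ∀ c d : Δ, v • c = c → v • d = d → c ≠ d → ∃ g ∈ C, g • A = c ∧ g • B = d := by
    intro c d hc hd hcd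
    obtain ⟨g, hg, hgA, hgB⟩ := witt_elem H.two H.ne (t := v) (fun g hA hB => by
      obtain ⟨d, hdA, hdB, he⟩ := H.cls (g * v * g⁻¹) (by rw [conj_mul, H.vsq, mul_one, mul_inv_cancel])
        (fun e => H.vne (conj_eq_one_iff.mp e)) hA hB
      exact ⟨d, hdA, hdB, he.symm⟩) hcd hc hd
    exact ⟨g, Subgroup.mem_centralizer_singleton_iff.mpr hg, hgA, hgB⟩
  have hCD : Nat.card ↥(C ⊓ D) = 2 := by
    show Nat.card ↥((C ⊓ D : Subgroup Y) : Set Y) = 2
    rw [Nat.card_coe_set_eq, show ((C ⊓ D : Subgroup Y) : Set Y) = {1, v} from ?_, Set.ncard_pair H.vne.symm]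
    ext x
    constructor
    · exact fun hx => H.self x hx.2.1 hx.2.2 (Subgroup.mem_centralizer_singleton_iff.mp hx.1)
    · rintro (rfl | rfl)
      · exact one_mem _
      · exact ⟨Subgroup.mem_centralizer_singleton_iff.mpr rfl, H.va, H.vb⟩
  obtain ⟨hCc, hCA⟩ := card_of_pairs C (a := A) (b := B) (Δ := fixedBy Δ v) H.va H.vb H.ne (inv_fixedBy v) hctrans
  rw [← hDdef, hCD, ← hk] at hCc hCA
  -- no element squares to an involution
  have hnoroot : ∀ y : Y, y * y ≠ v := by
    intro y hy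
    have hyv : y * v = v * y := by rw [← hy, mul_assoc]
    by_cases hfix : y • A = A ∧ y • B = B
    · rcases H.self y hfix.1 hfix.2 hyv with rfl | rfl
      · exact H.vne (by rw [← hy, one_mul])
      · exact H.vne (by rw [← hy, H.vsq])
    obtain ⟨c, hc, hcy⟩ : ∃ c, v • c = c ∧ y • c ≠ c := by
      by_cases hA : y • A = A
      · exact ⟨B, H.vb, fun hB => hfix ⟨hA, hB⟩⟩
      · exact ⟨A, H.va, hA⟩
    obtain ⟨g, hg, hgA, hgB⟩ := hctrans c (y • c) hc (fix_comm hyv.symm hc) (Ne.symm hcy)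
    have hgv : g * v = v * g := Subgroup.mem_centralizer_singleton_iff.mp hg
    set y' := g⁻¹ * y * g with hy'
    have hA' : y' • A = B := by rw [hy', mul_smul, mul_smul, hgA, ← hgB, inv_smul_smul]
    have hB' : y' • B = A := by
      rw [hy', mul_smul, mul_smul, hgB, ← mul_smul y y, hy, hc, ← hgA, inv_smul_smul]
    have hy2 : y' * y' = v := by
      calc y' * y' = g⁻¹ * (y * y) * g := by rw [hy']; group
        _ = v := by rw [hy, mul_assoc, ← hgv, inv_mul_cancel_left]
    have hdA : (z * y') • A = A := by rw [mul_smul, hA', H.zb]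
    have hdB : (z * y') • B = B := by rw [mul_smul, hB', H.za]
    have hzv : z * v = v * z := (H.zc v H.va H.vb).symm
    have hcv : z * y' * v = v * (z * y') := by
      rw [show z * y' * v = z * (y' * v) by group, ← hy2, show y' * (y' * y') = y' * y' * y' by group, hy2,
        ← mul_assoc, hzv, mul_assoc]
    have e : y' = z * (z * y') := by rw [← mul_assoc, H.zsq, one_mul]
    rcases H.self _ hdA hdB hcv with h | h
    · refine H.vne ?_
      rw [← hy2, e, h, mul_one, H.zsq]
    · refine H.vne ?_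
      rw [← hy2, e, h]
      calc z * v * (z * v) = z * (v * z) * v := by group
        _ = z * z * (v * v) := by rw [← hzv]; group
        _ = 1 := by rw [H.zsq, H.vsq, one_mul]
  have hroot : ∀ y : Y, y ^ 4 = 1 → y * y = 1 := by
    intro y hy
    by_contra hne
    obtain ⟨g, hg⟩ := htwo (y * y) (by rw [← hy]; simp only [pow_succ, pow_zero, one_mul, mul_assoc]) hne
    exact hnoroot (g * y * g⁻¹) (by rw [conj_mul, hg])
  have hexp : ∀ (j : ℕ) (y : Y), y ^ 2 ^ j = 1 → y * y = 1 := by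
    intro j
    induction j with
    | zero => intro y hy; rw [pow_zero, pow_one] at hy; rw [hy, one_mul]
    | succ j ih =>
      intro y hy
      refine hroot y ?_
      have := ih (y ^ 2) (by rw [← pow_mul, ← pow_succ']; exact hy)
      rw [← this, ← pow_add]
  have hsq2 : ∀ P : Subgroup Y, IsPGroup 2 P → ∀ x ∈ P, x * x = 1 := fun P hP x hx => by
    obtain ⟨j, hj⟩ := hP ⟨x, hx⟩
    exact hexp j x (congrArg Subtype.val hj)
  -- the four group at `A`
  set CA := C ⊓ stabilizer Y A with hCAdef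
  obtain ⟨S0⟩ : Nonempty (Sylow 2 ↥CA) := inferInstance
  set S : Subgroup Y := (S0 : Subgroup ↥CA).map CA.subtype with hS
  have hS2 : IsPGroup 2 S := S0.2.map _
  have hSle : S ≤ CA := Subgroup.map_subtype_le _
  have hSc : Nat.card S = 2 ^ (Nat.card CA).factorization 2 := by
    rw [hS, Subgroup.card_map_of_injective CA.subtype_injective, Sylow.card_eq_multiplicity]
  have hvC : v ∈ CA := ⟨Subgroup.mem_centralizer_singleton_iff.mpr rfl, H.va⟩
  have hbound : Nat.card S ≤ 4 := by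
    by_contra hlt
    obtain ⟨e, he, he1, hev⟩ : ∃ e ∈ S, e ≠ 1 ∧ e ≠ v := by
      by_contra hall'
      push Not at hall'
      have hsub : (S : Set Y) ⊆ {1, v} := fun x hx => by
        by_cases hx1 : x = 1
        · exact Or.inl hx1
        · exact Or.inr (hall' x hx hx1)
      have := Set.ncard_le_ncard hsub (Set.toFinite _)
      rw [Set.ncard_pair H.vne.symm, ← Nat.card_coe_set_eq] at this
      change Nat.card S ≤ 2 at this
      omega
    have hsub : (S : Set Y) ⊆ {1, v, e, v * e} := by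
      intro f hf
      by_cases hf1 : f = 1
      · exact Or.inl hf1
      by_cases hfv : f = v
      · exact Or.inr (Or.inl hfv)
      have he' := hSle he
      have hf' := hSle hf
      rcases H.rank_at H.vsq H.vne (hall v H.vsq H.vne) (hsq2 S hS2 e he) (hsq2 S hS2 f hf)
        (Subgroup.mem_centralizer_singleton_iff.mp he'.1) (Subgroup.mem_centralizer_singleton_iff.mp hf'.1) H.va
        he'.2 hf'.2 he1 hev hf1 hfv with h | h
      · exact Or.inr (Or.inr (Or.inl h.symm))
      · refine Or.inr (Or.inr (Or.inr ?_))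
        show f = v * e
        rw [h, ← mul_assoc, H.vsq, one_mul]
    have := Set.ncard_le_ncard hsub (Set.toFinite _)
    have h4 : ({1, v, e, v * e} : Set Y).ncard ≤ 4 := by
      refine (Set.ncard_insert_le _ _).trans (Nat.succ_le_succ ?_)
      refine (Set.ncard_insert_le _ _).trans (Nat.succ_le_succ ?_)
      exact (Set.ncard_insert_le _ _).trans (by rw [Set.ncard_singleton])
    rw [← Nat.card_coe_set_eq] at this
    change Nat.card S ≤ _ at this
    omega
  -- 2-parts
  obtain ⟨i, hi⟩ : 4 ∣ Nat.card CA := by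
    obtain ⟨j, hj⟩ := hko
    exact ⟨j, by rw [hCA, hj, Nat.add_sub_cancel]; ring⟩
  have hS4 : Nat.card S = 4 := by
    have h1 : 2 ≤ (Nat.card CA).factorization 2 :=
      (Nat.prime_two.pow_dvd_iff_le_factorization Nat.card_pos.ne').mp ⟨i, by rw [hi]; norm_num⟩
    have h2 : 4 ≤ Nat.card S := hSc ▸ (show 4 = 2 ^ 2 by norm_num) ▸ Nat.pow_le_pow_right (by norm_num) h1
    omega
  have hio : Odd i := by
    rw [← Nat.not_even_iff_odd]
    rintro ⟨i', rfl⟩
    have h1 : 3 ≤ (Nat.card CA).factorization 2 :=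
      (Nat.prime_two.pow_dvd_iff_le_factorization Nat.card_pos.ne').mp ⟨i', by rw [hi]; ring⟩
    have h2 : 8 ≤ Nat.card S := hSc ▸ (show 8 = 2 ^ 3 by norm_num) ▸ Nat.pow_le_pow_right (by norm_num) h1
    omega
  have hSidx : ¬ 2 ∣ S.index := by
    intro h2
    have h := Subgroup.card_mul_index S
    rw [hS4, hY] at h
    obtain ⟨c, hc⟩ := h2
    rw [hc] at h
    have h3 : u * (4 * (2 * c)) = 4 * i * ((k * ((u + 1) * k - 1)) * ((u + 1) * k + u)) := by
      rw [h, ← hi, hCA, ← hmrel]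
      calc u * (m * ((m - 1) * (2 * u))) = (u * m) * (u * (m - 1)) * 2 := by ring
        _ = _ := by rw [hm1rel]; ring
    have heven : Even (i * ((k * ((u + 1) * k - 1)) * ((u + 1) * k + u))) :=
      ⟨u * c, Nat.eq_of_mul_eq_mul_left (show 0 < 4 by norm_num) (by linarith)⟩
    have ho : Even ((u + 1) * k) := (Nat.even_add_one.mpr (Nat.not_even_iff_odd.mpr huo)).mul_right k
    rw [← Nat.not_odd_iff_even] at heven
    refine heven (hio.mul ((hko.mul ?_).mul (ho.add_odd huo)))
    obtain ⟨j, hj⟩ := ho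
    have : 0 < (u + 1) * k := Nat.mul_pos (by omega) (by omega)
    exact ⟨j - 1, by omega⟩
  let T : Sylow 2 Y := hS2.toSylow hSidx
  have hT : ((T : Subgroup Y)) = S := rfl
  have hsqT : ∀ x ∈ (T : Subgroup Y), x * x = 1 := hsq2 S hS2
  obtain ⟨s, hsS, hs1, hsv⟩ : ∃ s ∈ S, s ≠ 1 ∧ s ≠ v := by
    by_contra hall'
    push Not at hall'
    have hsub : (S : Set Y) ⊆ {1, v} := fun x hx => by
      by_cases hx1 : x = 1
      · exact Or.inl hx1
      · exact Or.inr (hall' x hx hx1)
    have := Set.ncard_le_ncard hsub (Set.toFinite _)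
    rw [Set.ncard_pair H.vne.symm, ← Nat.card_coe_set_eq] at this
    change Nat.card S ≤ 2 at this
    omega
  have hs2 : s * s = 1 := hsq2 S hS2 s hsS
  have hsv' : s * v = v * s := Subgroup.mem_centralizer_singleton_iff.mp (hSle hsS).1
  have hsA : s • A = A := (hSle hsS).2
  have honly : ∀ c : Δ, v • c = c → s • c = c → c = A := fun c hc hsc => by
    by_contra hne
    rcases H.self_of H.vsq H.vne hne hc H.va hsv' hsc hsA with h | h
    · exact hs1 h
    · exact hsv h
  have hSmem : ∀ x, x ∈ S ↔ x = 1 ∨ x = v ∨ x = s ∨ x = v * s := by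
    have hvS : v ∈ S := by
      obtain ⟨Q, hQ⟩ := (show IsPGroup 2 (Subgroup.zpowers (⟨v, hvC⟩ : CA)) from IsPGroup.of_card (n := 1) (by
        rw [Nat.card_zpowers, pow_one]
        exact orderOf_eq_prime (Subtype.ext (by show v ^ 2 = 1; rw [pow_two]; exact H.vsq))
          fun e => H.vne (congrArg Subtype.val e))).exists_le_sylow
      obtain ⟨g, hg⟩ := MulAction.exists_smul_eq CA Q S0
      refine ⟨⟨v, hvC⟩, ?_, rfl⟩
      rw [← hg, Sylow.coe_subgroup_smul]
      refine ⟨_, hQ (Subgroup.mem_zpowers _), Subtype.ext ?_⟩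
      show (g : Y) * v * (g : Y)⁻¹ = v
      rw [Subgroup.mem_centralizer_singleton_iff.mp g.2.1, mul_inv_cancel_right]
    have hsub : ({1, v, s, v * s} : Set Y) ⊆ (S : Set Y) := by
      rintro x (rfl | rfl | rfl | rfl)
      exacts [one_mem _, hvS, hsS, mul_mem hvS hsS]
    have d1 : v * s ≠ 1 := fun e => hsv (by rw [eq_inv_of_mul_eq_one_right e, inv_of_sq H.vsq])
    have heq : ({1, v, s, v * s} : Set Y) = (S : Set Y) := Set.eq_of_subset_of_ncard_le hsub (by
      rw [Set.ncard_insert_of_notMem (by simp [H.vne.symm, hs1.symm, d1.symm]),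
        Set.ncard_insert_of_notMem (by simp [Ne.symm hsv, hs1]), Set.ncard_insert_of_notMem (by simp [H.vne]),
        Set.ncard_singleton, ← Nat.card_coe_set_eq]
      exact hS4.le)
    intro x
    rw [← SetLike.mem_coe, ← heq]
    rfl
  have hvS : v ∈ S := (hSmem v).mpr (Or.inr (Or.inl rfl))
  -- the odd core is trivial
  have hcore : oddCore Y = ⊥ := by
    by_contra hne
    obtain ⟨P, hPn, hPodd, -, htr, hreg⟩ := regular_of_odd H.two (oddCore Y) CfsgLib.odd_card_oddCore hne
    haveI := hPn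
    have h := four_formula hPodd H.vsq hs2 hsv'.symm H.vne hs1 (Ne.symm hsv)
      (fun x hx => hPn.conj_mem x hx v) (fun x hx => hPn.conj_mem x hx s) hSmem
    rw [card_cent_regular P htr hreg H.va, card_cent_regular P htr hreg hsA,
      card_cent_regular P htr hreg (g := v * s) (a := A) (by rw [mul_smul, hsA, H.va]),
      hfixk v H.vsq H.vne, hfixk s hs2 hs1, hfixk (v * s) (by
        calc v * s * (v * s) = v * (s * v) * s := by group
          _ = v * v * (s * s) := by rw [hsv']; group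
          _ = 1 := by rw [H.vsq, hs2, one_mul])
        (fun e => hsv (by rw [eq_inv_of_mul_eq_one_right e, inv_of_sq H.vsq]))] at h
    have hone : (P ⊓ Subgroup.centralizer (S : Set Y) : Subgroup Y) = ⊥ := (Subgroup.eq_bot_iff_forall _).mpr
      fun x hx => hreg x hx.1 A (honly _
        (fix_comm (Subgroup.mem_centralizer_iff.mp hx.2 v hvS) H.va)
        (fix_comm (Subgroup.mem_centralizer_iff.mp hx.2 s hsS) hsA))
    have hcard := card_cent_regular P htr hreg (g := (1 : Y)) (a := A) (one_smul _ _)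
    rw [show fixedBy Δ (1 : Y) = Set.univ from Set.eq_univ_of_forall fun c => one_smul Y c, Set.ncard_univ,
      show Subgroup.centralizer ({1} : Set Y) = ⊤ from (Subgroup.eq_top_iff' _).mpr fun x =>
        Subgroup.mem_centralizer_singleton_iff.mpr (by rw [mul_one, one_mul]), inf_top_eq, ← hm] at hcard
    rw [hone, Subgroup.card_bot, one_pow, mul_one, hcard] at h
    have h1 := hmrel
    rw [h] at h1
    have h2 : u * (k * k) = (u + 1) * k - 1 :=
      Nat.eq_of_mul_eq_mul_left (show 0 < k by omega) (by rw [← h1]; ring)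
    have h3 : (u + 1) * k ≤ u * (k * k) := by
      calc (u + 1) * k ≤ u * k * k := Nat.mul_le_mul_right k (by
            have := Nat.mul_le_mul_left u hk3
            have := huo.pos
            omega)
        _ = _ := by ring
    have : 0 < (u + 1) * k := Nat.mul_pos (by omega) (by omega)
    omega
  -- the socle
  have hconj : ∀ p r : Y, orderOf p = 2 → orderOf r = 2 → ∃ c : Y, c * p * c⁻¹ = r := by
    intro p r hp hr
    have key : ∀ x : Y, orderOf x = 2 → x * x = 1 ∧ x ≠ 1 := fun x hx =>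
      ⟨by rw [← pow_two, ← hx, pow_orderOf_eq_one], fun e => by rw [e, orderOf_one] at hx; omega⟩
    obtain ⟨g, hg⟩ := htwo p (key p hp).1 (key p hp).2
    obtain ⟨g', hg'⟩ := htwo r (key r hr).1 (key r hr).2
    refine ⟨g'⁻¹ * g, ?_⟩
    calc g'⁻¹ * g * p * (g'⁻¹ * g)⁻¹ = g'⁻¹ * (g * p * g⁻¹) * g' := by group
      _ = r := by rw [hg, ← hg']; group
  have hnn : ¬ (T : Subgroup Y).Normal := by
    intro hn
    obtain ⟨g, hg⟩ := H.two.transitive H.ne B
    have h1 := hn.conj_mem v (show v ∈ (T : Subgroup Y) from hvS) g⁻¹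
    have h2 : ∀ x ∈ S, x • B = B := by
      intro x hx
      have h3 : g⁻¹ * x * g⁻¹⁻¹ ∈ S := hn.conj_mem x hx g⁻¹
      have h4 : (g⁻¹ * x * g⁻¹⁻¹) • A = A := (hSle h3).2
      rw [inv_inv, mul_smul, mul_smul, inv_smul_eq_iff, hg] at h4
      exact h4
    exact H.ne (honly B H.vb (h2 s hsS)).symm
  obtain ⟨K, hKn, hTK, hKs, -, hTKn⟩ := CfsgLib.EqualConj.exists_simple_of_invol_conj (T := T) hcore hconj hsqT
    (show 4 ≤ Nat.card S by omega) hnn
  haveI := hKn
  haveI := hKs
  have hna : ¬ IsMulCommutative K := fun hc => hTKn (by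
    haveI := hc
    exact ⟨fun x hx g => by rwa [show g * x * g⁻¹ = x by rw [setLike_mul_comm g.2 x.2 |> (fun e => (Subtype.ext e : g * x = x * g)), mul_inv_cancel_right]]⟩)
  have hab : ∀ S' : Sylow 2 K, IsMulCommutative (S' : Subgroup K) := fun S' =>
    ⟨⟨fun x y => Subtype.ext (comm_of_sq_sub (fun w hw => Subtype.ext (by
      have := hsq2 _ (S'.2.map K.subtype) (w : Y) ⟨w, hw, rfl⟩
      exact this)) x.2 y.2)⟩⟩
  have hkit : Kit K S := by
    have h := kit_of_good hKs hna ((WalterAb.listed_of_P (fun X _ _ => Walter.p_all X) K hKs hna hab).good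
      (T.subtype hTK))
    rwa [show ((T.subtype hTK : Sylow 2 K) : Subgroup K).map K.subtype = S from
      Subgroup.map_subgroupOf_eq_of_le hTK] at h
  obtain ⟨r, e, he, hK2, hKv⟩ : ∃ (r : ℕ) (e : ℤ), (e = 1 ∨ e = -1) ∧
      (Nat.card K : ℤ) * 2 = (r : ℤ) * (((r : ℤ) + e) * ((r : ℤ) - e)) ∧
      (Nat.card ↥(K ⊓ Subgroup.centralizer ({v} : Set Y)) : ℤ) = (r : ℤ) - e := by
    rcases hkit.orders with ⟨F, iF, iFt, hq8, hq5, -, hH, -, hc⟩ | ⟨n, hn, hn4, hH, hc⟩ |
      ⟨_, _, _, _, h8, _⟩ | ⟨h8, _⟩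
    · have hc' := hc v hvS H.vne
      have hH' : (Nat.card K : ℤ) * 2 = (Fintype.card F : ℤ) * ((Fintype.card F : ℤ) ^ 2 - 1) := by
        have h := congrArg (Nat.cast (R := ℤ)) hH
        push_cast [Nat.cast_sub (Nat.one_le_pow 2 (Fintype.card F) (by omega))] at h
        linarith
      by_cases h4 : Fintype.card F % 4 = 1
      · rw [if_pos h4] at hc'
        exact ⟨_, 1, Or.inl rfl, by rw [hH']; ring, by rw [hc']; push_cast [Nat.cast_sub (show 1 ≤ Fintype.card F by omega)]; rfl⟩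
      · rw [if_neg h4] at hc'
        exact ⟨_, -1, Or.inr rfl, by rw [hH']; ring, by rw [hc']; push_cast; ring⟩
    · obtain rfl : n = 2 := Nat.pow_right_injective le_rfl (show 2 ^ n = 2 ^ 2 by rw [← hn4, hS4])
      refine ⟨5, 1, Or.inl rfl, ?_, by rw [hc v hvS H.vne]; norm_num⟩
      rw [hH]; norm_num
    · rw [hS4] at h8; norm_num at h8
    · rw [hS4] at h8; norm_num at h8
  -- the centraliser of `v`
  set f := K.index with hf
  set N := K ⊓ C with hN
  have hCN : Nat.card C = f * Nat.card N := card_supplement K C fun g => by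
    obtain ⟨l, hl, hle⟩ := hkit.conj_all (hKn.conj_mem v (hTK hvS) g) (hTK hvS)
      (by rw [conj_mul, H.vsq, mul_one, mul_inv_cancel]) (fun h => H.vne (conj_eq_one_iff.mp h)) H.vsq H.vne
    refine ⟨l, hl, Subgroup.mem_centralizer_singleton_iff.mpr (mul_inv_eq_iff_eq_mul.mp ?_)⟩
    exact (by group : l * g * v * (l * g)⁻¹ = l * (g * v * g⁻¹) * l⁻¹).trans hle
  have hSN : S ≤ N := le_inf hTK fun x hx => (hSle hx).1
  have hNA : N ⊓ stabilizer Y A = S := by
    refine le_antisymm (fun d hd => ?_) (le_inf hSN fun x hx => (hSle hx).2)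
    have hdv : d * v = v * d := Subgroup.mem_centralizer_singleton_iff.mp hd.1.2
    have hnorm : ∀ x ∈ S, d * x * d⁻¹ ∈ S := by
      have hds : d * s * d⁻¹ = s ∨ d * s * d⁻¹ = v * s := by
        have hd2 : d * s * d⁻¹ * (d * s * d⁻¹) = 1 := by rw [conj_mul, hs2, mul_one, mul_inv_cancel]
        have hdc : d * s * d⁻¹ * v = v * (d * s * d⁻¹) := by
          have e' : d⁻¹ * v = v * d⁻¹ := by rw [inv_mul_eq_iff_eq_mul, ← mul_assoc, hdv, mul_inv_cancel_right]
          calc d * s * d⁻¹ * v = d * s * (d⁻¹ * v) := by group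
            _ = d * (s * v) * d⁻¹ := by rw [e']; group
            _ = d * v * s * d⁻¹ := by rw [hsv']; group
            _ = v * (d * s * d⁻¹) := by rw [hdv]; group
        refine (H.rank_at H.vsq H.vne (hall v H.vsq H.vne) hd2 hs2 hdc hsv' H.va
          (conj_fix_of_fix hd.2 hsA) hsA (fun h => hs1 (conj_eq_one_iff.mp h)) (fun h => hsv ?_) hs1 hsv)
        have h' : d * s = v * d := by rw [← h]; group
        rw [← hdv] at h'
        exact mul_left_cancel h'
      intro x hx
      rcases (hSmem x).mp hx with rfl | rfl | rfl | rfl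
      · rw [mul_one, mul_inv_cancel]; exact one_mem _
      · rw [hdv, mul_inv_cancel_right]; exact hvS
      · rcases hds with h | h <;> rw [h]
        exacts [hsS, mul_mem hvS hsS]
      · rw [show d * (v * s) * d⁻¹ = d * v * d⁻¹ * (d * s * d⁻¹) by group, hdv, mul_inv_cancel_right]
        rcases hds with h | h <;> rw [h]
        exacts [mul_mem hvS hsS, mul_mem hvS (mul_mem hvS hsS)]
    have hd2 : ∀ x ∈ S, d * d * x = x * (d * d) := by
      have h1 : d * d * s * (d * d)⁻¹ = s := by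
        have hs' := hnorm s hsS
        rcases (hSmem _).mp hs' with h | h | h | h
        · exact absurd (conj_eq_one_iff.mp h) hs1
        · refine absurd ?_ hsv
          have h' : d * s = v * d := by rw [← h]; group
          rw [← hdv] at h'
          exact mul_left_cancel h'
        · calc d * d * s * (d * d)⁻¹ = d * (d * s * d⁻¹) * d⁻¹ := by group
            _ = s := by rw [h, h]
        · calc d * d * s * (d * d)⁻¹ = d * (d * s * d⁻¹) * d⁻¹ := by group
            _ = d * (v * s) * d⁻¹ := by rw [h]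
            _ = d * v * d⁻¹ * (d * s * d⁻¹) := by group
            _ = s := by rw [hdv, mul_inv_cancel_right, h, ← mul_assoc, H.vsq, one_mul]
      have h2 : d * d * v = v * (d * d) := by
        rw [mul_assoc, hdv, ← mul_assoc, hdv, mul_assoc]
      have h3 : d * d * s = s * (d * d) := mul_inv_eq_iff_eq_mul.mp h1
      intro x hx
      rcases (hSmem x).mp hx with rfl | rfl | rfl | rfl
      · rw [mul_one, one_mul]
      · exact h2
      · exact h3
      · rw [← mul_assoc, h2, mul_assoc v, h3, ← mul_assoc]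
    have hd4 : d * d ∈ S := hkit.self _ (mul_mem hd.1.1 hd.1.1) hd2
    have hsqd : d * d = 1 := hexp 2 d (by
      rw [show (2 : ℕ) ^ 2 = 2 + 2 by norm_num, pow_add, pow_two]; exact hsq2 S hS2 _ hd4)
    -- an involution of `K` normalising `S`
    set P : Subgroup Y := Subgroup.zpowers d ⊔ S with hP
    have hPn : Subgroup.zpowers d ≤ Subgroup.normalizer (S : Set Y) :=
      Subgroup.zpowers_le.mpr (mem_normalizer_of_le hnorm)
    have hd1 : IsPGroup 2 (Subgroup.zpowers d) := fun y => ⟨1, Subtype.ext (by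
      obtain ⟨y, l, rfl⟩ := y
      show (d ^ l) ^ 2 ^ 1 = 1
      rw [pow_one, ← zpow_natCast, ← zpow_mul, mul_comm, zpow_mul, zpow_natCast, pow_two, hsqd, one_zpow])⟩
    have hP2 : IsPGroup 2 P := hd1.to_sup_of_normal_right' hS2 hPn
    obtain ⟨l, -, hl⟩ := hkit.conj_into (sup_le (Subgroup.zpowers_le.mpr hd.1.1) hkit.le) hP2
    have hle : (P.map (MulAut.conj l).toMonoidHom) ≤ S := by
      rintro _ ⟨x, hx, rfl⟩
      exact hl x hx
    have hc := Subgroup.card_le_of_le hle
    rw [Subgroup.card_map_of_injective (MulEquiv.injective _)] at hc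
    have : S = P := Subgroup.eq_of_le_of_card_ge le_sup_right hc
    rw [this]
    exact Subgroup.mem_sup_left (Subgroup.mem_zpowers d)
  haveI hNn : (N.subgroupOf C).Normal := ⟨fun x hx g =>
    ⟨hKn.conj_mem _ hx.1 (g : Y), C.mul_mem (C.mul_mem g.2 x.2) (C.inv_mem g.2)⟩⟩
  have horb : ∀ c, v • c = c → ∃ g ∈ N, g • A = c := by
    obtain ⟨x, hx, hxA⟩ : ∃ x ∈ N, x • A ≠ A := by
      by_contra hall'
      push Not at hall'
      obtain ⟨g, hg, hgA, hgB⟩ := hctrans B A H.vb H.va H.ne.symm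
      refine H.ne (honly B H.vb ?_).symm
      have hxN : g⁻¹ * s * g ∈ N := by
        have h1 := hNn.conj_mem ⟨s, (hSle hsS).1⟩ (show s ∈ N from hSN hsS) ⟨g⁻¹, inv_mem hg⟩
        have h2 : g⁻¹ * s * g⁻¹⁻¹ ∈ N := h1
        rwa [inv_inv] at h2
      have h3 := hall' _ hxN
      rw [mul_smul, mul_smul, hgA, inv_smul_eq_iff, hgA] at h3
      exact h3
    intro c hc
    by_cases hcA : c = A
    · exact ⟨1, one_mem _, by rw [one_smul, hcA]⟩
    have hxc : x * v = v * x := Subgroup.mem_centralizer_singleton_iff.mp hx.2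
    obtain ⟨g1, hg1, h1A, h1B⟩ := hctrans A (x • A) H.va (fix_comm hxc.symm H.va) (Ne.symm hxA)
    obtain ⟨g2, hg2, h2A, h2B⟩ := hctrans A c H.va hc (Ne.symm hcA)
    have hg : g2 * g1⁻¹ ∈ C := mul_mem hg2 (inv_mem hg1)
    refine ⟨g2 * g1⁻¹ * x * (g2 * g1⁻¹)⁻¹, hNn.conj_mem ⟨x, hx.2⟩ hx ⟨_, hg⟩, ?_⟩
    rw [mul_smul, inv_smul_eq_iff.mpr (show A = (g2 * g1⁻¹) • A by
      rw [mul_smul, inv_smul_eq_iff.mpr h1A.symm, h2A]), mul_smul, mul_smul, ← h1B, inv_smul_smul, h2B]
  have hNc : Nat.card N = 4 * k := by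
    set Nv := N
    letI : MulAction N (fixedBy Δ v) :=
      { smul := fun g d => ⟨(g : Y) • (d : Δ),
          fix_comm (Subgroup.mem_centralizer_singleton_iff.mp g.2.2).symm d.2⟩
        one_smul := fun d => Subtype.ext (one_smul Y (d : Δ))
        mul_smul := fun g h d => Subtype.ext (mul_smul (g : Y) (h : Y) (d : Δ)) }
    set A' : fixedBy Δ v := ⟨A, H.va⟩
    have ho : orbit N A' = Set.univ := Set.eq_univ_of_forall fun c => by
      obtain ⟨g, hg, hgc⟩ := horb c c.2
      exact ⟨⟨g, hg⟩, Subtype.ext hgc⟩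
    have hst : Nat.card (stabilizer N A') = Nat.card S := Nat.card_congr
      { toFun := fun g => ⟨(g.1 : Y), hNA ▸ ⟨g.1.2, congrArg Subtype.val g.2⟩⟩
        invFun := fun g => ⟨⟨g, hSN g.2⟩, Subtype.ext (hSle g.2).2⟩
        left_inv := fun _ => rfl
        right_inv := fun _ => rfl }
    have h := Subgroup.card_mul_index (stabilizer N A')
    rw [index_stabilizer, ho, Set.ncard_univ, hst, hS4, Nat.card_coe_set_eq] at h
    rw [hk]
    exact h.symm
  -- the equation
  have hkk : 2 * f + 1 = k := by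
    rw [hCc, hNc] at hCN
    have h1 : k * ((k - 1) * 2) = k * (4 * f) := by rw [hCN]; ring
    have := Nat.eq_of_mul_eq_mul_left (show 0 < k by omega) h1
    omega
  have hre : (r : ℤ) - e = 4 * k := by
    rw [← hKv]
    exact_mod_cast hNc
  have hYK : Nat.card K * f = Nat.card Y := K.card_mul_index
  have heq : ((u : ℤ) + 1) ^ 2 * k ^ 2 - 8 * u * k ^ 2 + ((u : ℤ) ^ 2 - 1) * k - 6 * e * u * k - 2 * u = 0 := by
    have h1 : (u : ℤ) * m = k * (((u : ℤ) + 1) * k - 1) := by
      have h := hmrel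
      zify [show 1 ≤ (u + 1) * k from Nat.mul_pos (by omega) (by omega)] at h
      exact h
    have h2 : (u : ℤ) * ((m : ℤ) - 1) = ((k : ℤ) - 1) * (((u : ℤ) + 1) * k + u) := by
      have h := hm1rel
      zify [hm1, show 1 ≤ k by omega] at h
      exact h
    have h3 : (Nat.card K : ℤ) * f = (m : ℤ) * (((m : ℤ) - 1) * (2 * u)) := by
      have h := congrArg (Nat.cast (R := ℤ)) (hYK.trans hY)
      push_cast [Nat.cast_sub hm1] at h
      exact h
    have h4 : (k : ℤ) = 2 * f + 1 := by exact_mod_cast hkk.symm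
    have hr : (r : ℤ) = 4 * k + e := by linarith
    rw [hr] at hK2
    have hne : (8 : ℤ) * k * f ≠ 0 := by
      have : (3 : ℤ) ≤ k := by exact_mod_cast hk3
      exact mul_ne_zero (by omega) (by omega)
    refine mul_left_cancel₀ hne ?_
    rw [mul_zero]
    have h5 : (f : ℤ) * ((4 * (k : ℤ) + e) * ((4 * k + e + e) * (4 * k + e - e))) * u = 4 * (k *
        (((u : ℤ) + 1) * k - 1)) * (((k : ℤ) - 1) * (((u : ℤ) + 1) * k + u)) := by
      rw [← hK2, ← h1, ← h2]
      linear_combination 2 * (u : ℤ) * h3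
    have hee : e * e = 1 := by rcases he with rfl | rfl <;> norm_num
    rw [h4] at h5 ⊢
    linear_combination -h5 + 8 * (2 * (f : ℤ) + 1) * f * u * hee
  obtain ⟨hk3', hu3⟩ := gw_arith he hk3 hko huo heq
  refine ⟨?_, hu3⟩
  rw [hk3', hu3] at hmrel
  omega

end CfsgLib.StabSimpAb
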