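import Cfsg.Agent.Lib.StabSimpAb.OddCommon
import Cfsg.Agent.Lib.StabSimpAb.OddGW
import Cfsg.Agent.Lib.StabSimpAb.KindE
import Cfsg.Agent.Lib.StabSimpAb.Parity

/-!
Odd degree, a swapper conjugate to `t`, `L₂(2^n)`: impossible.

Blueprint: `blueprint/S3400.md`, section 2 (DIRECT, E).
-/

set_option autoImplicit false
set_option linter.unusedSectionVars false
set_option linter.style.haveILetI false

namespace CfsgLib.StabSimpAb

open MulAction CfsgLib.StabAlt5

universe u v

variable {G : Type u} [Group G]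

/-- An involution adjoined to a subgroup it centralises. -/
def adjoin (U : Subgroup G) (x : G) (hx : x * x = 1) (hc : ∀ y ∈ U, x * y = y * x) : Subgroup G where
  carrier := {y | y ∈ U ∨ x * y ∈ U}
  one_mem' := Or.inl (one_mem U)
  mul_mem' := by
    rintro p r (hp | hp) (hr | hr)
    · exact Or.inl (mul_mem hp hr)
    · refine Or.inr ?_
      rw [← mul_assoc, hc p hp, mul_assoc]
      exact mul_mem hp hr
    · exact Or.inr (by rw [← mul_assoc]; exact mul_mem hp hr)
    · refine Or.inl ?_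
      have e : p * r = x * p * (x * r) := by
        have h1 := hc _ hp
        rw [← mul_assoc x x, hx, one_mul] at h1
        rw [← mul_assoc (x * p) x r, ← h1]
      rw [e]
      exact mul_mem hp hr
  inv_mem' := by
    rintro p (hp | hp)
    · exact Or.inl (inv_mem hp)
    · refine Or.inr ?_
      have hxp : x * p = p * x := by
        calc x * p = x * (x * (x * p)) := by rw [← mul_assoc x x, hx, one_mul]
          _ = x * (x * p * x) := by rw [hc _ hp]
          _ = p * x := by rw [← mul_assoc x (x * p) x, ← mul_assoc x x, hx, one_mul]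
      have e : x * p⁻¹ = (x * p)⁻¹ := by
        rw [_root_.mul_inv_rev, inv_of_sq hx]
        exact (show Commute x p from hxp).inv_right.eq
      rw [e]
      exact inv_mem hp

theorem le_adjoin {U : Subgroup G} {x : G} (hx : x * x = 1) (hc : ∀ y ∈ U, x * y = y * x) :
    U ≤ adjoin U x hx hc := fun _ hy => Or.inl hy

theorem self_mem_adjoin {U : Subgroup G} {x : G} (hx : x * x = 1) (hc : ∀ y ∈ U, x * y = y * x) :
    x ∈ adjoin U x hx hc := Or.inr (by rw [hx]; exact one_mem U)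

theorem card_adjoin [Finite G] {U : Subgroup G} {x : G} (hx : x * x = 1) (hc : ∀ y ∈ U, x * y = y * x)
    (hxU : x ∉ U) : Nat.card (adjoin U x hx hc) = 2 * Nat.card U := by
  have e : (adjoin U x hx hc : Set G) = (U : Set G) ∪ (x * ·) '' (U : Set G) := by
    ext y
    constructor
    · rintro (h | h)
      · exact Or.inl h
      · exact Or.inr ⟨x * y, h, by show x * (x * y) = y; rw [← mul_assoc, hx, one_mul]⟩
    · rintro (h | ⟨w, hw, rfl⟩)
      · exact Or.inl h
      · exact Or.inr (by show x * (x * w) ∈ U; rw [← mul_assoc, hx, one_mul]; exact hw)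
  show Nat.card ↥((adjoin U x hx hc : Subgroup G) : Set G) = 2 * Nat.card ↥(U : Set G)
  rw [Nat.card_coe_set_eq, e, Set.ncard_union_eq (Set.disjoint_left.mpr ?_), Nat.card_coe_set_eq,
    Set.ncard_image_of_injective _ (mul_right_injective x), two_mul]
  rintro y hy ⟨w, hw, rfl⟩
  exact hxU ((U.mul_mem_cancel_right hw).mp hy)

variable [Finite G] {Ω : Type v} [Finite Ω] [MulAction G Ω]
variable {a b : Ω} {T : Subgroup G}

theorem odd_fixPts {P : Subgroup G} (h2 : IsPGroup 2 P) (hodd : Odd (Nat.card Ω)) : Odd (fixPts Ω P).ncard := by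
  haveI : Fact (Nat.Prime 2) := ⟨Nat.prime_two⟩
  have h := h2.card_modEq_card_fixedPoints Ω
  have e : Nat.card (fixedPoints P Ω) = (fixPts Ω P).ncard := by
    rw [Nat.card_coe_set_eq]
    congr 1
    ext c
    exact ⟨fun hc x hx => hc ⟨x, hx⟩, fun hc x => hc x x.2⟩
  rw [Nat.odd_iff] at hodd ⊢
  rw [← e]
  unfold Nat.ModEq at h
  omega

variable [FaithfulSMul G Ω] {t z : G} (D : Central t z a b T) (K : KitE (stab2 G a b) T)
include D K

/-- The image of `C(R)` on the fixed points of `R` has at most one one-fixed involution at each point. -/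
theorem Central.mid_cent {R : Subgroup G} (hsq : ∀ x ∈ R, x * x = 1) {r : G} (hr : r ∈ R) (hr1 : r ≠ 1)
    (hS : Inv (Subgroup.centralizer (R : Set G)) (fixPts Ω R))
    {u u' : ↥(Img hS)} {c : ↥(fixPts Ω R)} (hu : OneFix ↥(fixPts Ω R) u) (hu' : OneFix ↥(fixPts Ω R) u')
    (hc : u • c = c) (hc' : u' • c = c) : u = u' := by
  classical
  have hCR : ∀ {g : G} {p q : Ω}, g • a = p → g • b = q → p ∈ fixPts Ω R → q ∈ fixPts Ω R →
      ∀ x ∈ R, g⁻¹ * x * g ∈ stab2 G a b := by
    intro g p q hga hgb hp hq x hx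
    exact ⟨by show (g⁻¹ * x * g) • a = a; rw [mul_smul, mul_smul, hga, hp x hx, ← hga, inv_smul_smul],
      by show (g⁻¹ * x * g) • b = b; rw [mul_smul, mul_smul, hgb, hq x hx, ← hgb, inv_smul_smul]⟩
  refine mid (fun p q => ?_) (fun w w' p c hw hw' hp he hwc => ?_) hu hu' hc hc'
  · by_cases hpq : p = q
    · exact ⟨1, by rw [one_smul, hpq]⟩
    obtain ⟨g, hga, hgb, -⟩ := D.cx.transport (c := (p : Ω)) (d := (q : Ω)) fun e => hpq (Subtype.ext e)
    have hm : g * z * g⁻¹ ∈ Subgroup.centralizer (R : Set G) := Subgroup.mem_centralizer_iff.mpr fun x hx => by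
      have h := D.swap.comm _ (hCR hga hgb p.2 q.2 x hx)
      calc x * (g * z * g⁻¹) = g * ((g⁻¹ * x * g) * z) * g⁻¹ := by group
        _ = g * z * g⁻¹ * x := by rw [← h]; group
    refine ⟨toImg hS ⟨_, hm⟩, Subtype.ext ?_⟩
    show (g * z * g⁻¹) • (p : Ω) = q
    rw [← hga, mul_smul, inv_smul_smul, mul_smul, D.swap.za, hgb]
  -- swappers of one pair commute
  obtain ⟨k, rfl⟩ := toImg_surj hS w
  obtain ⟨k', rfl⟩ := toImg_surj hS w'
  set q := toImg hS k • p with hq
  obtain ⟨g, hga, hgb, -⟩ := D.cx.transport (c := (p : Ω)) (d := (q : Ω)) fun e => hp (Subtype.ext e).symm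
  set r' := g⁻¹ * r * g with hr'
  have hrH : r' ∈ stab2 G a b := hCR hga hgb p.2 q.2 r hr
  have r2 : r' * r' = 1 := by
    rw [hr', show g⁻¹ * r * g * (g⁻¹ * r * g) = g⁻¹ * (r * r) * g by group, hsq r hr, mul_one, inv_mul_cancel]
  have r1 : r' ≠ 1 := fun e => hr1 (eq_one_of_conj e)
  obtain ⟨h, hh, hht⟩ := D.cx.kit.conj_all D.inv.mem hrH D.inv.sq D.ne_one r2 r1
  have key : ∀ k : ↥(Subgroup.centralizer (R : Set G)), toImg hS k * toImg hS k = 1 → toImg hS k • p = q →
      h⁻¹ * (z * (g⁻¹ * (k : G) * g)) * h ∈ T := by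
    intro k k2 hkp
    have hka : (k : G) • (p : Ω) = q := congrArg Subtype.val hkp
    have hkb : (k : G) • (q : Ω) = p :=
      congrArg Subtype.val (show toImg hS k • q = p by rw [← hkp, ← mul_smul, k2, one_smul])
    have hm : z * (g⁻¹ * (k : G) * g) ∈ stab2 G a b := by
      refine swap_mul_mem D.swap.za D.swap.zb ?_ ?_
      · rw [mul_smul, mul_smul, hga, hka, ← hgb, inv_smul_smul]
      · rw [mul_smul, mul_smul, hgb, hkb, ← hga, inv_smul_smul]
    refine K.cent t D.memT D.ne_one _ (mul_mem (mul_mem (inv_mem hh) hm) hh) ?_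
    have hkr : (k : G) * r = r * k := (Subgroup.mem_centralizer_iff.mp k.2 r hr).symm
    have hzr : z * r' = r' * z := D.swap.comm r' hrH
    have e1 : z * (g⁻¹ * (k : G) * g) * r' = r' * (z * (g⁻¹ * (k : G) * g)) := by
      calc z * (g⁻¹ * (k : G) * g) * r' = z * (g⁻¹ * ((k : G) * r) * g) := by rw [hr']; group
        _ = (z * r') * (g⁻¹ * (k : G) * g) := by rw [hkr, hr']; group
        _ = _ := by rw [hzr]; group
    have e2 : t = h⁻¹ * r' * h := by rw [← hht]; group
    rw [e2]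
    calc h⁻¹ * (z * (g⁻¹ * (k : G) * g)) * h * (h⁻¹ * r' * h)
        = h⁻¹ * (z * (g⁻¹ * (k : G) * g) * r') * h := by group
      _ = _ := by rw [e1]; group
  have m1 := key k hw.1 hq.symm
  have m2 := key k' hw'.1 he
  set x1 := z * (g⁻¹ * (k : G) * g) with hx1
  set x2 := z * (g⁻¹ * (k' : G) * g) with hx2
  have hxH : ∀ x, h⁻¹ * x * h ∈ T → x ∈ stab2 G a b := fun x hx => by
    rw [show x = h * (h⁻¹ * x * h) * h⁻¹ by group]
    exact mul_mem (mul_mem hh (D.cx.kit.le hx)) (inv_mem hh)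
  have h12 : x1 * x2 = x2 * x1 := by
    have := D.cx.kit.comm m1 m2
    calc x1 * x2 = h * ((h⁻¹ * x1 * h) * (h⁻¹ * x2 * h)) * h⁻¹ := by group
      _ = _ := by rw [this]; group
  have hkk : (k : G) * k' = k' * k := by
    have ek : ∀ l : G, l = g * (z * (z * (g⁻¹ * l * g))) * g⁻¹ := fun l => by
      rw [← mul_assoc z z, D.swap.sq, one_mul]; group
    rw [ek k, ek k', ← hx1, ← hx2]
    have c1 := D.swap.comm x1 (hxH _ m1)
    have c2 := D.swap.comm x2 (hxH _ m2)
    calc g * (z * x1) * g⁻¹ * (g * (z * x2) * g⁻¹) = g * (z * (x1 * z) * x2) * g⁻¹ := by group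
      _ = g * (z * z * (x1 * x2)) * g⁻¹ := by rw [← c1]; group
      _ = g * (z * z * (x2 * x1)) * g⁻¹ := by rw [h12]
      _ = g * (z * (z * x2) * x1) * g⁻¹ := by group
      _ = g * (z * (x2 * z) * x1) * g⁻¹ := by rw [c2]
      _ = _ := by group
  have hcomm : toImg hS k * toImg hS k' = toImg hS k' * toImg hS k := by
    rw [← map_mul, ← map_mul]; exact congrArg _ (Subtype.ext hkk)
  exact hw.eq_of_fix (fix_comm hcomm hwc) hwc

/-- Every hyperplane of `T` with the swapper fixes two points. -/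
theorem Central.good_hyp {W : Subgroup G} (hW : W ≤ T) (hc : 2 * Nat.card W = Nat.card T) :
    ∃ p r : Ω, p ≠ r ∧ z • p = p ∧ z • r = r ∧ p ∈ fixPts Ω W ∧ r ∈ fixPts Ω W := by
  classical
  haveI : Fact (Nat.Prime 2) := ⟨Nat.prime_two⟩
  have C := D.cx
  have Z := D.swap
  have hzT : ∀ y ∈ T, z * y = y * z := fun y hy => Z.comm y (C.kit.le hy)
  have hzn : z ∉ T := fun h => Z.not_mem C.ne (C.kit.le h)
  set E := adjoin T z Z.sq hzT with hE
  have hEc : Nat.card E = 2 * Nat.card T := card_adjoin Z.sq hzT hzn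
  have hEcomm : ∀ x ∈ E, ∀ y ∈ E, x * y = y * x := by
    have hsplit : ∀ x ∈ E, x ∈ T ∨ ∃ w ∈ T, x = z * w := fun x hx => hx.imp id fun h =>
      ⟨z * x, h, by rw [← mul_assoc, Z.sq, one_mul]⟩
    intro x hx y hy
    rcases hsplit x hx with h1 | ⟨w1, h1, rfl⟩ <;> rcases hsplit y hy with h2 | ⟨w2, h2, rfl⟩
    · exact C.kit.comm h1 h2
    · rw [← mul_assoc, ← hzT x h1, mul_assoc, C.kit.comm h1 h2, mul_assoc]
    · rw [← mul_assoc, ← hzT y h2, mul_assoc, C.kit.comm h1 h2, mul_assoc]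
    · calc z * w1 * (z * w2) = z * (w1 * z) * w2 := by group
        _ = z * z * (w1 * w2) := by rw [← hzT w1 h1]; group
        _ = z * z * (w2 * w1) := by rw [C.kit.comm h1 h2]
        _ = z * (z * w2) * w1 := by group
        _ = z * (w2 * z) * w1 := by rw [hzT w2 h2]
        _ = z * w2 * (z * w1) := by group
  have hEsq : ∀ x ∈ E, x * x = 1 := by
    rintro x (hx | hx)
    · exact C.kit.sq x hx
    · have h1 := C.kit.sq _ hx
      have h2 : z * x = x * z := hEcomm z (self_mem_adjoin Z.sq hzT) x (Or.inr hx)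
      calc x * x = z * z * (x * x) := by rw [Z.sq, one_mul]
        _ = z * (z * x) * x := by group
        _ = z * (x * z) * x := by rw [h2]
        _ = z * x * (z * x) := by group
        _ = 1 := h1
  have hE2 : ∀ {R : Subgroup G}, R ≤ E → IsPGroup 2 R := fun hR x => ⟨1, Subtype.ext (by
    show (x : G) ^ 2 ^ 1 = 1
    rw [pow_one, pow_two]; exact hEsq _ (hR x.2))⟩
  -- the subgroups through `z` with two fixed points
  set P : Subgroup G → Prop := fun R => R ≤ E ∧ z ∈ R ∧ ∃ p r : Ω, p ≠ r ∧ p ∈ fixPts Ω R ∧ r ∈ fixPts Ω R with hP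
  have hsmall : ∀ R, P R → Nat.card R ≤ Nat.card T := by
    rintro R ⟨hR, -, p, r, hpr, hp, hr⟩
    obtain ⟨g, hg, -⟩ := C.exists_conj_T (hE2 hR) hpr hp hr
    rw [← Subgroup.card_map_of_injective (K := R) (f := (MulAut.conj g).toMonoidHom) (MulEquiv.injective _)]
    refine Subgroup.card_le_of_le ?_
    rintro _ ⟨x, hx, rfl⟩
    exact hg x hx
  have hP0 : P (Subgroup.zpowers z) := by
    obtain ⟨p, r, hp, hr, hpr⟩ := (Set.one_lt_ncard_iff (Set.toFinite _)).mp D.two_le_z
    have key : ∀ c : Ω, z • c = c → c ∈ fixPts Ω (Subgroup.zpowers z) := fun c hc x hx => by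
      have : z ∈ stabilizer G c := hc
      exact mem_stabilizer_iff.mp ((Subgroup.zpowers_le.mpr this) hx)
    exact ⟨Subgroup.zpowers_le.mpr (self_mem_adjoin Z.sq hzT), Subgroup.mem_zpowers z, p, r, hpr, key p hp, key r hr⟩
  obtain ⟨R, hRP, hmax⟩ := Set.Finite.exists_maximalFor (fun R : Subgroup G => Nat.card R) {R | P R}
    (Set.toFinite _) ⟨_, hP0⟩
  obtain ⟨hRE, hzR, p, r, hpr, hp, hr⟩ := hRP
  have hRc : Nat.card R = Nat.card T := by
    refine le_antisymm (hsmall R ⟨hRE, hzR, p, r, hpr, hp, hr⟩) ?_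
    by_contra hlt
    have hS : Inv (Subgroup.centralizer (R : Set G)) (fixPts Ω R) :=
      (inv_fixPts R).mono (Subgroup.centralizer_le_normalizer _)
    have hEC : ∀ e ∈ E, e ∈ Subgroup.centralizer (R : Set G) := fun e he =>
      Subgroup.mem_centralizer_iff.mpr fun x hx => hEcomm x (hRE hx) e he
    have hone : ∀ e, (he : e ∈ E) → e ∉ R → OneFix ↥(fixPts Ω R) (toImg hS ⟨e, hEC e he⟩) := by
      intro e he heR
      have e2 : toImg hS ⟨e, hEC e he⟩ * toImg hS ⟨e, hEC e he⟩ = 1 := toImg_sq hS fun c _ => by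
        show (e * e) • c = c
        rw [hEsq e he, one_smul]
      have hodd : Odd (Nat.card ↥(fixPts Ω R)) := by rw [Nat.card_coe_set_eq]; exact odd_fixPts (hE2 hRE) D.odd
      refine ⟨e2, le_antisymm ?_ (odd_fixedBy e2 hodd).pos⟩
      by_contra h2
      obtain ⟨c, d, hcf, hdf, hcd⟩ := (Set.one_lt_ncard_iff (Set.toFinite _)).mp (not_le.mp h2)
      have hec : ∀ c : ↥(fixPts Ω R), toImg hS ⟨e, hEC e he⟩ • c = c →
          (c : Ω) ∈ fixPts Ω (adjoin R e (hEsq e he) fun y hy => hEcomm e he y (hRE hy)) := by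
        intro c hc y hy
        have hce : e • (c : Ω) = c := (toImg_fix hS).mp hc
        rcases hy with hy | hy
        · exact c.2 y hy
        · rw [show y = e * (e * y) by rw [← mul_assoc, hEsq e he, one_mul], mul_smul, c.2 _ hy, hce]
      have hP' : P (adjoin R e (hEsq e he) fun y hy => hEcomm e he y (hRE hy)) := by
        refine ⟨?_, le_adjoin _ _ hzR, c, d, fun h => hcd (Subtype.ext h), hec c hcf, hec d hdf⟩
        rintro y (hy | hy)
        · exact hRE hy
        · rw [show y = e * (e * y) by rw [← mul_assoc, hEsq e he, one_mul]]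
          exact mul_mem he (hRE hy)
      have hcard := card_adjoin (hEsq e he) (fun y hy => hEcomm e he y (hRE hy)) heR
      have h := hmax hP'
      simp only [hcard] at h
      have := Nat.card_pos (α := R)
      omega
    obtain ⟨e, he, heR⟩ : ∃ e ∈ E, e ∉ R := by
      by_contra hall
      push Not at hall
      have := Subgroup.card_le_of_le (show E ≤ R from hall)
      omega
    obtain ⟨f, hf, hfR, hefR⟩ : ∃ f ∈ E, f ∉ R ∧ e * f ∉ R := by
      by_contra hall
      push Not at hall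
      have hle : E ≤ adjoin R e (hEsq e he) (fun y hy => hEcomm e he y (hRE hy)) := fun y hy =>
        or_iff_not_imp_left.mpr (hall y hy)
      have h1 := Subgroup.card_le_of_le hle
      rw [card_adjoin (hEsq e he) _ heR] at h1
      omega
    have h1 := hone e he heR
    have h2 := hone f hf hfR
    obtain ⟨c, hc⟩ := h1.exists_fix
    have hef : toImg hS ⟨e, hEC e he⟩ * toImg hS ⟨f, hEC f hf⟩ = toImg hS ⟨f, hEC f hf⟩ * toImg hS ⟨e, hEC e he⟩ := by
      rw [← map_mul, ← map_mul]; exact congrArg _ (Subtype.ext (hEcomm e he f hf))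
    have hfc := h1.eq_of_fix (fix_comm hef hc) hc
    obtain ⟨y, hy, hy1⟩ : ∃ y ∈ R, y ≠ 1 := ⟨z, hzR, fun h => hzn (h ▸ one_mem T)⟩
    have heq := D.mid_cent K (fun x hx => hEsq x (hRE hx)) hy hy1 hS h1 h2 hc hfc
    have h3 := hone (e * f) (mul_mem he hf) hefR
    have h4 : toImg hS ⟨e * f, hEC _ (mul_mem he hf)⟩ = 1 := by
      rw [show (⟨e * f, hEC _ (mul_mem he hf)⟩ : ↥(Subgroup.centralizer (R : Set G))) =
        ⟨e, hEC e he⟩ * ⟨f, hEC f hf⟩ from rfl, map_mul, ← heq, h1.1]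
    rw [h4] at h3
    exact hpr (congrArg Subtype.val (h3.eq_of_fix (one_smul _ (⟨p, hp⟩ : ↥(fixPts Ω R))) (one_smul _ (⟨r, hr⟩ : ↥(fixPts Ω R)))))
  -- its hyperplane
  set W0 := R ⊓ T with hW0
  have hW0c : 2 * Nat.card W0 = Nat.card T := by
    have hzW : z ∉ W0 := fun h => hzn h.2
    have hzW0 : ∀ y ∈ W0, z * y = y * z := fun y hy => hzT y hy.2
    rw [← hRc, ← card_adjoin Z.sq hzW0 hzW]
    congr 1
    refine congrArg (fun X : Subgroup G => (↥X : Type u)) (le_antisymm ?_ ?_)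
    · rintro y (hy | hy)
      · exact hy.1
      · exact (R.mul_mem_cancel_left hzR).mp hy.1
    · intro y hy
      exact (hRE hy).imp (fun h => ⟨hy, h⟩) fun h => ⟨mul_mem hzR hy, h⟩
  obtain ⟨h, hh, -, hconj⟩ := K.hyp_conj hW hc inf_le_right hW0c
  have hfix : ∀ c ∈ fixPts Ω R, h⁻¹ • c ∈ fixPts Ω W := by
    intro c hc x hx
    have := hc _ (hconj x hx).1
    rw [mul_smul, mul_smul] at this
    exact eq_inv_smul_iff.mpr this
  exact ⟨h⁻¹ • p, h⁻¹ • r, fun e => hpr (MulAction.injective _ e), fix_comm (Z.comm _ (inv_mem hh)) (hp z hzR),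
    fix_comm (Z.comm _ (inv_mem hh)) (hr z hzR), hfix p hp, hfix r hr⟩

/-- `T` moves a fixed point of each of its hyperplanes. -/
theorem Central.hyp_moves {W : Subgroup G} (hW : W ≤ T) (hc : 2 * Nat.card W = Nat.card T) :
    ∃ x ∈ T, ∃ c ∈ fixPts Ω W, x • c ≠ c := by
  classical
  by_contra hall
  push Not at hall
  obtain ⟨p, r, hpr, hzp, hzr, hp, hr⟩ := D.good_hyp K hW hc
  have Z := D.swap
  have hzT : ∀ y ∈ T, z * y = y * z := fun y hy => Z.comm y (D.cx.kit.le hy)
  have hfix : ∀ c, z • c = c → c ∈ fixPts Ω W → c ∈ fixPts Ω (adjoin T z Z.sq hzT) := by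
    intro c hzc hcW y hy
    rcases hy with hy | hy
    · exact hall y hy c hcW
    · rw [show y = z * (z * y) by rw [← mul_assoc, Z.sq, one_mul], mul_smul, hall _ hy c hcW, hzc]
  have h2 : IsPGroup 2 (adjoin T z Z.sq hzT) := IsPGroup.iff_card.mpr (by
    obtain ⟨j, hj⟩ := IsPGroup.iff_card.mp D.cx.kit.isPGroup
    exact ⟨j + 1, by rw [card_adjoin Z.sq hzT (fun h => Z.not_mem D.cx.ne (D.cx.kit.le h)), hj, pow_succ']⟩)
  obtain ⟨g, hg, -⟩ := D.cx.exists_conj_T h2 hpr (hfix p hzp hp) (hfix r hzr hr)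
  have hle := Subgroup.card_le_of_le (show (adjoin T z Z.sq hzT).map (MulAut.conj g).toMonoidHom ≤ T by
    rintro _ ⟨x, hx, rfl⟩
    exact hg x hx)
  rw [Subgroup.card_map_of_injective (MulEquiv.injective _),
    card_adjoin Z.sq hzT (fun h => Z.not_mem D.cx.ne (D.cx.kit.le h))] at hle
  have := Nat.card_pos (α := T)
  omega

/-- Odd degree, swapper conjugate to `t`, `L₂(2^n)`: impossible. -/
theorem Central.false_of_even : False := by
  classical
  haveI : Fact (Nat.Prime 2) := ⟨Nat.prime_two⟩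
  have C := D.cx
  have Z := D.swap
  obtain ⟨n, hn⟩ := IsPGroup.iff_card.mp C.kit.isPGroup
  have hn3 : 3 ≤ n := by
    by_contra hlt
    have h1 : 2 ^ n ≤ 2 ^ 2 := Nat.pow_le_pow_right (by norm_num) (by omega)
    have := K.eight
    omega
  obtain ⟨W', hW'⟩ := Sylow.exists_subgroup_card_pow_prime (G := T) 2 (n := n - 1)
    (hn ▸ pow_dvd_pow 2 (Nat.sub_le n 1))
  set W := W'.map T.subtype with hWdef
  have hW : W ≤ T := Subgroup.map_subtype_le _
  have hWn : Nat.card W = 2 ^ (n - 1) := by rw [Subgroup.card_map_of_injective T.subtype_injective, hW']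
  obtain ⟨U', hU'⟩ := Sylow.exists_subgroup_card_pow_prime (G := W) 2 (n := n - 2)
    (hWn ▸ pow_dvd_pow 2 (by omega))
  set U := U'.map W.subtype with hUdef
  have hUW : U ≤ W := Subgroup.map_subtype_le _
  have hUn : Nat.card U = 2 ^ (n - 2) := by rw [Subgroup.card_map_of_injective W.subtype_injective, hU']
  have hUc : 2 * Nat.card U = Nat.card W := by
    rw [hUn, hWn, ← pow_succ', show n - 2 + 1 = n - 1 by omega]
  have hWc : 2 * Nat.card W = Nat.card T := by
    rw [hWn, hn, ← pow_succ', show n - 1 + 1 = n by omega]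
  set N := Subgroup.normalizer (W : Set G)
  set S := fixPts Ω W
  have hS : Inv N S := inv_fixPts W
  have hTN : T ≤ N := fun x hx => mem_normalizer_of_le fun y hy => by
    rwa [C.kit.comm hx (hW hy), mul_inv_cancel_right]
  have hzN : z ∈ N := mem_normalizer_of_le fun y hy => by
    rwa [Z.comm y (C.kit.le (hW hy)), mul_inv_cancel_right]
  let A : ↥S := ⟨a, C.left_mem hW⟩
  let B : ↥S := ⟨b, C.right_mem hW⟩
  have hAB : A ≠ B := fun e => C.ne (congrArg Subtype.val e)
  have h2 : TwoTrans ↥(Img hS) ↥S := img_two hS (C.left_mem hW) (C.right_mem hW) fun c d hc hd hcd =>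
    C.witt hW (fun g hg => by
      have hc' : 2 * Nat.card (W.map (MulAut.conj g).toMonoidHom) = Nat.card T := by
        rw [Subgroup.card_map_of_injective (MulEquiv.injective _), hWc]
      obtain ⟨h, hh, -, hconj⟩ := K.hyp_conj (W := W.map (MulAut.conj g).toMonoidHom) (by
        rintro _ ⟨x, hx, rfl⟩; exact hg x hx) hc' hW hWc
      exact ⟨h, hh, fun x hx => hconj _ ⟨x, hx, rfl⟩⟩) hcd hc hd
  obtain ⟨v, hv, c₀, hc₀, hvc⟩ := D.hyp_moves K hW hWc
  have hvW : v ∉ W := fun h => hvc (hc₀ v h)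
  have hv2 := C.kit.sq v hv
  set vb := toImg hS ⟨v, hTN hv⟩
  set zb := toImg hS ⟨z, hzN⟩
  have hsplit : ∀ x ∈ T, x ∈ W ∨ v * x ∈ W := by
    intro x hx
    have hvWc : ∀ y ∈ W, v * y = y * v := fun y hy => C.kit.comm hv (hW hy)
    have hle : adjoin W v hv2 hvWc ≤ T := by
      rintro y (hy | hy)
      · exact hW hy
      · exact (T.mul_mem_cancel_left hv).mp (hW hy)
    have he := Subgroup.eq_of_le_of_card_ge hle (by rw [card_adjoin hv2 hvWc hvW, hWc])
    exact (show x ∈ adjoin W v hv2 hvWc by rw [he]; exact hx)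
  have hTimg : ∀ x, (hx : x ∈ T) → toImg hS ⟨x, hTN hx⟩ = 1 ∨ toImg hS ⟨x, hTN hx⟩ = vb := by
    intro x hx
    rcases hsplit x hx with h | h
    · exact Or.inl ((toImg_eq_one hS).mpr fun c hc => hc x h)
    · refine Or.inr ((toImg_eq hS).mpr fun c hc => ?_)
      show x • c = v • c
      rw [show x = v * (v * x) by rw [← mul_assoc, hv2, one_mul], mul_smul, hc _ h]
  have hpre : ∀ d : ↥(Img hS), d • A = A → d • B = B → d = 1 ∨ d = vb := by
    intro d hA hB
    obtain ⟨g, rfl⟩ := toImg_surj hS d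
    have hgH : (g : G) ∈ stab2 G a b := ⟨(toImg_fix hS).mp hA, (toImg_fix hS).mp hB⟩
    have hgT := K.norm_hyp hW hWc hgH fun x hx => (Subgroup.mem_normalizer_iff.mp g.2 x).mp hx
    exact hTimg g hgT
  have hvb2 : vb * vb = 1 := toImg_sq hS fun c _ => by show (v * v) • c = c; rw [hv2, one_smul]
  have hvb1 : vb ≠ 1 := fun e => hvc ((toImg_eq_one hS).mp e c₀ hc₀)
  have hzv : zb * vb = vb * zb := by
    rw [← map_mul, ← map_mul]; exact congrArg _ (Subtype.ext (Z.comm v (C.kit.le hv)))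
  have hoddS : Odd (Nat.card ↥S) := by
    rw [Nat.card_coe_set_eq]; exact odd_fixPts (C.kit.isPGroup.to_le hW) D.odd
  have F : FourHyp zb vb A B :=
    { two := h2
      ne := hAB
      odd := hoddS
      zsq := toImg_sq hS fun c _ => by show (z * z) • c = c; rw [Z.sq, one_smul]
      za := Subtype.ext Z.za
      zb := Subtype.ext Z.zb
      zc := fun d hA hB => by
        rcases hpre d hA hB with h | h <;> rw [h]
        · rw [one_mul, mul_one]
        · exact hzv.symm
      va := Subtype.ext (C.kit.le hv).1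
      vb := Subtype.ext (C.kit.le hv).2
      vsq := hvb2
      vne := hvb1
      cls := fun x _ x1 hA hB => ⟨1, one_smul _ _, one_smul _ _, by
        rw [one_mul, inv_one, mul_one, (hpre x hA hB).resolve_left x1]⟩
      self := fun d hA hB _ => hpre d hA hB }
  -- the conjugate of `<z, U>`
  have hUT : U ≤ T := hUW.trans hW
  have hzU : ∀ y ∈ U, z * y = y * z := fun y hy => Z.comm y (C.kit.le (hUT hy))
  have hzn : z ∉ U := fun h => Z.not_mem C.ne (C.kit.le (hUT h))
  set W1 := adjoin U z Z.sq hzU with hW1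
  have hW1c : 2 * Nat.card W1 = Nat.card T := by rw [card_adjoin Z.sq hzU hzn, hUc, hWc]
  have hW1fix : ∀ c, z • c = c → c ∈ fixPts Ω U → c ∈ fixPts Ω W1 := by
    intro c hzc hcU y hy
    rcases hy with hy | hy
    · exact hcU y hy
    · rw [show y = z * (z * y) by rw [← mul_assoc, Z.sq, one_mul], mul_smul, hcU _ hy, hzc]
  have hW12 : IsPGroup 2 W1 := IsPGroup.iff_card.mpr ⟨n - 1, by
    rw [← hWn]; exact Nat.eq_of_mul_eq_mul_left two_pos (hW1c.trans hWc.symm)⟩
  obtain ⟨p0, r0, hpr0, hzp0, hzr0, hp0, hr0⟩ := D.good_hyp K hW hWc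
  obtain ⟨g, hg, -, -⟩ := C.exists_conj_T hW12 hpr0 (hW1fix p0 hzp0 fun x hx => hp0 x (hUW hx))
    (hW1fix r0 hzr0 fun x hx => hr0 x (hUW hx))
  obtain ⟨h, hh, -, hconj⟩ := K.hyp_conj (W := W1.map (MulAut.conj g).toMonoidHom) (by
    rintro _ ⟨x, hx, rfl⟩; exact hg x hx) (by rw [Subgroup.card_map_of_injective (MulEquiv.injective _), hW1c]) hW hWc
  set k := h * g with hk
  have hkW : ∀ x ∈ W1, k * x * k⁻¹ ∈ W := fun x hx => by
    have := hconj _ ⟨x, hx, rfl⟩
    simpa [hk, mul_assoc] using this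
  have hkeq : W1.map (MulAut.conj k).toMonoidHom = W := Subgroup.eq_of_le_of_card_ge
    (by rintro _ ⟨x, hx, rfl⟩; exact hkW x hx)
    (by
      have := Subgroup.card_map_of_injective (K := W1) (f := (MulAut.conj k).toMonoidHom) (MulEquiv.injective _)
      omega)
  have hkfix : ∀ c, c ∈ fixPts Ω W1 → k • c ∈ S := by
    intro c hc y hy
    rw [← hkeq] at hy
    obtain ⟨x, hx, rfl⟩ := hy
    show (k * x * k⁻¹) • k • c = k • c
    rw [mul_smul, inv_smul_smul, mul_smul, hc x hx]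
  have hkT : ∀ x ∈ T, k * x * k⁻¹ ∈ N := fun x hx => mem_normalizer_of_le fun y hy => by
    rw [← hkeq] at hy
    obtain ⟨w, hw, rfl⟩ := hy
    have hxw : x * w = w * x := by
      rcases hw with hw | hw
      · exact C.kit.comm hx (hUT hw)
      · calc x * w = x * z * (z * w) := by rw [mul_assoc, ← mul_assoc z z, Z.sq, one_mul]
          _ = z * (x * (z * w)) := by rw [← Z.comm x (C.kit.le hx), mul_assoc]
          _ = z * (z * w) * x := by rw [C.kit.comm hx (hUT hw)]; group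
          _ = w * x := by rw [← mul_assoc z z, Z.sq, one_mul]
    show k * x * k⁻¹ * (k * w * k⁻¹) * (k * x * k⁻¹)⁻¹ ∈ W
    rw [show k * x * k⁻¹ * (k * w * k⁻¹) * (k * x * k⁻¹)⁻¹ = k * (x * w * x⁻¹) * k⁻¹ by group, hxw,
      mul_inv_cancel_right]
    exact hkW w hw
  let ψ : ↥T →* ↥(Img hS) := (toImg hS).comp
    { toFun := fun x => ⟨k * x * k⁻¹, hkT x x.2⟩
      map_one' := Subtype.ext (by show k * (1 : G) * k⁻¹ = 1; group)
      map_mul' := fun x y => Subtype.ext (by
        show k * ((x : G) * y) * k⁻¹ = k * x * k⁻¹ * (k * y * k⁻¹); group) }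
  have hψ2 : ∀ x : ↥T, ψ x * ψ x = 1 := fun x => by
    rw [← map_mul, show x * x = 1 from Subtype.ext (C.kit.sq _ x.2), map_one]
  have hψ1 : ∀ x : ↥T, ψ x = 1 → (x : G) ∈ U := by
    intro x hx
    have hfix : ∀ c ∈ S, (k * (x : G) * k⁻¹) • c = c := (toImg_eq_one hS).mp hx
    have hxH : k * (x : G) * k⁻¹ ∈ stab2 G a b := ⟨hfix a A.2, hfix b B.2⟩
    have hxT := K.norm_hyp hW hWc hxH fun y hy => (Subgroup.mem_normalizer_iff.mp (hkT x x.2) y).mp hy
    have hxW : k * (x : G) * k⁻¹ ∈ W := by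
      by_contra hnW
      rcases hsplit _ hxT with h' | h'
      · exact hnW h'
      · refine hvc ?_
        have h3 := hc₀ _ h'
        rwa [mul_smul, hfix _ hc₀] at h3
    rw [← hkeq] at hxW
    obtain ⟨w, hw, hwx⟩ := hxW
    have e : w = (x : G) := mul_left_cancel (mul_right_cancel (hwx : k * w * k⁻¹ = k * (x : G) * k⁻¹))
    rw [e] at hw
    rcases hw with hw | hw
    · exact hw
    · exact absurd ((T.mul_mem_cancel_right x.2).mp (hUT hw)) fun h => Z.not_mem C.ne (C.kit.le h)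
  have hψk : ∀ x : ↥T, (x : G) ∉ U → 2 ≤ (fixedBy ↥S (ψ x)).ncard := by
    intro x hx
    have hxU : ∀ y ∈ U, (x : G) * y = y * x := fun y hy => C.kit.comm x.2 (hUT hy)
    set Wx := adjoin U (x : G) (C.kit.sq _ x.2) hxU
    have hWxT : Wx ≤ T := by
      rintro y (hy | hy)
      · exact hUT hy
      · exact (T.mul_mem_cancel_left x.2).mp (hUT hy)
    obtain ⟨p, r, hpr, hzp, hzr, hp, hr⟩ := D.good_hyp K hWxT (by
      rw [card_adjoin (C.kit.sq _ x.2) hxU hx, hUc, hWc])
    have key : ∀ c, z • c = c → c ∈ fixPts Ω Wx → ∃ hc : k • c ∈ S, ψ x • (⟨k • c, hc⟩ : ↥S) = ⟨k • c, hc⟩ := by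
      intro c hzc hc
      refine ⟨hkfix c (hW1fix c hzc fun y hy => hc y (le_adjoin _ _ hy)), (toImg_fix hS).mpr ?_⟩
      show (k * (x : G) * k⁻¹) • k • c = k • c
      rw [mul_smul, inv_smul_smul, mul_smul, hc _ (self_mem_adjoin _ _)]
    obtain ⟨hp', ep⟩ := key p hzp hp
    obtain ⟨hr', er⟩ := key r hzr hr
    exact (Set.ncard_pair (a := (⟨k • p, hp'⟩ : ↥S)) (b := ⟨k • r, hr'⟩) (fun e => hpr
      (MulAction.injective k (congrArg Subtype.val e)))).symm.le.trans (Set.ncard_le_ncard (by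
        rintro _ (rfl | rfl)
        exacts [ep, er]))
  obtain ⟨x, hx, hxU⟩ : ∃ x ∈ T, x ∉ U := ⟨v, hv, fun h => hvW (hUW h)⟩
  obtain ⟨y, hy, hyU, hxyU⟩ : ∃ y ∈ T, y ∉ U ∧ x * y ∉ U := by
    by_contra hall
    push Not at hall
    have hxU' : ∀ w ∈ U, x * w = w * x := fun w hw => C.kit.comm hx (hUT hw)
    have hle : T ≤ adjoin U x (C.kit.sq x hx) hxU' := fun w hw => or_iff_not_imp_left.mpr (hall w hw)
    have h1 := Subgroup.card_le_of_le hle
    rw [card_adjoin _ _ hxU] at h1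
    have := Nat.card_pos (α := U)
    omega
  set e := ψ ⟨x, hx⟩
  set f := ψ ⟨y, hy⟩
  have hef : e * f = f * e := by
    rw [← map_mul, ← map_mul]; exact congrArg ψ (Subtype.ext (C.kit.comm hx hy))
  obtain ⟨c, hec, hfc⟩ : ∃ c, e • c = c ∧ f • c = c := by
    obtain ⟨c, hc, hfc⟩ := exists_fix_of_two (g := f) (k := 1) (by rw [pow_one, pow_two]; exact hψ2 _)
      (S := fixedBy ↥S e) (fun d hd => fix_comm hef hd) (odd_fixedBy (hψ2 _) hoddS)
    exact ⟨c, hc, hfc⟩
  have hzk : 2 ≤ (fixedBy ↥S zb).ncard := by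
    exact (Set.ncard_pair (a := (⟨p0, hp0⟩ : ↥S)) (b := ⟨r0, hr0⟩) (fun e => hpr0
      (congrArg Subtype.val e))).symm.le.trans (Set.ncard_le_ncard (by
        rintro _ (rfl | rfl)
        exacts [Subtype.ext hzp0, Subtype.ext hzr0]))
  have hno := F.no_one hzk (hψ2 _) (hψ2 _) hef (fun he => hxyU (hψ1 (⟨x, hx⟩ * ⟨y, hy⟩)
      ((map_mul ψ _ _).trans ((congrArg (e * ·) he.symm).trans (hψ2 _)))))
    (fun he => hxU (hψ1 _ he)) (fun he => hyU (hψ1 _ he)) hec hfc (hψk _ hxU) (hψk _ hyU)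
    (map_mul ψ ⟨x, hx⟩ ⟨y, hy⟩ ▸ hψk _ hxyU)
  have hu : Nat.card ↥(stabilizer ↥(Img hS) A ⊓ stabilizer ↥(Img hS) B) = 2 * 1 := by
    show Nat.card ↥((stabilizer ↥(Img hS) A ⊓ stabilizer ↥(Img hS) B : Subgroup _) : Set ↥(Img hS)) = 2 * 1
    rw [Nat.card_coe_set_eq, show ((stabilizer ↥(Img hS) A ⊓ stabilizer ↥(Img hS) B : Subgroup _) :
      Set ↥(Img hS)) = {1, vb} from ?_, Set.ncard_pair hvb1.symm]
    ext d
    constructor
    · exact fun hd => hpre d hd.1 hd.2
    · rintro (rfl | rfl)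
      exacts [one_mem _, ⟨F.va, F.vb⟩]
  obtain ⟨-, h3⟩ := F.degree_eleven (fun w w2 _ => by
    have h1 := odd_fixedBy w2 hoddS
    have h2 : (fixedBy ↥S w).ncard ≠ 1 := fun h => hno w ⟨w2, h⟩
    rw [Nat.odd_iff] at h1
    omega) hu
  omega

end CfsgLib.StabSimpAb
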