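import Cfsg.Agent.Lib.StabSimpAb.OddCommon
import Cfsg.Agent.Lib.StabSimpAb.OddGW
import Cfsg.Agent.Lib.StabSimpAb.FourLocal

/-!
Odd degree, a swapper conjugate to `t`, Sylow four group: impossible.

Blueprint: `blueprint/S3400.md`, section 2 (DIRECT, O).
-/

set_option autoImplicit false
set_option linter.unusedSectionVars false
set_option linter.style.haveILetI false

namespace CfsgLib.StabSimpAb

open MulAction CfsgLib.StabAlt5

universe u v

variable {G : Type u} [Group G] [Finite G] {Ω : Type v} [Finite Ω] [MulAction G Ω] [FaithfulSMul G Ω]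
variable {a b : Ω} {T : Subgroup G}

/-- Degree 123 with `L₂(11)` does not occur. -/
theorem Cx.not_123 (C : Cx a b T) (hn : Nat.card Ω = 123) (hH : Nat.card (stab2 G a b) = 660)
    {t : G} (I : Inv2 t a b) (hm : (fixedBy Ω t).ncard = 11) : False := by
  classical
  haveI : Fact (Nat.Prime 61) := ⟨by norm_num⟩
  set A := stabilizer G a
  have hA : Nat.card A = 80520 := by rw [C.card_stab_a, hn, hH]
  obtain ⟨P⟩ : Nonempty (Sylow 61 A) := inferInstance
  have hP : Nat.card (P : Subgroup A) = 61 := by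
    rw [Sylow.card_eq_multiplicity, hA]
    have h1 : Nat.factorization 80520 61 = 1 := by
      have e : Nat.factorization 80520 61 = Nat.factorization (61 * 1320) 61 := by norm_num
      rw [e, Nat.factorization_mul (by norm_num) (by norm_num), Finsupp.add_apply,
        Nat.Prime.factorization_self (by norm_num), Nat.factorization_eq_zero_of_not_dvd (by norm_num)]
    rw [h1, pow_one]
  have hidx : (P : Subgroup A).index = 1320 := by
    have h := Subgroup.card_mul_index (P : Subgroup A)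
    rw [hP, hA] at h
    omega
  have hs1 : Nat.card (Sylow 61 A) = 1 := by
    have hd : Nat.card (Sylow 61 A) ∈ Nat.divisors 1320 :=
      Nat.mem_divisors.mpr ⟨hidx ▸ P.card_dvd_index, by norm_num⟩
    have hmod : Nat.card (Sylow 61 A) % 61 = 1 := card_sylow_modEq_one 61 A
    generalize Nat.card (Sylow 61 A) = N at hd hmod
    revert N
    decide +kernel
  haveI := (Nat.card_eq_one_iff_unique.mp hs1).1
  haveI hPn : (P : Subgroup A).Normal := P.normal_of_subsingleton
  set PG : Subgroup G := (P : Subgroup A).map A.subtype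
  have hPG : Nat.card PG = 61 := by rw [Subgroup.card_map_of_injective A.subtype_injective, hP]
  have hnorm : ∀ h ∈ stab2 G a b, ∀ x ∈ PG, h * x * h⁻¹ ∈ PG := by
    rintro h hh _ ⟨x, hx, rfl⟩
    exact ⟨⟨h, hh.1⟩ * x * ⟨h, hh.1⟩⁻¹, hPn.conj_mem x hx _, rfl⟩
  haveI hcyc : IsCyclic PG := isCyclic_of_prime_card (p := 61) hPG
  obtain ⟨g0, hg0⟩ := hcyc.exists_generator
  have hpow : ∀ h ∈ stab2 G a b, ∃ i : ℤ, h * (g0 : G) * h⁻¹ = (g0 : G) ^ i := fun h hh => by
    obtain ⟨i, hi⟩ := Subgroup.mem_zpowers_iff.mp (hg0 ⟨_, hnorm h hh _ g0.2⟩)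
    exact ⟨i, (congrArg Subtype.val hi).symm⟩
  set CP := Subgroup.centralizer (PG : Set G)
  have hgen : ∀ x : G, x * (g0 : G) = (g0 : G) * x → x ∈ CP := fun x hx => Subgroup.mem_centralizer_iff.mpr fun y hy => by
    obtain ⟨i, hi⟩ := Subgroup.mem_zpowers_iff.mp (hg0 ⟨y, hy⟩)
    have e : (g0 : G) ^ i = y := congrArg Subtype.val hi
    rw [← e]
    exact ((show Commute x (g0 : G) from hx).zpow_right i).symm.eq
  have hle : stab2 G a b ≤ CP := by
    refine (C.kit.normal_eq fun h hh x hx => Subgroup.mem_centralizer_iff.mpr fun y hy => ?_).resolve_left fun e => ?_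
    · have h1 : h⁻¹ * y * h ∈ PG := by
        have := hnorm h⁻¹ (inv_mem hh) y hy
        rwa [inv_inv] at this
      have h2 := Subgroup.mem_centralizer_iff.mp hx _ h1
      calc y * (h * x * h⁻¹) = h * ((h⁻¹ * y * h) * x) * h⁻¹ := by group
        _ = h * x * h⁻¹ * y := by rw [h2]; group
    · refine C.kit.nonab ⟨⟨fun x y => Subtype.ext ?_⟩⟩
      obtain ⟨i, hi⟩ := hpow x x.2
      obtain ⟨j, hj⟩ := hpow y y.2
      have key : ∀ (p q : G) (i j : ℤ), p * (g0 : G) * p⁻¹ = (g0 : G) ^ i → q * (g0 : G) * q⁻¹ = (g0 : G) ^ j →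
          p * q * (g0 : G) * (p * q)⁻¹ = (g0 : G) ^ (i * j) := by
        intro p q i j hp hq
        calc p * q * (g0 : G) * (p * q)⁻¹ = p * (q * (g0 : G) * q⁻¹) * p⁻¹ := by group
          _ = (p * (g0 : G) * p⁻¹) ^ j := by rw [hq]; exact (map_zpow (MulAut.conj p).toMonoidHom (g0 : G) j)
          _ = _ := by rw [hp, ← zpow_mul]
      have h1 := key _ _ i j hi hj
      have h2 := key _ _ j i hj hi
      rw [mul_comm j i, ← h1] at h2
      set p := (x : G) * y
      set q := (y : G) * x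
      have h3 : p⁻¹ * q * (g0 : G) = (g0 : G) * (p⁻¹ * q) := by
        calc p⁻¹ * q * (g0 : G) = p⁻¹ * (q * (g0 : G) * q⁻¹) * q := by group
          _ = p⁻¹ * (p * (g0 : G) * p⁻¹) * q := by rw [h2]
          _ = _ := by group
      have h4 : p⁻¹ * q ∈ stab2 G a b ⊓ CP :=
        ⟨(stab2 G a b).mul_mem ((stab2 G a b).inv_mem ((stab2 G a b).mul_mem x.2 y.2)) ((stab2 G a b).mul_mem y.2 x.2), hgen _ h3⟩
      rw [e, Subgroup.mem_bot, inv_mul_eq_one] at h4
      exact h4
  have hfix : ((fun x : G => x • b) '' (PG : Set G)) ⊆ fixedBy Ω t := by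
    rintro _ ⟨x, hx, rfl⟩
    show t • x • b = x • b
    rw [← mul_smul, ← Subgroup.mem_centralizer_iff.mp (hle I.mem) x hx, mul_smul, I.mem.2]
  have hinj : Set.InjOn (fun x : G => x • b) (PG : Set G) := by
    intro x hx y hy hxy
    have hz : y⁻¹ * x ∈ PG := mul_mem (inv_mem hy) hx
    have hzH : y⁻¹ * x ∈ stab2 G a b := by
      refine ⟨?_, ?_⟩
      · obtain ⟨w, -, e⟩ := hz
        rw [← e]; exact w.2
      · show (y⁻¹ * x) • b = b
        rw [mul_smul, show x • b = y • b from hxy, inv_smul_smul]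
    have h1 : orderOf (y⁻¹ * x) ∣ 61 := hPG ▸ Subgroup.orderOf_dvd_natCard PG hz
    have h2 : orderOf (y⁻¹ * x) ∣ 660 := hH ▸ Subgroup.orderOf_dvd_natCard _ hzH
    have h3 := Nat.dvd_gcd h1 h2
    norm_num at h3
    exact (inv_mul_eq_one.mp h3).symm
  have hle' := Set.ncard_le_ncard hfix (Set.toFinite _)
  rw [Set.InjOn.ncard_image hinj, hm, ← Nat.card_coe_set_eq] at hle'
  change Nat.card PG ≤ 11 at hle'
  omega

/-- Odd degree, swapper conjugate to `t`, four group: impossible. -/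
theorem Central.false_of_four {t z : G} (D : Central t z a b T) (h4 : Nat.card T = 4) : False := by
  classical
  have C := D.cx
  have I := D.inv
  have ht := D.memT
  have Z := D.swap
  have hw : swaps t a b = invNum G a b + 1 := by
    rcases C.swap_cases I Z with h | h | h
    · exact (C.one_even ht I Z h.2.2 D.odd).elim
    · exact absurd D.cls h.1
    · exact h.2.2
  obtain ⟨v, hv, c₀, hc₀, hvc⟩ := D.not_trivial
  have hv1 : v ≠ 1 := fun e => hvc (by rw [e, one_smul])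
  have hvt : v ≠ t := fun e => hvc (by rw [e]; exact hc₀)
  have hT := four_cases h4 C.kit.sq ht hv I.ne_one hv1 hvt
  have hv2 := C.kit.sq v hv
  set S := fixedBy Ω t
  have hS := inv_fixedBy (Ω := Ω) t
  set Cc := Subgroup.centralizer ({t} : Set G)
  let A : ↥S := ⟨a, I.mem.1⟩
  let B : ↥S := ⟨b, I.mem.2⟩
  have hAB : A ≠ B := fun h => C.ne (congrArg Subtype.val h)
  have hzC : z ∈ Cc := Subgroup.mem_centralizer_singleton_iff.mpr (Z.comm t I.mem)
  have hvC : v ∈ Cc := Subgroup.mem_centralizer_singleton_iff.mpr (C.kit.comm hv ht)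
  set zb := toImg hS ⟨z, hzC⟩
  set vb := toImg hS ⟨v, hvC⟩
  have hTC : T ≤ Cc := fun x hx => Subgroup.mem_centralizer_singleton_iff.mpr (C.kit.comm hx ht)
  have hTimg : ∀ x, (hx : x ∈ T) → toImg hS ⟨x, hTC hx⟩ = 1 ∨ toImg hS ⟨x, hTC hx⟩ = vb := by
    intro x hx
    rcases (hT x).mp hx with h | h | h | h
    · exact Or.inl ((toImg_eq_one hS).mpr fun c _ => by show x • c = c; rw [h, one_smul])
    · exact Or.inl ((toImg_eq_one hS).mpr fun c hc => by show x • c = c; rw [h]; exact hc)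
    · exact Or.inr ((toImg_eq hS).mpr fun c _ => by show x • c = v • c; rw [h])
    · refine Or.inr ((toImg_eq hS).mpr fun c hc => ?_)
      show x • c = v • c
      rw [h, mul_smul]
      exact fix_comm (C.kit.comm ht hv) hc
  set L := stab2 G a b ⊓ Cc
  have hTL : T ≤ L := le_inf C.kit.le hTC
  have hpre : ∀ d : ↥(Img hS), d • A = A → d • B = B → ∃ g : ↥Cc, toImg hS g = d ∧ (g : G) ∈ stab2 G a b := by
    intro d hA hB
    obtain ⟨g, rfl⟩ := toImg_surj hS d
    exact ⟨g, rfl, (toImg_fix hS).mp hA, (toImg_fix hS).mp hB⟩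
  have hcls : ∀ x : ↥(Img hS), x * x = 1 → x ≠ 1 → x • A = A → x • B = B →
      ∃ d : ↥(Img hS), d • A = A ∧ d • B = B ∧ d * vb * d⁻¹ = x := by
    intro x x2 x1 hxA hxB
    obtain ⟨g, rfl, hgH⟩ := hpre x hxA hxB
    obtain ⟨j, l, hl, hjl⟩ : ∃ j l : ℕ, Odd l ∧ orderOf (g : G) = 2 ^ j * l := by
      obtain ⟨j, l, hl, e'⟩ := Nat.exists_eq_two_pow_mul_odd (n := orderOf (g : G)) (orderOf_pos _).ne'
      exact ⟨j, l, hl, e'⟩
    have hgl : toImg hS (g ^ l) = toImg hS g := by
      obtain ⟨i, rfl⟩ := hl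
      rw [map_pow, pow_succ, pow_mul, pow_two, x2, one_pow, one_mul]
    obtain ⟨c, hc, hcT⟩ := C.kit.conj_in hTL inf_le_left (P := Subgroup.zpowers ((g : G) ^ l))
      (Subgroup.zpowers_le.mpr (pow_mem (show (g : G) ∈ L from ⟨hgH, g.2⟩) l)) (fun u => ⟨j, Subtype.ext (by
        obtain ⟨u, i, rfl⟩ := u
        show (((g : G) ^ l) ^ i) ^ 2 ^ j = 1
        rw [← zpow_natCast, ← zpow_mul, mul_comm, zpow_mul, zpow_natCast, ← pow_mul, mul_comm l, ← hjl,
          pow_orderOf_eq_one, one_zpow])⟩)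
    have hm := hcT _ (Subgroup.mem_zpowers _)
    set c' : ↥Cc := ⟨c, hc.2⟩
    have he : toImg hS c' * toImg hS g * (toImg hS c')⁻¹ = toImg hS ⟨c * (g : G) ^ l * c⁻¹, hTC hm⟩ := by
      rw [← hgl, ← map_inv, ← map_mul, ← map_mul]
      rfl
    rcases hTimg _ hm with h | h
    · rw [h] at he
      exact absurd (conj_eq_one_iff.mp he) x1
    · rw [h] at he
      refine ⟨(toImg hS c')⁻¹, ?_, ?_, by rw [← he]; group⟩
      · rw [inv_smul_eq_iff]; exact ((toImg_fix hS).mpr (mem_stabilizer_iff.mp hc.1.1)).symm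
      · rw [inv_smul_eq_iff]; exact ((toImg_fix hS).mpr (mem_stabilizer_iff.mp hc.1.2)).symm
  have hvb2 : vb * vb = 1 := toImg_sq hS fun c _ => by show (v * v) • c = c; rw [hv2, one_smul]
  have hvb1 : vb ≠ 1 := fun e => hvc ((toImg_eq_one hS).mp e c₀ hc₀)
  have hself : ∀ d : ↥(Img hS), d • A = A → d • B = B → d * vb = vb * d → d = 1 ∨ d = vb := by
    intro x hxA hxB hxv
    obtain ⟨g, rfl, hgH⟩ := hpre x hxA hxB
    set R := ((Subgroup.zpowers vb).comap (toImg hS)).map Cc.subtype ⊓ stab2 G a b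
    have hzp : ∀ y ∈ Subgroup.zpowers vb, y = 1 ∨ y = vb := by
      intro y hy
      obtain ⟨i, rfl⟩ := Subgroup.mem_zpowers_iff.mp hy
      rcases Int.even_or_odd' i with ⟨j, rfl | rfl⟩
      · left; rw [zpow_mul, zpow_two, hvb2, one_zpow]
      · right; rw [zpow_add, zpow_mul, zpow_two, hvb2, one_zpow, one_mul, zpow_one]
    have hTR : T ≤ R := fun y hy => ⟨⟨⟨y, hTC hy⟩, Subgroup.mem_comap.mpr (by
      rcases hTimg y hy with h | h <;> rw [h]
      exacts [one_mem _, Subgroup.mem_zpowers _]), rfl⟩, C.kit.le hy⟩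
    have hRn : ∀ y ∈ R, (g : G) * y * (g : G)⁻¹ ∈ R := by
      rintro _ ⟨⟨y, hy, rfl⟩, hyH⟩
      refine ⟨⟨g * y * g⁻¹, Subgroup.mem_comap.mpr ?_, rfl⟩, (stab2 G a b).mul_mem ((stab2 G a b).mul_mem hgH hyH) ((stab2 G a b).inv_mem hgH)⟩
      rw [map_mul, map_mul, map_inv]
      rcases hzp _ (Subgroup.mem_comap.mp hy) with h | h
      · rw [h, mul_one, mul_inv_cancel]; exact one_mem _
      · rw [h, hxv, mul_inv_cancel_right]; exact Subgroup.mem_zpowers _
    obtain ⟨r, hr, hrT⟩ := C.kit.conj_in hTR inf_le_right (P := T.map (MulAut.conj (g : G)).toMonoidHom)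
      (by rintro _ ⟨y, hy, rfl⟩; exact hRn y (hTR hy)) (C.kit.isPGroup.map _)
    obtain ⟨⟨r', hr', rfl⟩, hrH⟩ := hr
    have hrC := mul_mem r'.2 g.2
    have hmem := C.kit.cent_norm h4 ht I.ne_one (mul_mem hrH hgH) (fun y hy => by
      have := hrT _ ⟨y, hy, rfl⟩
      simpa [mul_assoc] using this) (Subgroup.mem_centralizer_singleton_iff.mp hrC)
    have hg' : toImg hS g ∈ Subgroup.zpowers vb := by
      have h1 : toImg hS r' * toImg hS g ∈ Subgroup.zpowers vb := by
        rw [← map_mul, show r' * g = ⟨Cc.subtype r' * (g : G), hTC hmem⟩ from rfl]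
        rcases hTimg _ hmem with h | h <;> rw [h]
        exacts [one_mem _, Subgroup.mem_zpowers _]
      exact (Subgroup.mul_mem_cancel_left _ (Subgroup.mem_comap.mp hr')).mp h1
    exact hzp _ hg'
  have h2 : TwoTrans ↥(Img hS) ↥S := img_two hS I.mem.1 I.mem.2 fun c d hc hd hcd => C.cent_trans I hc hd hcd
  have hoddS : Odd (Nat.card ↥S) := by rw [Nat.card_coe_set_eq]; exact odd_fixedBy I.sq D.odd
  have F : FourHyp zb vb A B :=
    { two := h2
      ne := hAB
      odd := hoddS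
      zsq := toImg_sq hS fun c _ => by show (z * z) • c = c; rw [Z.sq, one_smul]
      za := Subtype.ext Z.za
      zb := Subtype.ext Z.zb
      zc := fun d hA hB => by
        obtain ⟨g, rfl, hg⟩ := hpre d hA hB
        rw [← map_mul, ← map_mul]
        exact congrArg _ (Subtype.ext (Z.comm _ hg).symm)
      va := Subtype.ext (C.kit.le hv).1
      vb := Subtype.ext (C.kit.le hv).2
      vsq := hvb2
      vne := hvb1
      cls := hcls
      self := hself }
  -- the four group of the centraliser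
  obtain ⟨g, hgfix, hgC⟩ := D.exists_shift
  let ψ : ↥T →* ↥Cc :=
    { toFun := fun y => ⟨g⁻¹ * y * g, hgC y (Z.comm y (C.kit.le y.2)).symm⟩
      map_one' := Subtype.ext (by show g⁻¹ * (1 : G) * g = 1; group)
      map_mul' := fun x y => Subtype.ext (by
        show g⁻¹ * ((x : G) * y) * g = g⁻¹ * x * g * (g⁻¹ * y * g); group) }
  let φ : ↥T →* ↥(Img hS) := (toImg hS).comp ψ
  have hφmul : ∀ x y : ↥T, φ (x * y) = φ x * φ y := map_mul φ
  have hφ1 : ∀ x : ↥T, φ x = 1 → x = 1 := by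
    intro x hx
    refine Subtype.ext (D.faithful_fix (C.kit.le x.2) fun d hd => ?_)
    have hd' : g⁻¹ • d ∈ S := (hgfix _).mp (by rw [smul_inv_smul]; exact hd)
    have h3 : (g⁻¹ * (x : G) * g) • g⁻¹ • d = g⁻¹ • d := (toImg_eq_one hS).mp hx _ hd'
    rwa [mul_smul, mul_smul, smul_inv_smul, inv_smul_eq_iff, smul_inv_smul] at h3
  have hφ2 : ∀ x : ↥T, φ x * φ x = 1 := fun x => by
    rw [← hφmul]
    exact (toImg_eq_one hS).mpr fun c _ => by
      show (g⁻¹ * (((x * x : ↥T)) : G) * g) • c = c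
      rw [show ((x * x : ↥T) : G) = (x : G) * x from rfl, C.kit.sq _ x.2, mul_one, inv_mul_cancel, one_smul]
  have hφk : ∀ x : ↥T, x ≠ 1 → 2 ≤ (fixedBy ↥S (φ x)).ncard := by
    intro x hx
    refine (D.share (C.kit.le x.2) (C.kit.sq _ x.2) fun e => hx (Subtype.ext e)).trans ?_
    show _ ≤ (fixedBy ↥S (toImg hS (ψ x))).ncard
    rw [ncard_fixedBy_toImg]
    refine (Set.ncard_image_of_injective _ (MulAction.injective g⁻¹)).symm.le.trans (Set.ncard_le_ncard ?_)
    rintro _ ⟨d, hd, rfl⟩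
    refine ⟨(hgfix _).mp (by rw [smul_inv_smul]; exact hd.1), ?_⟩
    show (g⁻¹ * (x : G) * g) • g⁻¹ • d = g⁻¹ • d
    rw [mul_smul, mul_smul, smul_inv_smul, hd.2]
  set e := φ ⟨t, ht⟩
  set f := φ ⟨v, hv⟩
  have ht1 : (⟨t, ht⟩ : ↥T) ≠ 1 := fun h => I.ne_one (congrArg Subtype.val h)
  have hv1' : (⟨v, hv⟩ : ↥T) ≠ 1 := fun h => hv1 (congrArg Subtype.val h)
  have htv : (⟨t, ht⟩ : ↥T) * ⟨v, hv⟩ ≠ 1 := fun h => hvt (by
    have h' : t * v = 1 := congrArg Subtype.val h
    rw [eq_inv_of_mul_eq_one_right h', inv_of_sq I.sq])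
  have hef : e * f = f * e := by
    rw [← hφmul, ← hφmul]
    exact congrArg φ (Subtype.ext (C.kit.comm ht hv))
  obtain ⟨c, hec, hfc⟩ : ∃ c, e • c = c ∧ f • c = c := by
    obtain ⟨c, hc, hfc⟩ := exists_fix_of_two (g := f) (k := 1) (by rw [pow_one, pow_two]; exact hφ2 _)
      (S := fixedBy ↥S e) (fun d hd => fix_comm hef hd) (odd_fixedBy (hφ2 _) hoddS)
    exact ⟨c, hc, hfc⟩
  have hzk : 2 ≤ (fixedBy ↥S zb).ncard := by
    refine (D.share I.mem I.sq I.ne_one).trans ?_
    rw [ncard_fixedBy_toImg]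
    exact Set.ncard_le_ncard fun d hd => ⟨hd.2, hd.1⟩
  have hno := F.no_one hzk (hφ2 _) (hφ2 _) hef (fun he => htv (hφ1 _ ((hφmul _ _).trans ((congrArg (e * ·) he.symm).trans (hφ2 _)))))
    (fun he => ht1 (hφ1 _ he)) (fun he => hv1' (hφ1 _ he)) hec hfc (hφk _ ht1) (hφk _ hv1')
    (hφmul ⟨t, ht⟩ ⟨v, hv⟩ ▸ hφk _ htv)
  obtain ⟨u, -, hu, -⟩ := F.card_D
  obtain ⟨hm, -⟩ := F.degree_eleven (fun x x2 _ => by
    have h1 := odd_fixedBy x2 hoddS
    have h2 : (fixedBy ↥S x).ncard ≠ 1 := fun h => hno x ⟨x2, h⟩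
    rw [Nat.odd_iff] at h1
    omega) hu
  rw [Nat.card_coe_set_eq] at hm
  change (fixedBy Ω t).ncard = 11 at hm
  -- arithmetic
  have hb := C.basic I
  rw [hw, hm] at hb
  set i := invNum G a b
  have hd : i ∣ 110 := by
    have h1 : i ∣ (i + 1) * 110 := ⟨_, hb.symm⟩
    exact (Nat.Coprime.dvd_mul_left (Nat.coprime_self_add_right.mpr (Nat.coprime_one_right i))).mp h1
  have hi := C.invNum_mul I
  rcases C.kit.orders with ⟨F', iF, iFt, hq8, hq5, -, hH, -, hc⟩ | ⟨n, -, hn4, hH, hc⟩ |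
      ⟨_, _, _, _, h8, _⟩ | ⟨h8, _⟩
  · have hc' := hc t ht I.ne_one
    rw [hc'] at hi
    set q := Fintype.card F'
    rw [← hi] at hH
    have hle : i ≤ 110 := Nat.le_of_dvd (by norm_num) hd
    have hq : q ≤ 15 := by
      obtain ⟨p, hp⟩ : ∃ p, q = p + 1 := ⟨q - 1, by omega⟩
      have h2 : (p + 1) * p * (p + 2) ≤ 220 * (p + 2) := by
        calc (p + 1) * p * (p + 2) = q * (q ^ 2 - 1) := by
              have e1 : (p + 1) ^ 2 - 1 = p * (p + 2) := by
                have : (p + 1) ^ 2 = p * (p + 2) + 1 := by ring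
                omega
              rw [hp, e1]; ring
          _ = 2 * (i * (if q % 4 = 1 then q - 1 else q + 1)) := hH.symm
          _ ≤ 2 * (110 * (p + 2)) := Nat.mul_le_mul_left 2 (Nat.mul_le_mul hle (by split_ifs <;> omega))
          _ = _ := by ring
      have h3 : (p + 1) * p ≤ 220 := Nat.le_of_mul_le_mul_right h2 (by omega)
      by_contra hlt
      have h4 : 16 * 15 ≤ (p + 1) * p := Nat.mul_le_mul (by omega) (by omega)
      omega
    have hq3 : q = 5 ∨ q = 11 ∨ q = 13 := by omega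
    rcases hq3 with h | h | h <;> rw [h] at hH hi <;> norm_num at hH hi
    · rw [show i = 15 by omega] at hd
      norm_num at hd
    · have hi55 : invNum G a b = 55 := by change 2 * (i * _) = _ at hH; change i = 55; omega
      rw [show i = 55 from hi55] at hb
      exact C.not_123 (by omega) (hi.symm.trans (by rw [hi55])) I hm
    · rw [show i = 91 by omega] at hd
      norm_num at hd
  · obtain rfl : n = 2 := Nat.pow_right_injective le_rfl (show 2 ^ n = 2 ^ 2 by rw [← hn4, h4])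
    rw [hc t ht I.ne_one, hH] at hi
    norm_num at hi
    rw [show i = 15 by omega] at hd
    norm_num at hd
  · omega
  · omega

end CfsgLib.StabSimpAb
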