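import Cfsg.Agent.Lib.StabSimpAb.DirectCount
import Cfsg.Agent.Lib.StabSimpAb.KindE
import Cfsg.Agent.Lib.StabSimpAb.Parity

/-!
Odd degree, an outer swapper, `L₂(2^n)`: impossible.

Blueprint: `blueprint/S3400.md`, section 2 (OUTER, E).
-/

set_option autoImplicit false
set_option linter.unusedSectionVars false
set_option linter.style.haveILetI false

namespace CfsgLib.StabSimpAb

open MulAction CfsgLib.StabAlt5

universe u v

variable {G : Type u} [Group G] [Finite G] {Ω : Type v} [Finite Ω] [MulAction G Ω] [FaithfulSMul G Ω]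
variable {a b : Ω} {T : Subgroup G}

/-- An outer swapper for an involution it centralises. -/
theorem Outer.exists_centralised (C : Cx a b T) {s t : G} (I : Inv2 t a b) (O : Outer s t a b T) :
    ∃ t' ∈ T, t' ≠ 1 ∧ Outer s t' a b T ∧ s * t' = t' * s := by
  obtain ⟨x, hx, hne⟩ := O.nontriv
  have hw := O.fixed x hx
  have hw1 : x * (s * x * s) ≠ 1 := fun e => hne (by
    have e1 : s * x * s = x⁻¹ := eq_inv_of_mul_eq_one_right e
    rw [inv_of_sq (C.kit.sq _ hx)] at e1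
    calc s * x = s * x * (s * s) := by rw [O.sq, mul_one]
      _ = x * s := by rw [← mul_assoc, e1])
  have J := C.inv2_of_mem hw.1 hw1
  refine ⟨_, hw.1, hw1, ⟨?_, O.sq, O.sa, O.sb, O.norm, O.nontriv, O.fixed, O.onto, O.card⟩,
    (Subgroup.mem_centralizer_singleton_iff.mp hw.2).symm⟩
  obtain ⟨h, -, he⟩ := C.kit.conj_all J.mem I.mem J.sq J.ne_one I.sq I.ne_one
  obtain ⟨k, hk⟩ := O.mem_cls
  exact ⟨k * h, by
    rw [show k * h * (x * (s * x * s)) * (k * h)⁻¹ = k * (h * (x * (s * x * s)) * h⁻¹) * k⁻¹ by group, he, hk]⟩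

/-- Odd degree, an outer swapper, `L₂(2^n)`: impossible. -/
theorem Outer.false_of_even {s t₀ : G} (C : Cx a b T) (K : KitE (stab2 G a b) T) (hodd : Odd (Nat.card Ω))
    (I₀ : Inv2 t₀ a b) (O₀ : Outer s t₀ a b T) : False := by
  classical
  haveI : Fact (Nat.Prime 2) := ⟨Nat.prime_two⟩
  obtain ⟨t, ht, t1, O, hst⟩ := O₀.exists_centralised C I₀
  have I := C.inv2_of_mem ht t1
  set T0 := T ⊓ Subgroup.centralizer ({s} : Set G)
  have hT04 : 4 ≤ Nat.card T0 := by
    have h := O.card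
    change Nat.card T0 ^ 2 = Nat.card T at h
    have h8 := K.eight
    by_contra hlt
    have h9 : Nat.card T0 ^ 2 ≤ 3 ^ 2 := Nat.pow_le_pow_left (by omega) 2
    obtain ⟨j, hj⟩ := IsPGroup.iff_card.mp (C.kit.isPGroup.to_le (inf_le_left : T0 ≤ T))
    rcases (show Nat.card T0 = 0 ∨ Nat.card T0 = 1 ∨ Nat.card T0 = 2 ∨ Nat.card T0 = 3 by omega) with e | e | e | e
    · rw [e] at h; omega
    · rw [e] at h; omega
    · rw [e] at h; omega
    · rw [hj] at e
      rcases j with - | - | j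
      · norm_num at e
      · norm_num at e
      · rw [pow_succ] at e; omega
  have hsi := inv_of_sq O.sq
  set S := fixedBy Ω t
  have hS := inv_fixedBy (Ω := Ω) t
  set Cc := Subgroup.centralizer ({t} : Set G)
  let A : ↥S := ⟨a, I.mem.1⟩
  let B : ↥S := ⟨b, I.mem.2⟩
  have hTC : T ≤ Cc := fun x hx => Subgroup.mem_centralizer_singleton_iff.mpr (C.kit.comm hx ht)
  have hsC : s ∈ Cc := Subgroup.mem_centralizer_singleton_iff.mpr hst
  have hoddS : Odd (Nat.card ↥S) := by rw [Nat.card_coe_set_eq]; exact odd_fixedBy I.sq hodd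
  -- the 2-group `T<s>` and its fixed point
  set P := Subgroup.zpowers s ⊔ T with hP
  have hPC : P ≤ Cc := sup_le (Subgroup.zpowers_le.mpr hsC) hTC
  have hP2 : IsPGroup 2 P := (show IsPGroup 2 (Subgroup.zpowers s) from fun y => ⟨1, Subtype.ext (by
    obtain ⟨y, l, rfl⟩ := y
    show (s ^ l) ^ 2 ^ 1 = 1
    rw [pow_one, ← zpow_natCast, ← zpow_mul, mul_comm, zpow_mul, zpow_natCast, pow_two, O.sq, one_zpow])⟩).to_sup_of_normal_right'
      C.kit.isPGroup (Subgroup.zpowers_le.mpr (mem_normalizer_of_le fun x hx => by rw [hsi]; exact O.norm x hx))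
  obtain ⟨c, hcP⟩ : ∃ c : ↥S, ∀ g, (hg : g ∈ P) → toImg hS ⟨g, hPC hg⟩ • c = c := by
    letI : MulAction P ↥S := MulAction.compHom ↥S ((toImg hS).comp (Subgroup.inclusion hPC))
    have h := hP2.card_modEq_card_fixedPoints ↥S
    have hpos : 0 < Nat.card (fixedPoints P ↥S) := by
      unfold Nat.ModEq at h
      rw [Nat.odd_iff] at hoddS
      omega
    obtain ⟨⟨c, hc⟩⟩ := (Nat.card_pos_iff.mp hpos).1
    exact ⟨c, fun g hg => hc ⟨g, hg⟩⟩
  have hTP : T ≤ P := le_sup_right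
  have hsP : s ∈ P := Subgroup.mem_sup_left (Subgroup.mem_zpowers s)
  -- the elements interchanging `a` and `b`
  have hswap : ∀ g ∈ Cc, g • a = b → g • b = a → g ∈ P := by
    intro g hg hga hgb
    have hm : s * g ∈ stab2 G a b := swap_mul_mem O.sa O.sb hga hgb
    have hT := K.cent t ht t1 _ hm (Subgroup.mem_centralizer_singleton_iff.mp (mul_mem hsC hg))
    rw [show g = s * (s * g) by rw [← mul_assoc, O.sq, one_mul]]
    exact mul_mem hsP (hTP hT)
  have htr : ∀ p r : ↥S, ∃ y : ↥(Img hS), y • p = r := by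
    have h2 : TwoTrans ↥(Img hS) ↥S := img_two hS I.mem.1 I.mem.2 fun c d hc hd hcd => C.cent_trans I hc hd hcd
    intro p r
    obtain ⟨g, hg⟩ := h2.transitive (show A ≠ B from fun e => C.ne (congrArg Subtype.val e)) p
    obtain ⟨g', hg'⟩ := h2.transitive (show A ≠ B from fun e => C.ne (congrArg Subtype.val e)) r
    exact ⟨g' * g⁻¹, by rw [← hg, mul_smul, inv_smul_smul, hg']⟩
  have hpair : ∀ (u u' : ↥(Img hS)) (p d : ↥S), OneFix ↥S u → OneFix ↥S u' → u • p ≠ p → u' • p = u • p →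
      u • d = d → u' • d = d := by
    intro u u' p d hu hu' hp he hud
    obtain ⟨k, hk, hka, hkb⟩ := C.cent_trans I p.2 (u • p).2 (fun e => hp (Subtype.ext e).symm)
    have key : ∀ w : ↥(Img hS), w * w = 1 → w • p = u • p → w • (toImg hS ⟨k, hk⟩ • c) = toImg hS ⟨k, hk⟩ • c := by
      intro w w2 hwp
      obtain ⟨g, rfl⟩ := toImg_surj hS w
      have hga : (g : G) • (p : Ω) = ((u • p : ↥S) : Ω) := congrArg Subtype.val hwp
      have hgb : (g : G) • ((u • p : ↥S) : Ω) = (p : Ω) := congrArg Subtype.val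
        (show toImg hS g • (u • p) = p by rw [← hwp, ← mul_smul, w2, one_smul])
      have hm : k⁻¹ * (g : G) * k ∈ P := by
        refine hswap _ (mul_mem (mul_mem (inv_mem hk) g.2) hk) ?_ ?_
        · rw [mul_smul, mul_smul, hka, hga, ← hkb, inv_smul_smul]
        · rw [mul_smul, mul_smul, hkb, hgb, ← hka, inv_smul_smul]
      have hfix := hcP _ hm
      rw [show (⟨k⁻¹ * (g : G) * k, hPC hm⟩ : ↥Cc) = ⟨k, hk⟩⁻¹ * g * ⟨k, hk⟩ from rfl, map_mul, map_mul, map_inv,
        mul_smul, mul_smul, inv_smul_eq_iff] at hfix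
      exact hfix
    have hd := hu.eq_of_fix (key u hu.1 rfl) hud
    exact hd ▸ key u' hu'.1 he
  -- the elements of order four
  have hsq : ∀ x ∈ T, s * x * (s * x) = x * (s * x * s) := fun x hx => by
    rw [C.kit.comm hx (O.norm x hx), mul_assoc (s * x) s x]
  have hone : ∀ x, (hx : x ∈ T) → s * x ≠ x * s → (∀ d ∈ S, (x * (s * x * s)) • d = d) →
      OneFix ↥S (toImg hS ⟨s * x, hPC (mul_mem hsP (hTP hx))⟩) := by
    intro x hx hne hfix
    set y := toImg hS ⟨s * x, hPC (mul_mem hsP (hTP hx))⟩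
    have y2 : y * y = 1 := toImg_sq hS fun d hd => by
      show (s * x * (s * x)) • d = d
      rw [hsq x hx]; exact hfix d hd
    refine ⟨y2, le_antisymm ?_ ((Set.ncard_pos (Set.toFinite _)).mpr ⟨c, hcP _ (mul_mem hsP (hTP hx))⟩)⟩
    by_contra hlt
    obtain ⟨p, r, hp, hr, hpr⟩ := (Set.one_lt_ncard_iff (Set.toFinite _)).mp (not_le.mp hlt)
    have h4 : (s * x) ^ 2 ^ 2 = 1 := by
      rw [show (2 : ℕ) ^ 2 = 2 * 2 by norm_num, pow_mul, pow_two, pow_two, hsq x hx,
        C.kit.sq _ (O.fixed x hx).1]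
    have h2 := C.sq_of_fix h4 (fun e => hpr (Subtype.ext e)) ((toImg_fix hS).mp hp) ((toImg_fix hS).mp hr)
    refine hne ?_
    rw [hsq x hx] at h2
    have e1 : s * x * s = x⁻¹ := eq_inv_of_mul_eq_one_right h2
    rw [inv_of_sq (C.kit.sq _ hx)] at e1
    calc s * x = s * x * (s * s) := by rw [O.sq, mul_one]
      _ = x * s := by rw [← mul_assoc, e1]
  have hnc : ∀ x, x ∈ T → x * (s * x * s) ≠ 1 → s * x ≠ x * s := fun x hx h e => h (by
    rw [e, mul_assoc, O.sq, mul_one, C.kit.sq x hx])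
  -- `T0` fixes every fixed point of `t`
  obtain ⟨v0, hv0, hv0f⟩ := O.onto t ⟨ht, Subgroup.mem_centralizer_singleton_iff.mpr hst.symm⟩
  have hv0nc := hnc v0 hv0 (by rw [hv0f]; exact t1)
  have hy0 := hone v0 hv0 hv0nc (fun d hd => by rw [hv0f]; exact hd)
  set y0 := toImg hS ⟨s * v0, hPC (mul_mem hsP (hTP hv0))⟩
  have huniq : ∀ x y : ↥(Img hS), OneFix ↥S x → OneFix ↥S y → x • c = c → y • c = c → x = y :=
    fun x y hx hy => mid htr hpair hx hy
  have hT0fix : ∀ w ∈ T0, ∀ d ∈ S, w • d = d := by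
    intro w hw
    obtain ⟨x, hx, rfl⟩ := O.onto w hw
    have hcom := comm_of_unique huniq hy0 (hcP _ (mul_mem hsP (hTP hv0))) (hcP x (hTP hx))
    rw [← mul_inv_eq_iff_eq_mul, ← map_inv, ← map_mul, ← map_mul, toImg_eq] at hcom
    intro d hd
    have h1 : (x * (s * v0) * x⁻¹) • d = (s * v0) • d := hcom d hd
    have e : x * (s * v0) * x⁻¹ = s * v0 * (x * (s * x * s)) := by
      rw [inv_of_sq (C.kit.sq x hx)]
      calc x * (s * v0) * x = s * ((s * x * s) * (v0 * x)) := by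
            rw [show s * ((s * x * s) * (v0 * x)) = (s * s) * (x * (s * v0) * x) by group, O.sq, one_mul]
        _ = s * (v0 * ((s * x * s) * x)) := by
            rw [← mul_assoc (s * x * s) v0 x, C.kit.comm (O.norm x hx) hv0, mul_assoc]
        _ = _ := by rw [C.kit.comm (O.norm x hx) hx, ← mul_assoc]
    rw [e, mul_smul] at h1
    exact MulAction.injective _ h1
  -- all of `T` fixes them
  have hTfix : ∀ x ∈ T, ∀ d ∈ S, x • d = d := by
    have him : ∀ x, (hx : x ∈ T) → x ∉ T0 → toImg hS ⟨x, hTC hx⟩ = toImg hS ⟨v0, hTC hv0⟩ := by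
      intro x hx hx0
      have hx' : s * x ≠ x * s := fun e => hx0 ⟨hx, Subgroup.mem_centralizer_singleton_iff.mpr e.symm⟩
      have h1 := huniq _ _ (hone x hx hx' (hT0fix _ (O.fixed x hx))) hy0 (hcP _ (mul_mem hsP (hTP hx)))
        (hcP _ (mul_mem hsP (hTP hv0)))
      rw [show (⟨s * x, hPC (mul_mem hsP (hTP hx))⟩ : ↥Cc) = ⟨s, hsC⟩ * ⟨x, hTC hx⟩ from rfl,
        show y0 = toImg hS (⟨s, hsC⟩ * ⟨v0, hTC hv0⟩) from rfl, map_mul, map_mul] at h1
      exact mul_left_cancel h1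
    have hv00 : v0 ∉ T0 := fun h => hv0nc (Subgroup.mem_centralizer_singleton_iff.mp h.2).symm
    obtain ⟨x, hx, hx0, hxv⟩ : ∃ x ∈ T, x ∉ T0 ∧ x * v0 ∉ T0 := by
      by_contra hall
      push Not at hall
      have hsub : (T : Set G) ⊆ (T0 : Set G) ∪ (fun w => w * v0) '' (T0 : Set G) := by
        intro w hw
        by_cases h : w ∈ T0
        · exact Or.inl h
        · exact Or.inr ⟨w * v0, hall w hw h, by show w * v0 * v0 = w; rw [mul_assoc, C.kit.sq v0 hv0, mul_one]⟩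
      have h1 := (Set.ncard_le_ncard hsub (Set.toFinite _)).trans (Set.ncard_union_le _ _)
      rw [Set.ncard_image_of_injective _ (mul_left_injective v0), ← Nat.card_coe_set_eq, ← Nat.card_coe_set_eq] at h1
      have h := O.card
      change Nat.card T0 ^ 2 = Nat.card T at h
      change Nat.card T ≤ Nat.card T0 + Nat.card T0 at h1
      nlinarith
    have e1 := him x hx hx0
    have e2 := him (x * v0) (mul_mem hx hv0) hxv
    rw [show (⟨x * v0, hTC (mul_mem hx hv0)⟩ : ↥Cc) = ⟨x, hTC hx⟩ * ⟨v0, hTC hv0⟩ from rfl, map_mul, e1,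
      mul_eq_left] at e2
    intro y hy
    by_cases hy0' : y ∈ T0
    · exact hT0fix y hy0'
    · have e3 := him y hy hy0'
      rw [e2] at e3
      exact (toImg_eq_one hS).mp e3
  have hF : ∀ u ∈ T, u ≠ 1 → fixedBy Ω u = S := fun u hu u1 =>
    (Set.eq_of_subset_of_ncard_le (fun d hd => hTfix u hu d hd)
      ((cls_fix (C.mem_cls I C.ne (C.kit.le hu).1 (C.kit.le hu).2 (C.kit.sq u hu) u1)).le) (Set.toFinite _)).symm
  -- the centraliser of `s` on its fixed points is sharply transitive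
  have h2 : TwoTrans ↥(Img hS) ↥S := img_two hS I.mem.1 I.mem.2 fun c d hc hd hcd => C.cent_trans I hc hd hcd
  have hsharp : ∀ (g : ↥(Img hS)) (p r : ↥S), p ≠ r → g • p = p → g • r = r → g = 1 := by
    intro g p r hpr hp hr
    obtain ⟨k, hkp, hkr⟩ := h2 p r A B hpr (fun e => C.ne (congrArg Subtype.val e))
    obtain ⟨w, hw⟩ := toImg_surj hS (k * g * k⁻¹)
    have hA : toImg hS w • A = A := by rw [hw, ← hkp]; exact conj_fix hp
    have hB : toImg hS w • B = B := by rw [hw, ← hkr]; exact conj_fix hr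
    have hwT := K.cent t ht t1 _ ⟨(toImg_fix hS).mp hA, (toImg_fix hS).mp hB⟩
      (Subgroup.mem_centralizer_singleton_iff.mp w.2)
    exact conj_eq_one_iff.mp (hw.symm.trans ((toImg_eq_one hS).mpr (hTfix _ hwT)))
  obtain ⟨g, hg⟩ := O.mem_cls
  have hgC : ∀ x ∈ T0, g⁻¹ * x * g ∈ Cc := by
    intro x hx
    rw [Subgroup.mem_centralizer_singleton_iff]
    have e : t = g⁻¹ * s * g := by rw [← hg]; group
    rw [e]
    calc g⁻¹ * x * g * (g⁻¹ * s * g) = g⁻¹ * (x * s) * g := by group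
      _ = _ := by rw [Subgroup.mem_centralizer_singleton_iff.mp hx.2]; group
  let φ : ↥T0 →* ↥(Img hS) := (toImg hS).comp
    { toFun := fun x => ⟨g⁻¹ * x * g, hgC x x.2⟩
      map_one' := Subtype.ext (by show g⁻¹ * (1 : G) * g = 1; group)
      map_mul' := fun x y => Subtype.ext (by
        show g⁻¹ * ((x : G) * y) * g = g⁻¹ * x * g * (g⁻¹ * y * g); group) }
  have hφ2 : ∀ x : ↥T0, φ x * φ x = 1 := fun x => by
    rw [← map_mul, show x * x = 1 from Subtype.ext (C.kit.sq _ x.2.1), map_one]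
  obtain ⟨x, x1, hx⟩ : ∃ x : ↥T0, x ≠ 1 ∧ φ x = 1 := by
    obtain ⟨x, y, x1, y1, hxy⟩ : ∃ x y : ↥T0, x ≠ 1 ∧ y ≠ 1 ∧ x ≠ y := by
      haveI := Fintype.ofFinite ↥T0
      have h3 : 2 < (Finset.univ : Finset ↥T0).card := by
        rw [Finset.card_univ, ← Nat.card_eq_fintype_card]; omega
      obtain ⟨p, q, r, -, -, -, hpq, hpr, hqr⟩ := Finset.two_lt_card_iff.mp h3
      by_cases hp : p = 1
      · exact ⟨q, r, fun e => hpq (hp.trans e.symm), fun e => hpr (hp.trans e.symm), hqr⟩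
      by_cases hq : q = 1
      · exact ⟨p, r, hp, fun e => hqr (hq.trans e.symm), hpr⟩
      exact ⟨p, q, hp, hq, hpq⟩
    by_cases hx : φ x = 1
    · exact ⟨x, x1, hx⟩
    by_cases hy : φ y = 1
    · exact ⟨y, y1, hy⟩
    have hxy' : φ x * φ y = φ y * φ x := by
      rw [← map_mul, ← map_mul]; exact congrArg φ (Subtype.ext (C.kit.comm x.2.1 y.2.1))
    obtain ⟨d, hd, hyd⟩ := exists_fix_of_two (g := φ y) (k := 1) (by rw [pow_one, pow_two]; exact hφ2 _)
      (S := fixedBy ↥S (φ x)) (fun d hd => fix_comm hxy' hd) (odd_fixedBy (hφ2 _) hoddS)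
    have heq := sharp_unique htr hsharp (hφ2 x) hx (hφ2 y) hy hd hyd
    refine ⟨x * y, fun e => hxy ?_, by rw [map_mul, heq, hφ2]⟩
    exact (eq_inv_of_mul_eq_one_left e).trans (Subtype.ext (inv_of_sq (C.kit.sq _ y.2.1)))
  have hsub : fixedBy Ω s ⊆ fixedBy Ω (x : G) := by
    intro d hd
    have hd' : g⁻¹ • d ∈ S := by
      show t • g⁻¹ • d = g⁻¹ • d
      rw [show t = g⁻¹ * s * g by rw [← hg]; group, mul_smul, mul_smul, smul_inv_smul, (hd : s • d = d)]
    have h3 : (g⁻¹ * (x : G) * g) • g⁻¹ • d = g⁻¹ • d := (toImg_eq_one hS).mp hx _ hd'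
    rw [mul_smul, mul_smul, smul_inv_smul, smul_left_cancel_iff] at h3
    exact h3
  have x1' : (x : G) ≠ 1 := fun e => x1 (Subtype.ext e)
  rw [hF _ x.2.1 x1'] at hsub
  have heq : fixedBy Ω s = S := Set.eq_of_subset_of_ncard_le hsub (cls_fix O.mem_cls).ge (Set.toFinite _)
  have : a ∈ fixedBy Ω s := heq ▸ I.mem.1
  exact C.ne (((this : s • a = a)).symm.trans O.sa)

end CfsgLib.StabSimpAb
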