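import Cfsg.Agent.Lib.StabSimpAb.OuterSylow
import Cfsg.Agent.Lib.GW.Final
import Cfsg.Agent.Lib.GW.Hyp

/-!
Odd degree, an outer swapper, a four group: a regular normal subgroup.

With trivial odd core the perfect core `L` has dihedral Sylow 2-subgroups, so it is `L₂(r)` or `A₇`
(Gorenstein–Walter). The torus of `L` at `t` is transitive on the fixed points of `t`, and the index of
`L` would be even.

Blueprint: `blueprint/S3400.md`, section 2 (OUTER, O).
-/

set_option autoImplicit false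
set_option linter.unusedSectionVars false
set_option linter.style.haveILetI false

namespace CfsgLib.StabSimpAb

open MulAction CfsgLib.StabAlt5 CfsgLib.GW.Model CfsgLib.PSL2Max
open scoped commutatorElement

universe u v

variable {G : Type u} [Group G] [Finite G] {Ω : Type v} [Finite Ω] [MulAction G Ω] [FaithfulSMul G Ω]
variable {a b : Ω} {T : Subgroup G} {s t : G} {F : Type} [Field F] [Fintype F]

/-- The torus of `L₂(r) ≅ L ⊴ G` at an involution. -/
theorem exists_torus {L : Subgroup G} (htL : t ∈ L) (t2 : t * t = 1) (t1 : t ≠ 1) {K : Type} [Field K] [Fintype K]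
    (hodd : Odd (Fintype.card K)) (h3 : 3 < Fintype.card K)
    (e : ↥L ≃* Matrix.ProjectiveSpecialLinearGroup (Fin 2) K) :
    ∃ U : Subgroup G, U ≤ L ⊓ Subgroup.centralizer ({t} : Set G) ∧ IsCyclic U ∧
      Nat.card ↥(L ⊓ Subgroup.centralizer ({t} : Set G)) = 2 * Nat.card U ∧
      ∀ g ∈ L ⊓ Subgroup.centralizer ({t} : Set G), g ∉ U → g * g = 1 := by
  classical
  let tL : ↥L := ⟨t, htL⟩
  set τ := phi (e tL)
  obtain ⟨h2, h1⟩ := phi_invol (x := e tL) (by rw [← map_mul, ← map_one e]; exact congrArg e (Subtype.ext t2))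
    (fun h => t1 (congrArg Subtype.val (e.injective (h.trans (map_one e).symm))))
  obtain ⟨U, hUc, -, -, hUC, -, -, hUhalf, hCP, hout, -⟩ := invol_cent hodd h3 h2 h1
  set CL := L ⊓ Subgroup.centralizer ({t} : Set G)
  set UG : Subgroup G := ((U.comap phi).comap e.toMonoidHom).map L.subtype with hUG
  have hmem : ∀ (g : G) (hg : g ∈ L), g ∈ UG ↔ phi (e ⟨g, hg⟩) ∈ U := fun g hg => by
    constructor
    · rintro ⟨x, hx, rfl⟩; exact hx
    · exact fun h => ⟨⟨g, hg⟩, h, rfl⟩
  have hcent : ∀ (g : G) (hg : g ∈ L), g * t = t * g ↔ phi (e ⟨g, hg⟩) ∈ Subgroup.centralizer ({τ} : Set _) :=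
    fun g hg => by
      rw [Subgroup.mem_centralizer_singleton_iff]
      show g * t = t * g ↔ phi (e ⟨g, hg⟩) * phi (e tL) = phi (e tL) * phi (e ⟨g, hg⟩)
      constructor
      · intro h
        rw [← map_mul, ← map_mul, ← map_mul, ← map_mul]
        exact congrArg (fun z => phi (e z)) (Subtype.ext h)
      · intro h
        rw [← map_mul phi, ← map_mul phi, phi_injective.eq_iff, ← map_mul e, ← map_mul e, e.injective.eq_iff] at h
        exact congrArg Subtype.val h
  have hle : UG ≤ CL := by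
    rintro _ ⟨⟨g, hg⟩, hx, rfl⟩
    exact ⟨hg, Subgroup.mem_centralizer_singleton_iff.mpr ((hcent g hg).mpr (hUC hx))⟩
  have hcU : Nat.card UG = Nat.card (U.comap (phi (F := K))) := by
    rw [hUG, Subgroup.card_map_of_injective L.subtype_injective]
    exact Nat.card_congr (e.toEquiv.subtypeEquiv fun x => Iff.rfl)
  have hcC : Nat.card CL = torusOrder τ := by
    rw [← hCP]
    exact Nat.card_congr
      { toFun := fun g => ⟨e ⟨g.1, g.2.1⟩, (hcent g.1 g.2.1).mp (Subgroup.mem_centralizer_singleton_iff.mp g.2.2)⟩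
        invFun := fun x => ⟨(e.symm x.1 : G), (e.symm x.1).2, Subgroup.mem_centralizer_singleton_iff.mpr
          ((hcent _ (e.symm x.1).2).mpr (by rw [e.apply_symm_apply]; exact x.2))⟩
        left_inv := fun g => Subtype.ext (by show ((e.symm (e ⟨g.1, g.2.1⟩) : ↥L) : G) = g.1; rw [e.symm_apply_apply])
        right_inv := fun x => Subtype.ext (e.apply_symm_apply x.1) }
  refine ⟨UG, hle, ?_, by rw [hcC, hcU, hUhalf], fun g hg hgU => ?_⟩
  · haveI := hUc
    let f : ↥UG →* ↥U :=
      { toFun := fun g => ⟨phi (e ⟨g.1, (hle g.2).1⟩), (hmem g.1 (hle g.2).1).mp g.2⟩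
        map_one' := Subtype.ext (show phi (e 1) = 1 by rw [map_one, map_one])
        map_mul' := fun g h => Subtype.ext (by
          show phi (e (⟨g.1, (hle g.2).1⟩ * ⟨h.1, (hle h.2).1⟩)) = _
          rw [map_mul, map_mul]; rfl) }
    exact isCyclic_of_injective f fun g h he => Subtype.ext
      (show (g : G) = h from congrArg (Subtype.val (p := fun y : G => y ∈ L))
        (e.injective (phi_injective (congrArg Subtype.val he) :)))
  · have h := (hout (phi (e ⟨g, hg.1⟩)) ((hcent g hg.1).mp (Subgroup.mem_centralizer_singleton_iff.mp hg.2))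
      fun hU => hgU ((hmem g hg.1).mpr hU)).1
    rw [← map_mul, ← map_one phi, phi_injective.eq_iff, ← map_mul, ← map_one e, e.injective.eq_iff] at h
    exact congrArg Subtype.val h

variable (D : OuterFour s t a b T F)
include D

/-- A normal subgroup `L₂(r)` containing the two-point stabiliser and the Sylow subgroups is absent. -/
theorem OuterFour.false_of_psl {L : Subgroup G} [L.Normal] (hHL : stab2 G a b ≤ L) {S : Sylow 2 G}
    (hSL : (S : Subgroup G) ≤ L) (hSt : ∀ g ∈ (S : Subgroup G), g * t = t * g)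
    (hS8 : 8 ≤ Nat.card (S : Subgroup G)) {K : Type} [Field K] [Fintype K] (hodd : Odd (Fintype.card K))
    (h3 : 3 < Fintype.card K) (e : ↥L ≃* Matrix.ProjectiveSpecialLinearGroup (Fin 2) K) : False := by
  classical
  haveI : Fact (Nat.Prime 2) := ⟨Nat.prime_two⟩
  have C := D.cx
  have I := D.inv
  set H := stab2 G a b
  set Cc := Subgroup.centralizer ({t} : Set G)
  set CL := L ⊓ Cc
  obtain ⟨U, hUle, hUcyc, hCLc, hout⟩ := exists_torus (hHL I.mem) I.sq I.ne_one hodd h3 e
  replace hCLc : Nat.card CL = 2 * Nat.card U := hCLc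
  haveI := hUcyc
  haveI : IsMulCommutative U := IsCyclic.isMulCommutative
  have hScard : 8 ∣ Nat.card CL := by
    have hSle : (S : Subgroup G) ≤ CL := fun g hg => ⟨hSL hg, Subgroup.mem_centralizer_singleton_iff.mpr (hSt g hg)⟩
    obtain ⟨k, hk⟩ := IsPGroup.iff_card.mp S.2
    refine (dvd_trans ?_ (Subgroup.card_dvd_of_le hSle))
    rw [hk]
    refine Nat.pow_dvd_pow 2 (show 3 ≤ k from ?_)
    by_contra hlt
    have : Nat.card (S : Subgroup G) ≤ 2 ^ 2 := hk ▸ Nat.pow_le_pow_right two_pos (by omega)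
    omega
  have h4U : 4 ∣ Nat.card U := by omega
  -- the torus is normal in the centraliser
  obtain ⟨g0, hg0⟩ := IsCyclic.exists_ofOrder_eq_natCard (α := U)
  have hgen : ∀ x ∈ U, ∃ i : ℤ, x = (g0 : G) ^ i := fun x hx => by
    have htop : (⟨x, hx⟩ : U) ∈ Subgroup.zpowers g0 := by
      rw [Subgroup.eq_top_of_card_eq (Subgroup.zpowers g0) (by rw [Nat.card_zpowers, hg0])]
      exact Subgroup.mem_top _
    obtain ⟨i, hi⟩ := Subgroup.mem_zpowers_iff.mp htop
    exact ⟨i, by rw [← SubgroupClass.coe_zpow, hi]⟩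
  have hg02 : (g0 : G) * g0 ≠ 1 := fun h => by
    have : orderOf g0 ∣ 2 := orderOf_dvd_of_pow_eq_one (Subtype.ext (by rw [pow_two]; exact h))
    rw [hg0] at this
    have := Nat.le_of_dvd two_pos this
    have := Nat.le_of_dvd Nat.card_pos h4U
    omega
  have hUn : ∀ c ∈ Cc, ∀ x ∈ U, c * x * c⁻¹ ∈ U := by
    intro c hc x hx
    have hc0 : c * (g0 : G) * c⁻¹ ∈ U := by
      by_contra hn
      have h := hout (c * g0 * c⁻¹) ⟨Subgroup.Normal.conj_mem inferInstance _ (hUle g0.2).1 c,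
        Cc.mul_mem (Cc.mul_mem hc (hUle g0.2).2) (Cc.inv_mem hc)⟩ hn
      rw [conj_mul, conj_eq_one_iff] at h
      exact hg02 h
    obtain ⟨i, rfl⟩ := hgen x hx
    rw [← conj_zpow]
    exact zpow_mem hc0 i
  -- it moves a point
  set Φ := fixedBy Ω t
  have hUΦ : ∀ x ∈ U, ∀ p ∈ Φ, x • p ∈ Φ := fun x hx p hp =>
    fix_comm (Subgroup.mem_centralizer_singleton_iff.mp (hUle hx).2).symm hp
  obtain ⟨x0, hx0, hxa⟩ : ∃ x ∈ U, x • a ≠ a := by
    by_contra hall
    push Not at hall
    have hallb : ∀ x ∈ U, x • b = b := by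
      intro x hx
      obtain ⟨g, hg, hga, -⟩ := C.cent_trans I I.mem.2 I.mem.1 C.ne.symm
      have := hall _ (hUn _ (inv_mem hg) x hx)
      rwa [inv_inv, mul_smul, mul_smul, hga, inv_smul_eq_iff, hga] at this
    obtain ⟨j, hj⟩ := h4U
    set y := (g0 : G) ^ j
    have hyU : y ∈ U := pow_mem g0.2 j
    have h4 : y ^ 2 ^ 2 = 1 := by
      rw [← pow_mul, show j * 2 ^ 2 = Nat.card U by rw [hj]; ring, ← hg0, ← SubgroupClass.coe_pow,
        pow_orderOf_eq_one, OneMemClass.coe_one]
    have hsq := C.sq_of_fix h4 C.ne (hall y hyU) (hallb y hyU)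
    have : orderOf g0 ∣ j + j := orderOf_dvd_of_pow_eq_one (Subtype.ext (by
      rw [SubgroupClass.coe_pow, pow_add]; exact hsq))
    rw [hg0] at this
    have hpos : 0 < j := by
      rcases Nat.eq_zero_or_pos j with h | h
      · rw [h, mul_zero] at hj; exact absurd hj Nat.card_pos.ne'
      · exact h
    have := Nat.le_of_dvd (by omega) this
    omega
  have horb : ∀ p ∈ Φ, ∃ x ∈ U, x • a = p := by
    intro p hp
    by_cases hpa : p = a
    · exact ⟨1, one_mem _, by rw [one_smul, hpa]⟩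
    obtain ⟨g1, hg1, h1a, h1b⟩ := C.cent_trans I I.mem.1 (hUΦ x0 hx0 a I.mem.1) hxa.symm
    obtain ⟨g2, hg2, h2a, h2b⟩ := C.cent_trans I I.mem.1 hp (Ne.symm hpa)
    refine ⟨g2 * g1⁻¹ * x0 * (g2 * g1⁻¹)⁻¹, hUn _ (mul_mem hg2 (inv_mem hg1)) x0 hx0, ?_⟩
    have e1 : g1⁻¹ • a = a := inv_smul_eq_iff.mpr h1a.symm
    have e2 : (g2 * g1⁻¹)⁻¹ • a = a := inv_smul_eq_iff.mpr (by rw [mul_smul, e1, h2a])
    rw [mul_smul, e2, mul_smul, mul_smul, ← h1b, inv_smul_smul, h2b]
  -- its order
  set U0 := U ⊓ stabilizer G a with hU0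
  have hU0H : U0 ≤ H := fun x hx => by
    refine ⟨hx.2, ?_⟩
    obtain ⟨y, hy, hyb⟩ := horb b I.mem.2
    have hc : x * y = y * x := setLike_mul_comm hx.1 hy
    show x • b = b
    rw [← hyb, ← mul_smul, hc, mul_smul, show x • a = a from hx.2]
  have hUc : Nat.card U = Φ.ncard * Nat.card U0 := by
    have ho : orbit ↥U a = Φ := by
      ext p
      constructor
      · rintro ⟨x, rfl⟩; exact hUΦ x x.2 a I.mem.1
      · intro hp; obtain ⟨x, hx, he⟩ := horb p hp; exact ⟨⟨x, hx⟩, he⟩
    have hs : Nat.card (stabilizer ↥U a) = Nat.card U0 := Nat.card_congr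
      { toFun := fun x => ⟨(x.1 : G), x.1.2, x.2⟩
        invFun := fun x => ⟨⟨x.1, x.2.1⟩, x.2.2⟩
        left_inv := fun _ => rfl
        right_inv := fun _ => rfl }
    have h := Subgroup.card_mul_index (stabilizer ↥U a)
    rw [index_stabilizer, ho, hs, mul_comm] at h
    exact h.symm
  -- half of the centraliser in `H`
  set R := H ⊓ Cc
  have hU0R : U0 ≤ R := le_inf hU0H fun x hx => (hUle hx.1).2
  have hTR : T ≤ R := le_inf C.kit.le fun x hx =>
    Subgroup.mem_centralizer_singleton_iff.mpr (C.kit.comm hx D.memT)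
  have hRCL : R ≤ CL := fun x hx => ⟨hHL hx.1, hx.2⟩
  obtain ⟨v, hvT, hvU⟩ : ∃ v ∈ T, v ∉ U := by
    by_contra hall
    push Not at hall
    haveI := isKleinFour_of_sq D.four C.kit.sq
    haveI : IsCyclic T := isCyclic_of_injective (Subgroup.inclusion (show T ≤ U from hall))
      (Subgroup.inclusion_injective _)
    exact IsKleinFour.not_isCyclic (G := T) inferInstance
  have hidx : (U.subgroupOf CL).index = 2 := by
    have h := Subgroup.card_mul_index (U.subgroupOf CL)
    rw [Nat.card_congr (Subgroup.subgroupOfEquivOfLe hUle).toEquiv, hCLc, mul_comm 2] at h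
    exact Nat.eq_of_mul_eq_mul_left Nat.card_pos h
  have hRc : Nat.card R = 2 * Nat.card U0 := by
    have h2 : (U0.subgroupOf R).index = 2 := by
      refine Subgroup.index_eq_two_iff.mpr ⟨⟨v, hTR hvT⟩, fun w => ?_⟩
      have hkey : ∀ y : R, y ∈ U0.subgroupOf R ↔ (y : G) ∈ U := fun y =>
        ⟨fun h => h.1, fun h => ⟨h, y.2.1.1⟩⟩
      rw [hkey, hkey, Subgroup.coe_mul, xor_def]
      have hiff := Subgroup.mul_mem_iff_of_index_two hidx (a := ⟨w, hRCL w.2⟩) (b := ⟨v, hRCL (hTR hvT)⟩)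
      simp only [Subgroup.mem_subgroupOf, Subgroup.coe_mul] at hiff
      by_cases hw : (w : G) ∈ U
      · exact Or.inr ⟨hw, fun h => hvU ((hiff.mp h).mp hw)⟩
      · exact Or.inl ⟨hiff.mpr (iff_of_false hw hvU), hw⟩
    have h := Subgroup.card_mul_index (U0.subgroupOf R)
    rw [h2, Nat.card_congr (Subgroup.subgroupOfEquivOfLe hU0R).toEquiv] at h
    rw [← h, mul_comm]
  -- the index
  have hsupp : Nat.card Cc = L.index * Nat.card CL := card_supplement L Cc fun g => by
    have hgL : g * t * g⁻¹ ∈ L := Subgroup.Normal.conj_mem inferInstance t (hHL I.mem) g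
    obtain ⟨h2, h1⟩ := phi_invol (x := e ⟨_, hgL⟩) (by
        rw [← map_mul, ← map_one e]
        exact congrArg e (Subtype.ext (show g * t * g⁻¹ * (g * t * g⁻¹) = 1 by
          rw [conj_mul, I.sq, mul_one, mul_inv_cancel])))
      (fun h => I.ne_one (conj_eq_one_iff.mp (congrArg Subtype.val (e.injective (h.trans (map_one e).symm)))))
    obtain ⟨h4, h3'⟩ := phi_invol (x := e ⟨t, hHL I.mem⟩) (by rw [← map_mul, ← map_one e]; exact congrArg e (Subtype.ext I.sq))
      (fun h => I.ne_one (congrArg Subtype.val (e.injective (h.trans (map_one e).symm))))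
    obtain ⟨x, hx⟩ := invol_conj hodd h3 h2 h1 h4 h3' (iff_of_true ⟨_, rfl⟩ ⟨_, rfl⟩)
    obtain ⟨l, rfl⟩ := e.surjective x
    rw [← map_inv, ← map_mul, ← map_mul, phi_injective.eq_iff, ← map_inv, ← map_mul, ← map_mul,
      e.injective.eq_iff] at hx
    refine ⟨l, l.2, Subgroup.mem_centralizer_singleton_iff.mpr (mul_inv_eq_iff_eq_mul.mp ?_)⟩
    have hx' : (l : G) * (g * t * g⁻¹) * (l : G)⁻¹ = t := congrArg Subtype.val hx
    exact (by group : (l : G) * g * t * ((l : G) * g)⁻¹ = (l : G) * (g * t * g⁻¹) * (l : G)⁻¹).trans hx'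
  obtain ⟨hcc, -⟩ := C.card_cent I
  have hf : L.index = Φ.ncard - 1 := by
    rw [hsupp, hCLc, hUc] at hcc
    change L.index * (2 * (Φ.ncard * Nat.card U0)) = Φ.ncard * ((Φ.ncard - 1) * Nat.card R) at hcc
    rw [hRc] at hcc
    refine Nat.eq_of_mul_eq_mul_left (show 0 < 2 * (Φ.ncard * Nat.card U0) from ?_) ?_
    · have : 2 ≤ Φ.ncard := C.two_le_fix I
      exact Nat.mul_pos two_pos (Nat.mul_pos (by omega) Nat.card_pos)
    · linarith
  have hm : Odd Φ.ncard := odd_fixedBy I.sq D.odd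
  have hS := S.not_dvd_index
  refine hS (dvd_trans ?_ (Subgroup.index_dvd_of_le hSL))
  rw [hf]
  obtain ⟨k, hk⟩ := hm
  exact ⟨k, by omega⟩

/-- A regular normal subgroup. -/
theorem OuterFour.regular (h60 : 60 < Nat.card (stab2 G a b)) :
    ∃ P : Subgroup G, P.Normal ∧ (∀ c d : Ω, ∃ x ∈ P, x • c = d) ∧ ∀ x ∈ P, ∀ c : Ω, x • c = c → x = 1 := by
  classical
  haveI : Fact (Nat.Prime 2) := ⟨Nat.prime_two⟩
  have C := D.cx
  by_cases hcore : Cfsg.oddCore G = ⊥
  swap
  · obtain ⟨P, hP, -, -, h1, h2⟩ := regular_of_odd C.two (Cfsg.oddCore G) CfsgLib.odd_card_oddCore hcore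
    exact ⟨P, hP, h1, h2⟩
  exfalso
  obtain ⟨n, hn⟩ := CfsgLib.GW.exists_perfect_derived G
  set L := derivedSeries G n
  haveI : Group.IsPerfect L := hn
  haveI : L.Normal := derivedSeries_normal G n
  set H := stab2 G a b
  haveI := C.kit.simple
  haveI : Group.IsPerfect H := Group.isPerfect_def.mpr
    ((commutator ↥H).normal_of_characteristic.eq_bot_or_eq_top.resolve_left fun h =>
      C.kit.nonab ⟨⟨fun x y => by
        have hm : ⁅x, y⁆ ∈ commutator ↥H := Subgroup.commutator_mem_commutator (Subgroup.mem_top x) (Subgroup.mem_top y)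
        rw [h, Subgroup.mem_bot] at hm
        exact commutatorElement_eq_one_iff_mul_comm.mp hm⟩⟩)
  have hHL : H ≤ L := CfsgLib.GW.perfect_le_derived H n
  have hinv : ∀ x : G, x * x = 1 → x ∈ L := by
    intro x x2
    by_cases x1 : x = 1
    · rw [x1]; exact one_mem _
    obtain ⟨g, rfl⟩ := D.one_class x2 x1
    exact Subgroup.Normal.conj_mem inferInstance t (hHL D.inv.mem) g
  obtain ⟨S, x, u, hxS, huS, hu2, -, hux, hsplit, -, hS8, hnorm, k, hk, ⟨eS⟩⟩ := D.exists_sylow
  have hxL : x ∈ L := by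
    have h := mul_mem (hinv u hu2) (hinv (u * x) hux)
    rwa [← mul_assoc, hu2, one_mul] at h
  have hSL : (S : Subgroup G) ≤ L := by
    intro w hw
    have hz : Subgroup.zpowers x ≤ L := Subgroup.zpowers_le.mpr hxL
    rcases hsplit w hw with h | h
    · exact hz h
    · have h' := mul_mem (hinv u hu2) (hz h)
      rwa [← mul_assoc, hu2, one_mul] at h'
  have hD : CfsgLib.GW.GWDihedral ↥L :=
    ⟨S.subtype hSL, k, hk, ⟨(Subgroup.subgroupOfEquivOfLe hSL).trans eS⟩⟩
  have hbot : Cfsg.oddCore ↥L = ⊥ := (Subgroup.map_eq_bot_iff_of_injective _ L.subtype_injective).mp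
    (le_bot_iff.mp ((CfsgLib.map_pPrimeCore_le 2 L).trans hcore.le))
  let e0 : ↥L ≃* ↥L ⧸ Cfsg.oddCore ↥L :=
    QuotientGroup.quotientBot.symm.trans (QuotientGroup.quotientMulEquivOfEq hbot.symm)
  rcases CfsgLib.GW.gwThm L hD with ⟨K, _, _, hodd, h3, ⟨e⟩⟩ | ⟨⟨e⟩⟩
  · exact D.false_of_psl hHL hSL (fun g hg => hnorm g (Subgroup.le_normalizer hg)) hS8 hodd h3 (e0.trans e)
  · obtain ⟨eF⟩ := D.iso
    have hdvd : Nat.card H ∣ 2520 := by
      have h := Subgroup.card_dvd_of_le hHL
      rw [Nat.card_congr (e0.trans e).toEquiv, nat_card_alternatingGroup, Nat.card_fin] at h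
      simpa [Nat.factorial] using h
    have hc := CfsgLib.DicksonFull.card_psl (F := F)
    rw [← Nat.card_congr eF.toEquiv, show Nat.gcd 2 (Fintype.card F - 1) = 2 by
      refine Nat.gcd_eq_left ?_; have := D.mod8; omega] at hc
    change 2 * Nat.card H = _ at hc
    have hle := Nat.le_of_dvd (by norm_num) hdvd
    have hq8 := D.mod8
    have hq : Fintype.card F ≤ 17 := by
      by_contra hlt
      have h1 : 18 * 323 ≤ Fintype.card F * (Fintype.card F ^ 2 - 1) :=
        Nat.mul_le_mul (by omega) (by have := Nat.pow_le_pow_left (show 18 ≤ Fintype.card F by omega) 2; omega)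
      omega
    have := D.five
    interval_cases hqe : Fintype.card F <;> norm_num at hc hq8 <;>
      first
      | omega
      | (have e1 : Nat.card H = 660 := by omega
         rw [e1] at hdvd; norm_num at hdvd)
      | (have e1 : Nat.card H = 1092 := by omega
         rw [e1] at hdvd; norm_num at hdvd)

end CfsgLib.StabSimpAb
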