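import Cfsg.Agent.Lib.StabSimpAb.DirectCount
import Cfsg.Agent.Lib.StabSimpAb.OuterModel
import Cfsg.Agent.Lib.StabSimpAb.FourLocal
import Cfsg.Agent.Lib.DihedralShape
import Cfsg.Agent.Lib.UniqueSubgroup

/-!
Odd degree, an outer swapper, a four group: the Sylow 2-subgroups are dihedral.

Blueprint: `blueprint/S3400.md`, section 2 (OUTER, O).
-/

set_option autoImplicit false
set_option linter.unusedSectionVars false
set_option linter.style.haveILetI false

namespace CfsgLib.StabSimpAb

open MulAction CfsgLib.StabAlt5 CfsgLib.GW.Model CfsgLib.PSL2Max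

universe u v

variable {G : Type u} [Group G] [Finite G] {Ω : Type v} [Finite Ω] [MulAction G Ω] [FaithfulSMul G Ω]
variable {a b : Ω} {T : Subgroup G}

/-- An outer swapper commuting with `t`, over `L₂(q)`. -/
structure OuterFour (s t : G) (a b : Ω) (T : Subgroup G) (F : Type) [Field F] [Fintype F] : Prop where
  cx : Cx a b T
  odd : Odd (Nat.card Ω)
  four : Nat.card T = 4
  memT : t ∈ T
  ne_one : t ≠ 1
  outer : Outer s t a b T
  comm : s * t = t * s
  mod8 : Fintype.card F % 8 = 3 ∨ Fintype.card F % 8 = 5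
  five : 5 ≤ Fintype.card F
  iso : Nonempty (↥(stab2 G a b) ≃* Matrix.ProjectiveSpecialLinearGroup (Fin 2) F)

variable {s t : G} {F : Type} [Field F] [Fintype F] (D : OuterFour s t a b T F)
include D

theorem OuterFour.inv : Inv2 t a b := D.cx.inv2_of_mem D.memT D.ne_one

theorem OuterFour.no_swap (z : G) : ¬ Swap z a b := fun Z => D.outer.no_swap D.cx Z

/-- One class of involutions. -/
theorem OuterFour.one_class {x : G} (x2 : x * x = 1) (x1 : x ≠ 1) : x ∈ cls t := by
  classical
  obtain ⟨e⟩ := D.iso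
  have C := D.cx
  obtain ⟨ψ, hinj, hmem, hψ⟩ := C.exists_model D.no_swap D.mod8 e
  have hodd : Odd (Fintype.card F) := Nat.odd_iff.mpr (by have := D.mod8; omega)
  obtain ⟨c, hc⟩ : ∃ c : Ω, x • c ≠ c := by
    by_contra hall
    push Not at hall
    exact x1 (eq_of_smul_eq_smul (α := Ω) fun c => by rw [hall c, one_smul])
  obtain ⟨g, hgc, hgd⟩ := C.two c (x • c) a b (Ne.symm hc) C.ne
  set x' := g * x * g⁻¹ with hx'
  have hxa : x' • a = b := by rw [hx', mul_smul, mul_smul, ← hgc, inv_smul_smul, hgd]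
  have hxb : x' • b = a := by
    rw [hx', mul_smul, mul_smul, ← hgd, inv_smul_smul, ← mul_smul x x, x2, one_smul, hgc]
  have hx'2 : x' * x' = 1 := by rw [hx', conj_mul, x2, mul_one, mul_inv_cancel]
  let xN : ↥(setwise G a b) := ⟨x', Or.inr ⟨hxa, hxb⟩⟩
  let sN : ↥(setwise G a b) := ⟨s, Or.inr ⟨D.outer.sa, D.outer.sb⟩⟩
  have hout : ∀ (w : ↥(setwise G a b)), (w : G) • a = b → ψ w ∉ (phi (F := F)).range := fun w hw h => C.ne (by
    have h1 : (w : G) • a = a := ((hmem w).mpr h).1
    rw [hw] at h1; exact h1.symm)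
  have hsR := hout sN D.outer.sa
  have hxR := hout xN hxa
  obtain ⟨w, hw⟩ := invol_conj (τ := ψ sN) (σ := ψ xN) hodd (by have := D.five; omega)
    (by rw [← map_mul, ← map_one ψ]; exact congrArg ψ (Subtype.ext D.outer.sq))
    (fun h => hsR (h ▸ one_mem _))
    (by rw [← map_mul, ← map_one ψ]; exact congrArg ψ (Subtype.ext hx'2))
    (fun h => hxR (h ▸ one_mem _)) (iff_of_false hsR hxR)
  obtain ⟨h, rfl⟩ := e.surjective w
  rw [← hψ, ← map_inv, ← map_mul, ← map_mul] at hw
  have he : (h : G) * s * (h : G)⁻¹ = x' := congrArg Subtype.val (hinj hw)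
  obtain ⟨k, hk⟩ := D.outer.mem_cls
  exact ⟨g⁻¹ * (h : G) * k, by
    rw [show g⁻¹ * (h : G) * k * t * (g⁻¹ * (h : G) * k)⁻¹ = g⁻¹ * ((h : G) * (k * t * k⁻¹) * (h : G)⁻¹) * g by group,
      hk, he, hx']
    group⟩

/-- A Sylow 2-subgroup is dihedral, with `t` its only central involution. -/
theorem OuterFour.exists_sylow :
    ∃ (S : Sylow 2 G) (x u : G), x ∈ (S : Subgroup G) ∧ u ∈ (S : Subgroup G) ∧ u * u = 1 ∧ u ∈ T ∧
      u * x * (u * x) = 1 ∧ (∀ w ∈ (S : Subgroup G), w ∈ Subgroup.zpowers x ∨ u * w ∈ Subgroup.zpowers x) ∧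
      t ∈ (S : Subgroup G) ∧ 8 ≤ Nat.card (S : Subgroup G) ∧
      (∀ g ∈ Subgroup.normalizer ((S : Subgroup G) : Set G), g * t = t * g) ∧
      ∃ n : ℕ, 2 ≤ n ∧ Nonempty ((S : Subgroup G) ≃* DihedralGroup n) := by
  classical
  haveI : Fact (Nat.Prime 2) := ⟨Nat.prime_two⟩
  obtain ⟨e⟩ := D.iso
  have C := D.cx
  have I := D.inv
  have ht := D.memT
  have O := D.outer
  have hsi := inv_of_sq O.sq
  obtain ⟨v, hv, hne⟩ := O.nontriv
  have hv2 := C.kit.sq v hv
  have hvt : v ≠ t := fun h => hne (by rw [h]; exact D.comm)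
  have hv1 : v ≠ 1 := fun h => hne (by rw [h, mul_one, one_mul])
  have hT := four_cases D.four C.kit.sq ht hv D.ne_one hv1 hvt
  have htT0 : t ∈ T ⊓ Subgroup.centralizer ({s} : Set G) :=
    ⟨ht, Subgroup.mem_centralizer_singleton_iff.mpr D.comm.symm⟩
  have hsvs : s * v * s = t * v := by
    rcases (hT _).mp (O.norm v hv) with h | h | h | h
    · refine absurd ?_ hv1
      calc v = s * (s * v * s) * s := by
            rw [show s * (s * v * s) * s = (s * s) * v * (s * s) by group, O.sq, one_mul, mul_one]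
        _ = 1 := by rw [h, mul_one, O.sq]
    · refine absurd ?_ hvt
      calc v = s * (s * v * s) * s := by
            rw [show s * (s * v * s) * s = (s * s) * v * (s * s) by group, O.sq, one_mul, mul_one]
        _ = t := by rw [h, D.comm, mul_assoc, O.sq, mul_one]
    · refine absurd ?_ hne
      calc s * v = s * v * (s * s) := by rw [O.sq, mul_one]
        _ = v * s := by rw [← mul_assoc, h]
    · exact h
  set y := s * v with hy
  have hyy : y * y = t := by
    calc y * y = s * v * s * v := by rw [hy]; group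
      _ = t := by rw [hsvs, mul_assoc, hv2, mul_one]
  have hyt : y * t = t * y := by rw [← hyy]; exact (mul_assoc y y y).symm
  have hvy : v * y * v = y * t := by
    calc v * y * v = v * s * (v * v) := by rw [hy]; group
      _ = s * (s * v * s) := by rw [hv2, mul_one, ← mul_assoc, ← mul_assoc, O.sq, one_mul]
      _ = y * t := by rw [hsvs, C.kit.comm ht hv, ← mul_assoc]
  have hya : y • a = b := by rw [hy, mul_smul, (C.kit.le hv).1, O.sa]
  have hyb : y • b = a := by rw [hy, mul_smul, (C.kit.le hv).2, O.sb]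
  set Φ := fixedBy Ω t
  have hS := inv_fixedBy (Ω := Ω) t
  set Cc := Subgroup.centralizer ({t} : Set G)
  let A : ↥Φ := ⟨a, I.mem.1⟩
  let B : ↥Φ := ⟨b, I.mem.2⟩
  have hAB : A ≠ B := fun h => C.ne (congrArg Subtype.val h)
  have hTC : T ≤ Cc := fun x hx => Subgroup.mem_centralizer_singleton_iff.mpr (C.kit.comm hx ht)
  have hsC : s ∈ Cc := Subgroup.mem_centralizer_singleton_iff.mpr D.comm
  have hyC : y ∈ Cc := Subgroup.mem_centralizer_singleton_iff.mpr hyt
  have hoddΦ : Odd (Nat.card ↥Φ) := by rw [Nat.card_coe_set_eq]; exact odd_fixedBy I.sq D.odd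
  -- a root of `t` fixes one point
  have hroot : ∀ r : ↥Cc, (r : G) * r = t → OneFix ↥Φ (toImg hS r) := by
    intro r hr
    have r2 : toImg hS r * toImg hS r = 1 := toImg_sq hS fun d hd => by
      show ((r : G) * r) • d = d
      rw [hr]; exact hd
    refine ⟨r2, le_antisymm ?_ (odd_fixedBy r2 hoddΦ).pos⟩
    by_contra hlt
    obtain ⟨p, q, hp, hq, hpq⟩ := (Set.one_lt_ncard_iff (Set.toFinite _)).mp (not_le.mp hlt)
    have h2 := C.sq_of_fix (x := (r : G)) (k := 2) (by
      rw [show (2 : ℕ) ^ 2 = 2 + 2 by norm_num, pow_add, pow_two, hr, I.sq]) (fun h => hpq (Subtype.ext h))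
      ((toImg_fix hS).mp hp) ((toImg_fix hS).mp hq)
    exact D.ne_one (hr ▸ h2)
  set yb := toImg hS ⟨y, hyC⟩
  have hy1 : OneFix ↥Φ yb := hroot ⟨y, hyC⟩ hyy
  obtain ⟨c, hc⟩ := hy1.exists_fix
  -- the swappers commute with `yb`
  have hcY : ∀ g : ↥Cc, (g : G) ∈ setwise G a b → toImg hS g * yb = yb * toImg hS g := by
    intro g hg
    have key : (g : G) * y * (g : G)⁻¹ = y ∨ (g : G) * y * (g : G)⁻¹ = y * t := by
      rcases hg with hg | ⟨hga, hgb⟩
      · exact C.root_conj D.no_swap D.mod8 D.five e I hya hyb hyy hg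
          (Subgroup.mem_centralizer_singleton_iff.mp g.2)
      · set h := s * (g : G) with hh
        have hhH : h ∈ stab2 G a b := swap_mul_mem O.sa O.sb hga hgb
        have hht : h * t = t * h := Subgroup.mem_centralizer_singleton_iff.mp (Cc.mul_mem hsC g.2)
        have hsy : s * y * s = y * t := by
          calc s * y * s = s * s * v * s := by rw [hy]; group
            _ = s * (s * v * s) := by group
            _ = y * t := by rw [hsvs, C.kit.comm ht hv, ← mul_assoc]
        have hg' : (g : G) = s * h := by rw [hh, ← mul_assoc, O.sq, one_mul]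
        rcases C.root_conj D.no_swap D.mod8 D.five e I hya hyb hyy hhH hht with h1 | h1
        · right
          calc (g : G) * y * (g : G)⁻¹ = s * (h * y * h⁻¹) * s⁻¹ := by rw [hg']; group
            _ = y * t := by rw [h1, hsi, hsy]
        · left
          calc (g : G) * y * (g : G)⁻¹ = s * (h * y * h⁻¹) * s⁻¹ := by rw [hg']; group
            _ = s * y * (t * s) := by rw [h1, hsi]; group
            _ = s * y * (s * t) := by rw [D.comm]
            _ = s * y * s * t := by group
            _ = y := by rw [hsy, mul_assoc, I.sq, mul_one]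
    rw [← mul_inv_eq_iff_eq_mul, ← map_inv, ← map_mul, ← map_mul, toImg_eq]
    intro d hd
    show ((g : G) * y * (g : G)⁻¹) • d = y • d
    rcases key with h | h
    · rw [h]
    · rw [h, mul_smul, show t • d = d from hd]
  have h2 : TwoTrans ↥(Img hS) ↥Φ := img_two hS I.mem.1 I.mem.2 fun c d hc hd hcd => C.cent_trans I hc hd hcd
  have htr : ∀ p r : ↥Φ, ∃ w : ↥(Img hS), w • p = r := by
    intro p r
    obtain ⟨g, hg⟩ := h2.transitive hAB p
    obtain ⟨g', hg'⟩ := h2.transitive hAB r
    exact ⟨g' * g⁻¹, by rw [← hg, mul_smul, inv_smul_smul, hg']⟩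
  have hpair : ∀ (u u' : ↥(Img hS)) (p d : ↥Φ), OneFix ↥Φ u → OneFix ↥Φ u' → u • p ≠ p → u' • p = u • p →
      u • d = d → u' • d = d := by
    intro u u' p d hu hu' hp he hud
    obtain ⟨k, hk, hka, hkb⟩ := C.cent_trans I p.2 (u • p).2 (fun e => hp (Subtype.ext e).symm)
    have key : ∀ w : ↥(Img hS), OneFix ↥Φ w → w • p = u • p → w • (toImg hS ⟨k, hk⟩ • c) = toImg hS ⟨k, hk⟩ • c := by
      intro w hw1 hwp
      obtain ⟨g, rfl⟩ := toImg_surj hS w
      have hga : (g : G) • (p : Ω) = ((u • p : ↥Φ) : Ω) := congrArg Subtype.val hwp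
      have hgb : (g : G) • ((u • p : ↥Φ) : Ω) = (p : Ω) := congrArg Subtype.val
        (show toImg hS g • (u • p) = p by rw [← hwp, ← mul_smul, hw1.1, one_smul])
      set g' : ↥Cc := ⟨k, hk⟩⁻¹ * g * ⟨k, hk⟩
      have hg' : (g' : G) ∈ setwise G a b := Or.inr ⟨by
          show (k⁻¹ * (g : G) * k) • a = b
          rw [mul_smul, mul_smul, hka, hga, ← hkb, inv_smul_smul], by
          show (k⁻¹ * (g : G) * k) • b = a
          rw [mul_smul, mul_smul, hkb, hgb, ← hka, inv_smul_smul]⟩
      have hfix := hy1.eq_of_fix (fix_comm (hcY g' hg').symm hc) hc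
      rw [show toImg hS g' = (toImg hS ⟨k, hk⟩)⁻¹ * toImg hS g * toImg hS ⟨k, hk⟩ by
        rw [map_mul, map_mul, map_inv], mul_smul, mul_smul, inv_smul_eq_iff] at hfix
      exact hfix
    have hd := hu.eq_of_fix (key u hu rfl) hud
    exact hd ▸ key u' hu' he
  -- the Sylow subgroup at `c`
  set P0 := Cc ⊓ stabilizer G (c : Ω)
  have hfixc : ∀ g ∈ setwise G a b, (hg : g ∈ Cc) → g • (c : Ω) = c := fun g hgN hg =>
    (toImg_fix hS).mp (hy1.eq_of_fix (fix_comm (hcY ⟨g, hg⟩ hgN).symm hc) hc)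
  have hsP0 : s ∈ P0 := ⟨hsC, hfixc s (Or.inr ⟨O.sa, O.sb⟩) hsC⟩
  have hTP0 : T ≤ P0 := fun x hx => ⟨hTC hx, hfixc x (stab2_le_setwise (C.kit.le hx)) (hTC hx)⟩
  set P := Subgroup.zpowers s ⊔ T with hP
  have hP2 : IsPGroup 2 P := (show IsPGroup 2 (Subgroup.zpowers s) from fun w => ⟨1, Subtype.ext (by
    obtain ⟨w, l, rfl⟩ := w
    show (s ^ l) ^ 2 ^ 1 = 1
    rw [pow_one, ← zpow_natCast, ← zpow_mul, mul_comm, zpow_mul, zpow_natCast, pow_two, O.sq, one_zpow])⟩).to_sup_of_normal_right'
      C.kit.isPGroup (Subgroup.zpowers_le.mpr (mem_normalizer_of_le fun x hx => by rw [hsi]; exact O.norm x hx))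
  have hPP0 : P ≤ P0 := sup_le (Subgroup.zpowers_le.mpr hsP0) hTP0
  obtain ⟨S0, hS0⟩ := (hP2.comap_subtype (K := P0)).exists_le_sylow
  set S : Subgroup G := (S0 : Subgroup ↥P0).map P0.subtype with hSdef
  have hS2 : IsPGroup 2 S := S0.2.map _
  have hSP0 : S ≤ P0 := Subgroup.map_subtype_le _
  have hPS : P ≤ S := fun x hx => ⟨⟨x, hPP0 hx⟩, hS0 hx, rfl⟩
  have hsS : s ∈ S := hPS (Subgroup.mem_sup_left (Subgroup.mem_zpowers s))
  have hvS : v ∈ S := hPS (Subgroup.mem_sup_right hv)
  have htS : t ∈ S := hPS (Subgroup.mem_sup_right ht)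
  have hyS : y ∈ S := mul_mem hsS hvS
  have hyT : ∀ x ∈ T, x * y = y * x → x = 1 ∨ x = t := by
    intro x hx hxy
    have hvyc : v * y ≠ y * v := fun h => D.ne_one (by
      have h1 : v * y * v = y := by rw [h, mul_assoc, hv2, mul_one]
      rw [hvy] at h1
      exact mul_eq_left.mp h1)
    rcases (hT x).mp hx with h | h | h | h
    · exact Or.inl h
    · exact Or.inr h
    · exact absurd (h ▸ hxy) hvyc
    · refine absurd ?_ hvyc
      rw [h, ← mul_assoc y t v, hyt, mul_assoc t v y, mul_assoc t y v] at hxy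
      exact mul_left_cancel hxy
  -- roots of `t` in `S`
  have hrootS : ∀ r ∈ S, r * r = t → r = y ∨ r = y * t := by
    intro r hr hrr
    set rC : ↥Cc := ⟨r, (hSP0 hr).1⟩
    have heq := mid htr hpair (hroot rC hrr) hy1 ((toImg_fix hS).mpr (hSP0 hr).2) hc
    set κ := y⁻¹ * r with hκ
    have hκS : κ ∈ S := mul_mem (inv_mem hyS) hr
    have hκfix : ∀ d ∈ Φ, κ • d = d := fun d hd => by
      rw [hκ, mul_smul, inv_smul_eq_iff]; exact (toImg_eq hS).mp heq d hd
    have hκL : κ ∈ stab2 G a b ⊓ Cc := ⟨⟨hκfix a I.mem.1, hκfix b I.mem.2⟩, (hSP0 hκS).1⟩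
    obtain ⟨k, hk, hkT⟩ := C.kit.conj_in (R := stab2 G a b ⊓ Cc) (le_inf C.kit.le hTC) inf_le_left
      (P := Subgroup.zpowers κ) (Subgroup.zpowers_le.mpr hκL) (hS2.to_le (Subgroup.zpowers_le.mpr hκS))
    have hm := hkT κ (Subgroup.mem_zpowers κ)
    have hkt : k * t = t * k := Subgroup.mem_centralizer_singleton_iff.mp hk.2
    set κ' := k * κ * k⁻¹ with hκ'
    have hsq' : k * r * k⁻¹ * (k * r * k⁻¹) = t := by
      rw [conj_mul, hrr, hkt, mul_inv_cancel_right]
    have hkr : ∃ y', (y' = y ∨ y' = y * t) ∧ k * r * k⁻¹ = y' * κ' := by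
      refine ⟨k * y * k⁻¹, C.root_conj D.no_swap D.mod8 D.five e I hya hyb hyy hk.1 hkt, ?_⟩
      rw [hκ', hκ]; group
    obtain ⟨y', hy', hkr⟩ := hkr
    rw [hkr] at hsq'
    have hcommt : κ' * t = t * κ' := C.kit.comm hm ht
    have hy'κ : y * κ' * (y * κ') = t := by
      rcases hy' with h | h
      · rwa [h] at hsq'
      · rw [h] at hsq'
        calc y * κ' * (y * κ') = y * κ' * (y * κ') * (t * t) := by rw [I.sq, mul_one]
          _ = y * κ' * (y * (κ' * t)) * t := by group
          _ = y * κ' * (y * (t * κ')) * t := by rw [hcommt]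
          _ = y * κ' * y * (t * (κ' * t)) := by group
          _ = y * κ' * y * (t * (t * κ')) := by rw [hcommt]
          _ = y * κ' * (y * κ') := by rw [← mul_assoc t t, I.sq, one_mul, mul_assoc]
          _ = t := by
            rw [← hsq']
            calc y * κ' * (y * κ') = y * (κ' * (t * t)) * (y * κ') := by rw [I.sq, mul_one]
              _ = y * (t * κ' * t) * (y * κ') := by rw [← mul_assoc κ', hcommt]
              _ = y * t * κ' * ((t * y) * κ') := by group
              _ = y * t * κ' * (y * t * κ') := by rw [hyt]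
    have hκ1 : κ' = 1 ∨ κ' = t := by
      rcases (hT κ').mp hm with h | h | h | h
      · exact Or.inl h
      · exact Or.inr h
      · exfalso
        rw [h, hy, mul_assoc s v v, hv2, mul_one, O.sq] at hy'κ
        exact D.ne_one hy'κ.symm
      · exfalso
        rw [h, hy, mul_assoc s v (t * v), C.kit.comm ht hv, ← mul_assoc v v t, hv2, one_mul] at hy'κ
        exact D.ne_one (by
          rw [show s * t * (s * t) = s * (t * s) * t by group, ← D.comm, ← mul_assoc, O.sq, one_mul, I.sq] at hy'κ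
          exact hy'κ.symm)
    have hκeq : κ = k⁻¹ * κ' * k := by rw [hκ']; group
    have hr' : r = y * κ := by rw [hκ, mul_inv_cancel_left]
    rcases hκ1 with h | h
    · left; rw [hr', hκeq, h, mul_one, inv_mul_cancel, mul_one]
    · right; rw [hr', hκeq, h, mul_assoc k⁻¹, ← hkt, inv_mul_cancel_left]
  have hty : t * y = y * t := hyt.symm
  -- the involutions commuting with `y`
  have hinvA : ∀ x ∈ S, x * x = 1 → x * y = y * x → x = 1 ∨ x = t := by
    intro x hx x2 hxy
    rcases hrootS (x * y) (mul_mem hx hyS) (by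
      rw [show x * y * (x * y) = x * (y * x) * y by group, ← hxy, ← mul_assoc x x, x2, one_mul, hyy]) with h | h
    · exact Or.inl (mul_eq_right.mp h)
    · right
      rw [← hty] at h
      exact mul_right_cancel h
  set A0 := S ⊓ Subgroup.centralizer ({y} : Set G) with hA0
  have hA02 : IsPGroup 2 A0 := hS2.to_le inf_le_left
  have hyA : y ∈ A0 := ⟨hyS, Subgroup.mem_centralizer_singleton_iff.mpr rfl⟩
  have htA : t ∈ A0 := ⟨htS, Subgroup.mem_centralizer_singleton_iff.mpr hty⟩
  have hto : orderOf (⟨t, htA⟩ : ↥A0) = 2 := orderOf_eq_prime (Subtype.ext (by show t ^ 2 = 1; rw [pow_two, I.sq]))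
    fun h => D.ne_one (congrArg Subtype.val h)
  have hcyc : IsCyclic A0 := by
    refine (CfsgLib.UniqueSubgroup.cyclic_or_quaternion hA02 hto fun w hw => ?_).resolve_right ?_
    · have w2 : (w : G) * w = 1 := by rw [← pow_two]; exact congrArg Subtype.val hw
      rcases hinvA w w.2.1 w2 (Subgroup.mem_centralizer_singleton_iff.mp w.2.2) with h | h
      · rw [show w = 1 from Subtype.ext h]; exact one_mem _
      · rw [show w = ⟨t, htA⟩ from Subtype.ext h]; exact Subgroup.mem_zpowers _
    · rintro ⟨-, n, hn, ⟨f⟩⟩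
      have hN : 2 ≤ 2 ^ n := Nat.le_self_pow (by omega) 2
      have key : ∀ i : ZMod (2 * 2 ^ n), ((f.symm (QuaternionGroup.xa i) : ↥A0) : G) = y ∨
          ((f.symm (QuaternionGroup.xa i) : ↥A0) : G) = y * t := by
        intro i
        set r := f.symm (QuaternionGroup.xa i)
        have h4 : r ^ 4 = 1 := by
          rw [← map_pow, ← map_one f.symm]
          congr 1
          exact orderOf_dvd_iff_pow_eq_one.mp (by rw [QuaternionGroup.orderOf_xa])
        have hne : (r : G) * r ≠ 1 := fun h => by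
          have h' : f r * f r = 1 := by rw [← map_mul, ← map_one f]; exact congrArg f (Subtype.ext h)
          have : orderOf (f r) ∣ 2 := orderOf_dvd_of_pow_eq_one (by rw [pow_two]; exact h')
          rw [show f r = QuaternionGroup.xa i from f.apply_symm_apply _, QuaternionGroup.orderOf_xa] at this
          norm_num at this
        refine hrootS r r.2.1 ((hinvA _ (mul_mem r.2.1 r.2.1) ?_ ?_).resolve_left hne)
        · have := congrArg Subtype.val h4
          rw [show (4 : ℕ) = 2 + 2 from rfl, pow_add, pow_two] at this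
          exact this
        · have hc := Subgroup.mem_centralizer_singleton_iff.mp r.2.2
          rw [mul_assoc, hc, ← mul_assoc, hc, mul_assoc]
      have hinj : ∀ i j : ZMod (2 * 2 ^ n), ((f.symm (QuaternionGroup.xa i) : ↥A0) : G) =
          ((f.symm (QuaternionGroup.xa j) : ↥A0) : G) → i = j := fun i j h => by
        have := f.symm.injective (Subtype.ext h)
        simpa using this
      haveI : Fact (1 < 2 * 2 ^ n) := ⟨by omega⟩
      have d01 : (0 : ZMod (2 * 2 ^ n)) ≠ 1 := zero_ne_one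
      have d02 : (0 : ZMod (2 * 2 ^ n)) ≠ ((2 : ℕ) : ZMod (2 * 2 ^ n)) := fun h => by
        have := (ZMod.natCast_eq_zero_iff 2 (2 * 2 ^ n)).mp h.symm
        have := Nat.le_of_dvd (by norm_num) this
        omega
      have d12 : (1 : ZMod (2 * 2 ^ n)) ≠ ((2 : ℕ) : ZMod (2 * 2 ^ n)) := fun h => d01 (by
        have h' : (1 : ZMod (2 * 2 ^ n)) + 0 = 1 + 1 := by rw [add_zero]; exact h.trans (by norm_num)
        exact add_left_cancel h')
      rcases key 0 with h0 | h0 <;> rcases key 1 with h1 | h1 <;> rcases key ((2 : ℕ) : ZMod (2 * 2 ^ n)) with h2' | h2' <;>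
        first
        | exact d01 (hinj _ _ (h0.trans h1.symm))
        | exact d02 (hinj _ _ (h0.trans h2'.symm))
        | exact d12 (hinj _ _ (h1.trans h2'.symm))
  obtain ⟨⟨x, hx⟩, hgen⟩ := hcyc.exists_generator
  have hxz : ∀ w ∈ A0, w ∈ Subgroup.zpowers x := fun w hw => by
    obtain ⟨i, hi⟩ := Subgroup.mem_zpowers_iff.mp (hgen ⟨w, hw⟩)
    exact Subgroup.mem_zpowers_iff.mpr ⟨i, congrArg Subtype.val hi⟩
  have hAeq : A0 = Subgroup.zpowers x := le_antisymm hxz (Subgroup.zpowers_le.mpr hx)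
  have hvA : v ∉ A0 := fun h => by
    rcases hyT v hv (Subgroup.mem_centralizer_singleton_iff.mp h.2) with h' | h'
    · exact hv1 h'
    · exact hvt h'
  have hvinv := inv_of_sq hv2
  have hcomA : ∀ p ∈ A0, ∀ q ∈ A0, p * q = q * p := by
    intro p hp q hq
    obtain ⟨i, rfl⟩ := Subgroup.mem_zpowers_iff.mp (hxz p hp)
    obtain ⟨j, rfl⟩ := Subgroup.mem_zpowers_iff.mp (hxz q hq)
    rw [← zpow_add, ← zpow_add, add_comm]
  have hsplit : ∀ w ∈ S, w ∈ A0 ∨ v * w ∈ A0 := by
    intro w hw
    have hwt : w * t = t * w := Subgroup.mem_centralizer_singleton_iff.mp (hSP0 hw).1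
    rcases hrootS (w * y * w⁻¹) (mul_mem (mul_mem hw hyS) (inv_mem hw)) (by
      rw [conj_mul, hyy, hwt, mul_inv_cancel_right]) with h | h
    · exact Or.inl ⟨hw, Subgroup.mem_centralizer_singleton_iff.mpr (mul_inv_eq_iff_eq_mul.mp h)⟩
    · refine Or.inr ⟨mul_mem hvS hw, Subgroup.mem_centralizer_singleton_iff.mpr (mul_inv_eq_iff_eq_mul.mp ?_)⟩
      calc v * w * y * (v * w)⁻¹ = v * (w * y * w⁻¹) * v⁻¹ := by group
        _ = v * y * (t * v) := by rw [h, hvinv]; group
        _ = v * y * v * t := by rw [C.kit.comm ht hv]; group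
        _ = y := by rw [hvy, mul_assoc, I.sq, mul_one]
  have hvxv : v * x * v ∈ A0 := by
    refine ⟨mul_mem (mul_mem hvS hx.1) hvS, Subgroup.mem_centralizer_singleton_iff.mpr ?_⟩
    have hxy : x * y = y * x := Subgroup.mem_centralizer_singleton_iff.mp hx.2
    have hxt : x * t = t * x := Subgroup.mem_centralizer_singleton_iff.mp (hSP0 hx.1).1
    have e1 : v * y = y * t * v := by rw [← hvy, mul_assoc, hv2, mul_one]
    have e2 : y * v = v * (y * t) := by rw [← hvy, ← mul_assoc, ← mul_assoc, hv2, one_mul]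
    calc v * x * v * y = v * x * (v * y) := by group
      _ = v * x * (y * t * v) := by rw [e1]
      _ = v * ((x * y) * t) * v := by group
      _ = v * (y * (x * t)) * v := by rw [hxy]; group
      _ = v * (y * t) * x * v := by rw [hxt]; group
      _ = y * v * x * v := by rw [← e2]
      _ = y * (v * x * v) := by group
  set w0 := v * x * v * x with hw0
  have hw0A : w0 ∈ A0 := mul_mem hvxv hx
  have hw0v : w0 * v = v * w0 := by
    calc w0 * v = v * x * v * x * v := by rw [hw0]
      _ = v * (x * (v * x * v)) := by group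
      _ = v * (v * x * v * x) := by rw [hcomA x hx _ hvxv]
      _ = v * w0 := by rw [hw0]
  have hw02 : w0 * w0 = 1 := by
    by_contra hne2
    obtain ⟨l, hl⟩ := hA02 ⟨w0, hw0A⟩
    have hl' : w0 ^ 2 ^ l = 1 := congrArg Subtype.val hl
    obtain ⟨j, hj1, hj2⟩ : ∃ j, w0 ^ 2 ^ j * w0 ^ 2 ^ j ≠ 1 ∧ w0 ^ 2 ^ (j + 1) * w0 ^ 2 ^ (j + 1) = 1 := by
      have hex : ∃ j, w0 ^ 2 ^ j * w0 ^ 2 ^ j = 1 := ⟨l, by rw [hl', one_mul]⟩
      obtain ⟨j, hj⟩ : ∃ j, Nat.find hex = j + 1 :=
        ⟨Nat.find hex - 1, by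
          have : Nat.find hex ≠ 0 := fun h0 => hne2 (by simpa [h0] using Nat.find_spec hex)
          omega⟩
      exact ⟨j, Nat.find_min hex (by omega), hj ▸ Nat.find_spec hex⟩
    set r := w0 ^ 2 ^ j
    have hrA : r ∈ A0 := pow_mem hw0A _
    have hrr : r * r = w0 ^ 2 ^ (j + 1) := by rw [← pow_add, pow_succ, mul_two]
    have hrc : r * r * y = y * (r * r) := Subgroup.mem_centralizer_singleton_iff.mp (mul_mem hrA hrA).2
    have hrt : r * r = t :=
      (hinvA _ (mul_mem hrA.1 hrA.1) (by rw [hrr]; exact hj2) hrc).resolve_left hj1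
    have hrv : r * v = v * r := ((show Commute w0 v from hw0v).pow_left _).eq
    rcases hrootS r hrA.1 hrt with h | h
    · rcases hyT v hv (by rw [← h]; exact hrv.symm) with h' | h'
      · exact hv1 h'
      · exact hvt h'
    · rcases hyT v hv (by
        rw [h] at hrv
        have htv : t * v = v * t := C.kit.comm ht hv
        have e : y * v * t = v * y * t := by
          calc y * v * t = y * (v * t) := by group
            _ = y * (t * v) := by rw [htv]
            _ = y * t * v := by group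
            _ = v * (y * t) := hrv
            _ = v * y * t := by group
        exact (mul_right_cancel e).symm) with h' | h'
      · exact hv1 h'
      · exact hvt h'
  have hw01 : w0 = 1 := by
    refine (hinvA w0 hw0A.1 hw02 (Subgroup.mem_centralizer_singleton_iff.mp hw0A.2)).resolve_right fun h => ?_
    rcases hrootS (v * x) (mul_mem hvS hx.1) (by rw [← h, hw0]; group) with h' | h'
    · exact hvA ((A0.mul_mem_cancel_right hx).mp (h' ▸ hyA))
    · exact hvA ((A0.mul_mem_cancel_right hx).mp (h' ▸ mul_mem hyA htA))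
  have hinvx : v * x * v⁻¹ = x⁻¹ := by rw [hvinv]; exact eq_inv_of_mul_eq_one_left hw01
  -- it is a Sylow subgroup of `G`
  have hSC : S ≤ Cc := hSP0.trans inf_le_left
  have hidx : ¬ 2 ∣ S.relIndex Cc := by
    intro hd
    have e1 := Subgroup.relIndex_mul_relIndex S P0 Cc hSP0 inf_le_left
    rw [← e1] at hd
    rcases Nat.prime_two.dvd_mul.mp hd with hd | hd
    · have : S.subgroupOf P0 = (S0 : Subgroup ↥P0) := Subgroup.comap_map_eq_self_of_injective P0.subtype_injective _
      rw [Subgroup.relIndex, this] at hd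
      exact S0.not_dvd_index hd
    · letI : MulAction ↥Cc ↥Φ := MulAction.compHom ↥Φ (toImg hS)
      have hst : P0.subgroupOf Cc = stabilizer ↥Cc c := by
        ext g
        constructor
        · intro hg; exact (toImg_fix hS).mpr hg.2
        · intro hg; exact ⟨g.2, (toImg_fix hS).mp hg⟩
      have ho : orbit ↥Cc c = Set.univ := Set.eq_univ_of_forall fun d => by
        obtain ⟨w, hw⟩ := htr c d
        obtain ⟨g, rfl⟩ := toImg_surj hS w
        exact ⟨g, hw⟩
      rw [Subgroup.relIndex, hst, index_stabilizer, ho, Set.ncard_univ] at hd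
      exact Nat.not_even_iff_odd.mpr hoddΦ (even_iff_two_dvd.mpr hd)
  have hnorm : ∀ g ∈ Subgroup.normalizer (S : Set G), g * t = t * g := by
    intro g hg
    have h1 : g * t * g⁻¹ ∈ S := (Subgroup.mem_normalizer_iff.mp hg t).mp htS
    have h2 : g * t * g⁻¹ * y = y * (g * t * g⁻¹) := by
      have h3 : g⁻¹ * y * g ∈ S := (Subgroup.mem_normalizer_iff''.mp hg y).mp hyS
      have h4 : g⁻¹ * y * g * t = t * (g⁻¹ * y * g) := Subgroup.mem_centralizer_singleton_iff.mp (hSC h3)
      calc g * t * g⁻¹ * y = g * (t * (g⁻¹ * y * g)) * g⁻¹ := by group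
        _ = g * (g⁻¹ * y * g * t) * g⁻¹ := by rw [h4]
        _ = _ := by group
    exact mul_inv_eq_iff_eq_mul.mp ((hinvA _ h1 (by rw [conj_mul, I.sq, mul_one, mul_inv_cancel]) h2).resolve_left
      fun h => D.ne_one (conj_eq_one_iff.mp h))
  obtain ⟨R, hR⟩ := hS2.exists_le_sylow
  have hRS : (R : Subgroup G) = S := by
    by_contra hne
    have hlt : S.subgroupOf (R : Subgroup G) < ⊤ := lt_top_iff_ne_top.mpr fun h =>
      hne (le_antisymm (Subgroup.subgroupOf_eq_top.mp h) hR)
    haveI : Group.IsNilpotent ↥(R : Subgroup G) := R.2.isNilpotent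
    obtain ⟨g, hgN, hgS⟩ := SetLike.exists_of_lt (Group.normalizerCondition_of_isNilpotent _ hlt)
    have hgn : (g : G) ∈ Subgroup.normalizer (S : Set G) := mem_normalizer_of_le fun w hw =>
      (Subgroup.mem_normalizer_iff.mp hgN ⟨w, hR hw⟩).mp hw
    have hgC : (g : G) ∈ Cc := Subgroup.mem_centralizer_singleton_iff.mpr (hnorm g hgn)
    let SC : Sylow 2 ↥Cc := (hS2.comap_subtype (K := Cc)).toSylow hidx
    set Q := Subgroup.zpowers (g : G) ⊔ S
    have hQ : IsPGroup 2 Q := R.2.to_le (sup_le (Subgroup.zpowers_le.mpr g.2) hR)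
    have hQC : Q ≤ Cc := sup_le (Subgroup.zpowers_le.mpr hgC) hSC
    have hle : S.subgroupOf Cc ≤ Q.subgroupOf Cc := fun w hw => Subgroup.mem_sup_right hw
    have heq : Q.subgroupOf Cc = S.subgroupOf Cc := SC.3 hQ.comap_subtype hle
    have : (⟨g, hgC⟩ : ↥Cc) ∈ Q.subgroupOf Cc := Subgroup.mem_sup_left (Subgroup.mem_zpowers (g : G))
    rw [heq] at this
    exact hgS this
  have hxS : x ∈ S := hx.1
  have hvnot : v ∉ Subgroup.zpowers x := fun h => hvA (hAeq ▸ h)
  have hcardS : Nat.card S = 2 * orderOf x := by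
    have e : (S : Set G) = (A0 : Set G) ∪ (v * ·) '' (A0 : Set G) := by
      ext w
      constructor
      · intro hw
        rcases hsplit w hw with h | h
        · exact Or.inl h
        · exact Or.inr ⟨v * w, h, by show v * (v * w) = w; rw [← mul_assoc, hv2, one_mul]⟩
      · rintro (h | ⟨p, hp, rfl⟩)
        · exact h.1
        · exact mul_mem hvS hp.1
    show Nat.card ↥(S : Set G) = _
    rw [Nat.card_coe_set_eq, e, Set.ncard_union_eq (Set.disjoint_left.mpr ?_),
      Set.ncard_image_of_injective _ (mul_right_injective v), ← Nat.card_zpowers, ← hAeq, ← Nat.card_coe_set_eq,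
      two_mul]
    · rfl
    · rintro w hw ⟨p, hp, rfl⟩
      exact hvA ((A0.mul_mem_cancel_right hp).mp hw)
  have hox : 4 ≤ orderOf x := by
    have h4 : orderOf y = 4 := by
      refine orderOf_eq_prime_pow (p := 2) (n := 1) ?_ ?_
      · rw [pow_one, pow_two, hyy]; exact D.ne_one
      · rw [show (2 : ℕ) ^ (1 + 1) = 2 + 2 by norm_num, pow_add, pow_two, hyy, I.sq]
    have := Nat.le_of_dvd Nat.card_pos (h4 ▸ Subgroup.orderOf_dvd_natCard A0 hyA)
    rwa [hAeq, Nat.card_zpowers] at this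
  refine ⟨R, x, v, ?_, ?_, hv2, hv, ?_, ?_, ?_, ?_, ?_, orderOf x, by omega, ?_⟩
  · rw [hRS]; exact hxS
  · rw [hRS]; exact hvS
  · rw [show v * x * (v * x) = v * x * v * x by group]; exact hw01
  · intro w hw
    rw [hRS] at hw
    exact (hsplit w hw).imp (hxz w) (hxz _)
  · rw [hRS]; exact htS
  · rw [hRS, hcardS]; omega
  · rw [hRS]; exact hnorm
  · rw [hRS]
    exact CfsgLib.DihedralShape.equiv_dihedral (c := (⟨x, hxS⟩ : S)) (t := ⟨v, hvS⟩)
      (Subgroup.orderOf_mk x hxS) hcardS (Subtype.ext hv2) (fun h => hvnot (by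
        obtain ⟨i, hi⟩ := Subgroup.mem_zpowers_iff.mp h
        exact Subgroup.mem_zpowers_iff.mpr ⟨i, congrArg Subtype.val hi⟩)) (Subtype.ext hinvx)

end CfsgLib.StabSimpAb
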