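import Cfsg.Agent.Lib.StabSimpAb.Image
import Cfsg.Agent.Lib.StabSimpAb.Kit

/-!
Doubly transitive groups with simple two-point stabiliser and abelian Sylow 2-subgroup there: fusion, Witt, counting.

Blueprint: `blueprint/S3400.md`, the basic relation.
-/

set_option autoImplicit false
set_option linter.unusedSectionVars false
set_option linter.style.haveILetI false

namespace CfsgLib.StabSimpAb

open MulAction CfsgLib.StabAlt5

universe u v

variable {G : Type u} [Group G] {Ω : Type v} [MulAction G Ω]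

/-- The stabiliser of two points. -/
abbrev stab2 (G : Type u) {Ω : Type v} [Group G] [MulAction G Ω] (a b : Ω) : Subgroup G :=
  stabilizer G a ⊓ stabilizer G b

/-- The configuration. -/
structure Cx [Finite G] (a b : Ω) (T : Subgroup G) : Prop where
  two : TwoTrans G Ω
  ne : a ≠ b
  kit : Kit (stab2 G a b) T

/-- An involution of the two-point stabiliser. -/
structure Inv2 (t : G) (a b : Ω) : Prop where
  mem : t ∈ stab2 G a b
  sq : t * t = 1
  ne_one : t ≠ 1

/-- The conjugates of `t`. -/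
def cls (t : G) : Set G := {x | ∃ g : G, g * t * g⁻¹ = x}

/-- The number of involutions of the two-point stabiliser. -/
noncomputable def invNum (G : Type u) {Ω : Type v} [Group G] [MulAction G Ω] (a b : Ω) : ℕ :=
  {x : G | x ∈ stab2 G a b ∧ x * x = 1 ∧ x ≠ 1}.ncard

/-- The number of conjugates of `t` interchanging the two points. -/
noncomputable def swaps (t : G) (a b : Ω) : ℕ := {x : G | x ∈ cls t ∧ x • a = b ∧ x • b = a}.ncard

/-- An involution interchanging the points and centralising their stabiliser. -/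
structure Swap (z : G) (a b : Ω) : Prop where
  sq : z * z = 1
  za : z • a = b
  zb : z • b = a
  comm : ∀ h ∈ stab2 G a b, z * h = h * z

variable {a b : Ω} {T : Subgroup G}

theorem self_mem_cls (t : G) : t ∈ cls t := ⟨1, by group⟩

theorem cls_conj (t g : G) {x : G} (hx : x ∈ cls t) : g * x * g⁻¹ ∈ cls t := by
  obtain ⟨k, rfl⟩ := hx
  exact ⟨g * k, by group⟩

theorem cls_sq {t x : G} (ht : t * t = 1) (hx : x ∈ cls t) : x * x = 1 := by
  obtain ⟨g, rfl⟩ := hx
  rw [conj_mul, ht, mul_one, mul_inv_cancel]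

theorem cls_ne_one {t x : G} (ht : t ≠ 1) (hx : x ∈ cls t) : x ≠ 1 := by
  obtain ⟨g, rfl⟩ := hx
  exact fun e => ht (conj_eq_one_iff.mp e)

variable [Finite G] [Finite Ω]

theorem cls_fix {t x : G} (hx : x ∈ cls t) : (fixedBy Ω x).ncard = (fixedBy Ω t).ncard := by
  obtain ⟨g, rfl⟩ := hx
  exact ncard_fixedBy_conj g t

variable (C : Cx a b T)
include C

theorem Cx.exists_inv : ∃ t, t ∈ T ∧ Inv2 t a b := by
  obtain ⟨t, ht, ht1⟩ := (T.bot_or_exists_ne_one).resolve_left fun e => by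
    have := C.kit.four
    rw [e, Subgroup.card_bot] at this
    omega
  exact ⟨t, ht, C.kit.le ht, C.kit.sq t ht, ht1⟩

theorem Cx.inv2_of_mem {t : G} (ht : t ∈ T) (ht1 : t ≠ 1) : Inv2 t a b := ⟨C.kit.le ht, C.kit.sq t ht, ht1⟩

/-- An element fixing two points is conjugate into the two-point stabiliser. -/
theorem Cx.conj_stab {x : G} {c d : Ω} (hcd : c ≠ d) (hc : x • c = c) (hd : x • d = d) :
    ∃ g : G, g * x * g⁻¹ ∈ stab2 G a b ∧ g • c = a ∧ g • d = b := by
  obtain ⟨g, hgc, hgd⟩ := C.two c d a b hcd C.ne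
  refine ⟨g, ⟨?_, ?_⟩, hgc, hgd⟩
  · show (g * x * g⁻¹) • a = a
    rw [← hgc]; exact conj_fix hc
  · show (g * x * g⁻¹) • b = b
    rw [← hgd]; exact conj_fix hd

/-- An involution fixing two points is conjugate to `t`. -/
theorem Cx.mem_cls {t : G} (I : Inv2 t a b) {x : G} {c d : Ω} (hcd : c ≠ d) (hc : x • c = c) (hd : x • d = d)
    (x2 : x * x = 1) (x1 : x ≠ 1) : x ∈ cls t := by
  obtain ⟨g, hg, -⟩ := C.conj_stab hcd hc hd
  obtain ⟨h, -, he⟩ := C.kit.conj_all I.mem hg I.sq I.ne_one (by rw [conj_mul, x2, mul_one, mul_inv_cancel])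
    (fun e => x1 (conj_eq_one_iff.mp e))
  exact ⟨g⁻¹ * h, by rw [show g⁻¹ * h * t * (g⁻¹ * h)⁻¹ = g⁻¹ * (h * t * h⁻¹) * g by group, he]; group⟩

/-- A 2-element fixing two points has order at most two. -/
theorem Cx.sq_of_fix {x : G} {k : ℕ} (hx : x ^ 2 ^ k = 1) {c d : Ω} (hcd : c ≠ d) (hc : x • c = c)
    (hd : x • d = d) : x * x = 1 := by
  obtain ⟨g, hg, -⟩ := C.conj_stab hcd hc hd
  obtain ⟨h, -, hh⟩ := C.kit.conj_into (P := Subgroup.zpowers (g * x * g⁻¹))
    (Subgroup.zpowers_le.mpr hg) (fun y => ⟨k, Subtype.ext (by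
      obtain ⟨y, j, rfl⟩ := y
      show ((g * x * g⁻¹) ^ j) ^ 2 ^ k = 1
      rw [← zpow_natCast, ← zpow_mul, mul_comm, zpow_mul, zpow_natCast, conj_pow, hx, mul_one, mul_inv_cancel,
        one_zpow])⟩)
  have h1 := C.kit.sq _ (hh _ (Subgroup.mem_zpowers _))
  rw [conj_mul, conj_eq_one_iff, conj_mul, conj_eq_one_iff] at h1
  exact h1

/-- A 2-group fixing two points is conjugate into `T`. -/
theorem Cx.exists_conj_T {P : Subgroup G} (h2 : IsPGroup 2 P) {c d : Ω} (hcd : c ≠ d)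
    (hc : c ∈ fixPts Ω P) (hd : d ∈ fixPts Ω P) :
    ∃ g : G, (∀ x ∈ P, g * x * g⁻¹ ∈ T) ∧ g • c = a ∧ g • d = b := by
  obtain ⟨g, hgc, hgd⟩ := C.two c d a b hcd C.ne
  have hP : P.map (MulAut.conj g).toMonoidHom ≤ stab2 G a b := by
    rintro _ ⟨x, hx, rfl⟩
    refine ⟨?_, ?_⟩
    · show (g * x * g⁻¹) • a = a
      rw [← hgc]; exact conj_fix (hc x hx)
    · show (g * x * g⁻¹) • b = b
      rw [← hgd]; exact conj_fix (hd x hx)
  obtain ⟨h, hh, hmem⟩ := C.kit.conj_into hP (h2.map _)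
  refine ⟨h * g, fun x hx => ?_, by rw [mul_smul, hgc]; exact hh.1, by rw [mul_smul, hgd]; exact hh.2⟩
  have := hmem _ ⟨x, hx, rfl⟩
  simpa [mul_assoc] using this

theorem Cx.fuse {t : G} (I : Inv2 t a b) (g : G) (ha : (g * t * g⁻¹) • a = a) (hb : (g * t * g⁻¹) • b = b) :
    ∃ h : G, h • a = a ∧ h • b = b ∧ g * t * g⁻¹ = h * t * h⁻¹ := by
  obtain ⟨h, hh, he⟩ := C.kit.conj_all I.mem (show g * t * g⁻¹ ∈ stab2 G a b from ⟨ha, hb⟩) I.sq I.ne_one
    (by rw [conj_mul, I.sq, mul_one, mul_inv_cancel]) (fun e => I.ne_one (conj_eq_one_iff.mp e))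
  exact ⟨h, hh.1, hh.2, he.symm⟩

/-- Witt: `C(t)` is doubly transitive on the fixed points of `t`. -/
theorem Cx.cent_trans {t : G} (I : Inv2 t a b) {c d : Ω} (hc : t • c = c) (hd : t • d = d) (hcd : c ≠ d) :
    ∃ g ∈ Subgroup.centralizer ({t} : Set G), g • a = c ∧ g • b = d := by
  obtain ⟨g, hg, hgc⟩ := witt_elem C.two C.ne (C.fuse I) hcd hc hd
  exact ⟨g, Subgroup.mem_centralizer_singleton_iff.mpr hg, hgc⟩

theorem Cx.two_le_fix {t : G} (I : Inv2 t a b) : 2 ≤ (fixedBy Ω t).ncard := by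
  have h : ({a, b} : Set Ω) ⊆ fixedBy Ω t := by
    rintro c (rfl | rfl)
    exacts [I.mem.1, I.mem.2]
  exact (Set.ncard_pair C.ne).symm.le.trans (Set.ncard_le_ncard h)

theorem Cx.count_fix {t : G} (I : Inv2 t a b) :
    (cls t).ncard * ((fixedBy Ω t).ncard * ((fixedBy Ω t).ncard - 1)) =
      Nat.card Ω * (Nat.card Ω - 1) * invNum G a b := by
  rw [fix_count C.two C.ne (cls t) (fun g x hx => cls_conj t g hx) fun x hx => cls_fix hx, invNum]
  congr 2
  ext x
  constructor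
  · rintro ⟨hx, ha, hb⟩
    exact ⟨⟨ha, hb⟩, cls_sq I.sq hx, cls_ne_one I.ne_one hx⟩
  · rintro ⟨hm, x2, x1⟩
    exact ⟨C.mem_cls I C.ne hm.1 hm.2 x2 x1, hm.1, hm.2⟩

theorem Cx.count_swap {t : G} (I : Inv2 t a b) :
    (cls t).ncard * (Nat.card Ω - (fixedBy Ω t).ncard) = Nat.card Ω * (Nat.card Ω - 1) * swaps t a b :=
  swap_count C.two C.ne (cls t) (fun g x hx => cls_conj t g hx) (fun _ hx => cls_sq I.sq hx)
    fun _ hx => cls_fix hx

omit C in
theorem fix_lt [FaithfulSMul G Ω] {t : G} (ht : t ≠ 1) : (fixedBy Ω t).ncard < Nat.card Ω := by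
  rw [← Set.ncard_univ]
  refine Set.ncard_lt_ncard (Set.ssubset_univ_iff.mpr fun h => ht (eq_of_smul_eq_smul (α := Ω) fun c => ?_))
  rw [one_smul]
  exact (h.symm ▸ Set.mem_univ c : c ∈ fixedBy Ω t)

/-- The basic relation. -/
theorem Cx.basic {t : G} (I : Inv2 t a b) :
    invNum G a b * (Nat.card Ω - (fixedBy Ω t).ncard) =
      swaps t a b * ((fixedBy Ω t).ncard * ((fixedBy Ω t).ncard - 1)) := by
  have h1 := C.count_fix I
  have h2 := C.count_swap I
  have hpos : 0 < (cls t).ncard := (Set.ncard_pos (Set.toFinite _)).mpr ⟨t, self_mem_cls t⟩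
  refine Nat.eq_of_mul_eq_mul_left hpos ?_
  calc (cls t).ncard * (invNum G a b * (Nat.card Ω - (fixedBy Ω t).ncard))
      = invNum G a b * ((cls t).ncard * (Nat.card Ω - (fixedBy Ω t).ncard)) := by ring
    _ = swaps t a b * (Nat.card Ω * (Nat.card Ω - 1) * invNum G a b) := by rw [h2]; ring
    _ = _ := by rw [← h1]; ring

theorem Cx.invNum_pos : 0 < invNum G a b := by
  obtain ⟨t, -, I⟩ := C.exists_inv
  exact (Set.ncard_pos (Set.toFinite _)).mpr ⟨t, I.mem, I.sq, I.ne_one⟩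

theorem Cx.swaps_pos [FaithfulSMul G Ω] {t : G} (I : Inv2 t a b) : 0 < swaps t a b := by
  have h := C.basic I
  have := fix_lt (Ω := Ω) I.ne_one
  rcases Nat.eq_zero_or_pos (swaps t a b) with e | e
  · rw [e, zero_mul] at h
    rcases Nat.mul_eq_zero.mp h with h' | h'
    · exact absurd h' C.invNum_pos.ne'
    · omega
  · exact e

/-- The involutions of the two-point stabiliser times the centraliser order. -/
theorem Cx.invNum_mul {t : G} (I : Inv2 t a b) :
    invNum G a b * Nat.card ↥(stab2 G a b ⊓ Subgroup.centralizer ({t} : Set G)) = Nat.card (stab2 G a b) := by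
  classical
  letI : MulAction ↥(stab2 G a b) G := MulAction.compHom G (MulAut.conj.comp (stab2 G a b).subtype)
  have hact : ∀ (h : ↥(stab2 G a b)) (x : G), h • x = (h : G) * x * (h : G)⁻¹ := fun _ _ => rfl
  have ho : orbit ↥(stab2 G a b) t = {x : G | x ∈ stab2 G a b ∧ x * x = 1 ∧ x ≠ 1} := by
    ext x
    constructor
    · rintro ⟨h, rfl⟩
      show (h • t) ∈ _
      rw [hact]
      exact ⟨mul_mem (mul_mem h.2 I.mem) (inv_mem h.2), by rw [conj_mul, I.sq, mul_one, mul_inv_cancel],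
        fun e => I.ne_one (conj_eq_one_iff.mp e)⟩
    · rintro ⟨hm, x2, x1⟩
      obtain ⟨h, hh, he⟩ := C.kit.conj_all I.mem hm I.sq I.ne_one x2 x1
      exact ⟨⟨h, hh⟩, he⟩
  have hs : Nat.card (stabilizer ↥(stab2 G a b) t) =
      Nat.card ↥(stab2 G a b ⊓ Subgroup.centralizer ({t} : Set G)) :=
    Nat.card_congr
      { toFun := fun x => ⟨(x.1 : G), x.1.2, Subgroup.mem_centralizer_singleton_iff.mpr
          (mul_inv_eq_iff_eq_mul.mp x.2)⟩
        invFun := fun x => ⟨⟨x.1, x.2.1⟩, mul_inv_eq_iff_eq_mul.mpr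
          (Subgroup.mem_centralizer_singleton_iff.mp x.2.2)⟩
        left_inv := fun _ => rfl
        right_inv := fun _ => rfl }
  have h := Subgroup.card_mul_index (stabilizer ↥(stab2 G a b) t)
  rw [index_stabilizer, hs, ho, mul_comm] at h
  exact h

theorem Cx.card_cent {t : G} (I : Inv2 t a b) :
    Nat.card ↥(Subgroup.centralizer ({t} : Set G)) = (fixedBy Ω t).ncard * (((fixedBy Ω t).ncard - 1) *
      Nat.card ↥(stab2 G a b ⊓ Subgroup.centralizer ({t} : Set G))) ∧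
    Nat.card ↥(Subgroup.centralizer ({t} : Set G) ⊓ stabilizer G a) = ((fixedBy Ω t).ncard - 1) *
      Nat.card ↥(stab2 G a b ⊓ Subgroup.centralizer ({t} : Set G)) := by
  have h := card_of_pairs (Subgroup.centralizer ({t} : Set G)) (a := a) (b := b) (Δ := fixedBy Ω t)
    I.mem.1 I.mem.2 C.ne (inv_fixedBy t) fun c d hc hd hcd => C.cent_trans I hc hd hcd
  rw [inf_comm _ (stab2 G a b)] at h
  exact h

theorem Cx.card_stab_a : Nat.card ↥(stabilizer G a) = (Nat.card Ω - 1) * Nat.card (stab2 G a b) := by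
  have h := (card_of_pairs (⊤ : Subgroup G) (Δ := (Set.univ : Set Ω)) (a := a) (b := b) trivial trivial C.ne
    (fun _ _ _ _ => trivial) fun c d _ _ hcd => by
      obtain ⟨g, hg⟩ := C.two a b c d C.ne hcd
      exact ⟨g, trivial, hg⟩).2
  rw [top_inf_eq, Set.ncard_univ, top_inf_eq] at h
  exact h

/-- Witt for subgroups of `T` whose conjugates in the two-point stabiliser are conjugate there. -/
theorem Cx.witt {W : Subgroup G} (hW : W ≤ T)
    (hfus : ∀ g : G, (∀ x ∈ W, g * x * g⁻¹ ∈ T) → ∃ h ∈ stab2 G a b, ∀ x ∈ W, h * (g * x * g⁻¹) * h⁻¹ ∈ W)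
    {c d : Ω} (hcd : c ≠ d) (hc : c ∈ fixPts Ω W) (hd : d ∈ fixPts Ω W) :
    ∃ g ∈ Subgroup.normalizer (W : Set G), g • a = c ∧ g • b = d := by
  refine witt_subgroup C.two C.ne (fun g hg => ?_) hcd hc hd
  have hP : W.map (MulAut.conj g).toMonoidHom ≤ stab2 G a b := by
    rintro _ ⟨x, hx, rfl⟩
    exact hg x hx
  obtain ⟨k, hk, hmem⟩ := C.kit.conj_into hP ((C.kit.isPGroup.to_le hW).map _)
  obtain ⟨h, hh, he⟩ := hfus (k * g) fun x hx => by
    have := hmem _ ⟨x, hx, rfl⟩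
    simpa [mul_assoc] using this
  have hm : (h * k)⁻¹ ∈ stab2 G a b := inv_mem (mul_mem hh hk)
  refine ⟨(h * k)⁻¹, hm.1, hm.2, fun x hx => ?_⟩
  have := he x hx
  simpa [mul_assoc] using this

/-- `N(T)` is doubly transitive on the fixed points of `T`. -/
theorem Cx.norm_trans {c d : Ω} (hcd : c ≠ d) (hc : c ∈ fixPts Ω T) (hd : d ∈ fixPts Ω T) :
    ∃ g ∈ Subgroup.normalizer (T : Set G), g • a = c ∧ g • b = d :=
  C.witt le_rfl (fun g hg => ⟨1, one_mem _, fun x hx => by simpa using hg x hx⟩) hcd hc hd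

theorem Cx.left_mem {K : Subgroup G} (hK : K ≤ T) : a ∈ fixPts Ω K := fun _ hx => (C.kit.le (hK hx)).1

theorem Cx.right_mem {K : Subgroup G} (hK : K ≤ T) : b ∈ fixPts Ω K := fun _ hx => (C.kit.le (hK hx)).2

/-- Transport of the configuration to another pair of points. -/
theorem Cx.transport {c d : Ω} (hcd : c ≠ d) :
    ∃ g : G, g • a = c ∧ g • b = d ∧ ∀ x, x ∈ stab2 G c d ↔ g⁻¹ * x * g ∈ stab2 G a b := by
  obtain ⟨g, hgc, hgd⟩ := C.two a b c d C.ne hcd
  refine ⟨g, hgc, hgd, fun x => ?_⟩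
  have key : ∀ p q : Ω, g • p = q → (x • q = q ↔ (g⁻¹ * x * g) • p = p) := fun p q h => by
    rw [mul_smul, mul_smul, h, inv_smul_eq_iff, h]
  exact and_congr (key a c hgc) (key b d hgd)

end CfsgLib.StabSimpAb
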