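import Cfsg.Agent.Lib.StabSimpAb.Setting
import Cfsg.Agent.Lib.ZStar.Main
import Cfsg.Agent.Lib.Basic

/-!
The setwise stabiliser of the two points: a central swapper, or an involution halving the Sylow subgroup.

Blueprint: `blueprint/S3400.md`, section 0.
-/

set_option autoImplicit false
set_option linter.unusedSectionVars false
set_option linter.style.haveILetI false

namespace CfsgLib.StabSimpAb

open MulAction CfsgLib.StabAlt5

universe u v

variable {G : Type u} [Group G] {Ω : Type v} [MulAction G Ω]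

/-- The setwise stabiliser of two points. -/
def setwise (G : Type u) {Ω : Type v} [Group G] [MulAction G Ω] (a b : Ω) : Subgroup G where
  carrier := {g | (g • a = a ∧ g • b = b) ∨ (g • a = b ∧ g • b = a)}
  one_mem' := Or.inl ⟨one_smul _ _, one_smul _ _⟩
  mul_mem' := by
    rintro g h (⟨g1, g2⟩ | ⟨g1, g2⟩) (⟨h1, h2⟩ | ⟨h1, h2⟩) <;>
      simp only [Set.mem_setOf_eq, mul_smul, h1, h2, g1, g2, and_self, true_or, or_true]
  inv_mem' := by
    rintro g (⟨g1, g2⟩ | ⟨g1, g2⟩) <;>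
      simp only [Set.mem_setOf_eq, inv_smul_eq_iff, g1, g2, and_self, true_or, or_true]

/-- A swapper normalising `T`, fixing only half of it (in the sense of dimension). -/
structure Outer (s t : G) (a b : Ω) (T : Subgroup G) : Prop where
  mem_cls : s ∈ cls t
  sq : s * s = 1
  sa : s • a = b
  sb : s • b = a
  norm : ∀ x ∈ T, s * x * s ∈ T
  nontriv : ∃ x ∈ T, s * x ≠ x * s
  fixed : ∀ x ∈ T, x * (s * x * s) ∈ T ⊓ Subgroup.centralizer ({s} : Set G)
  onto : ∀ y ∈ T ⊓ Subgroup.centralizer ({s} : Set G), ∃ x ∈ T, x * (s * x * s) = y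
  card : Nat.card ↥(T ⊓ Subgroup.centralizer ({s} : Set G)) ^ 2 = Nat.card T

variable {a b : Ω} {T : Subgroup G}

theorem mem_setwise_iff {g : G} : g ∈ setwise G a b ↔ g ∈ stab2 G a b ∨ (g • a = b ∧ g • b = a) := Iff.rfl

theorem stab2_le_setwise : stab2 G a b ≤ setwise G a b := fun _ h => Or.inl h

theorem swap_conj_mem {s h : G} (hsa : s • a = b) (hsb : s • b = a) (hh : h ∈ stab2 G a b) :
    s * h * s⁻¹ ∈ stab2 G a b :=
  ⟨by show (s * h * s⁻¹) • a = a; rw [← hsb]; exact conj_fix hh.2,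
    by show (s * h * s⁻¹) • b = b; rw [← hsa]; exact conj_fix hh.1⟩

theorem swap_mul_mem {g h : G} (hga : g • a = b) (hgb : g • b = a) (hha : h • a = b) (hhb : h • b = a) :
    g * h ∈ stab2 G a b :=
  ⟨by show (g * h) • a = a; rw [mul_smul, hha, hgb], by show (g * h) • b = b; rw [mul_smul, hhb, hga]⟩

theorem conj_mem_stab2 {g h : G} (hg : g ∈ setwise G a b) (hh : h ∈ stab2 G a b) :
    g * h * g⁻¹ ∈ stab2 G a b := by
  rcases hg with hg | ⟨hga, hgb⟩
  · exact mul_mem (mul_mem hg hh) (inv_mem hg)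
  · exact swap_conj_mem hga hgb hh

theorem conj_swap {g s : G} (hg : g ∈ setwise G a b) (hsa : s • a = b) (hsb : s • b = a) :
    (g * s * g⁻¹) • a = b ∧ (g * s * g⁻¹) • b = a := by
  rcases hg with ⟨h1, h2⟩ | ⟨h1, h2⟩ <;>
    refine ⟨?_, ?_⟩ <;>
    · simp only [mul_smul]
      first
      | rw [inv_smul_eq_iff.mpr h1.symm]; simp only [hsa, hsb, h1, h2]
      | rw [inv_smul_eq_iff.mpr h2.symm]; simp only [hsa, hsb, h1, h2]

variable [Finite G] [Finite Ω]

/-- Some conjugate of `t` interchanges the points and normalises `T`, inside a 2-subgroup meeting the two-point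
stabiliser in `T`. -/
theorem Cx.exists_swapper [FaithfulSMul G Ω] (C : Cx a b T) {t : G} (I : Inv2 t a b) :
    ∃ (s : G) (S : Sylow 2 ↥(setwise G a b)) (hs : s ∈ setwise G a b),
      s ∈ cls t ∧ s • a = b ∧ s • b = a ∧ (⟨s, hs⟩ : ↥(setwise G a b)) ∈ (S : Subgroup ↥(setwise G a b)) ∧
      (∀ x : ↥(setwise G a b), (x : G) ∈ T → x ∈ (S : Subgroup ↥(setwise G a b))) ∧
      ∀ x ∈ (S : Subgroup ↥(setwise G a b)), (x : G) ∈ stab2 G a b → (x : G) ∈ T := by
  haveI : Fact (Nat.Prime 2) := ⟨Nat.prime_two⟩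
  obtain ⟨S, hS⟩ := (C.kit.isPGroup.comap_subtype (K := setwise G a b)).exists_le_sylow
  obtain ⟨s₀, hs0c, hs0a, hs0b⟩ := (Set.ncard_pos (Set.toFinite _)).mp (C.swaps_pos I)
  have h0 : (⟨s₀, Or.inr ⟨hs0a, hs0b⟩⟩ : ↥(setwise G a b)) ^ 2 = 1 := Subtype.ext (by
    simp [pow_two, cls_sq I.sq hs0c])
  obtain ⟨Q, hQ⟩ := (show IsPGroup 2 (Subgroup.zpowers (⟨s₀, Or.inr ⟨hs0a, hs0b⟩⟩ : ↥(setwise G a b))) from
    fun y => ⟨1, Subtype.ext (by
      obtain ⟨y, k, rfl⟩ := y
      show ((⟨s₀, _⟩ : ↥(setwise G a b)) ^ k) ^ 2 ^ 1 = 1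
      rw [pow_one, ← zpow_natCast, ← zpow_mul, mul_comm, zpow_mul, zpow_natCast, h0, one_zpow])⟩).exists_le_sylow
  obtain ⟨n, hn⟩ := MulAction.exists_smul_eq ↥(setwise G a b) Q S
  have hmem : n * ⟨s₀, Or.inr ⟨hs0a, hs0b⟩⟩ * n⁻¹ ∈ (S : Subgroup ↥(setwise G a b)) := by
    rw [← hn, Sylow.coe_subgroup_smul]
    exact ⟨_, hQ (Subgroup.mem_zpowers _), rfl⟩
  obtain ⟨e1, e2⟩ := conj_swap n.2 hs0a hs0b
  refine ⟨(n : G) * s₀ * (n : G)⁻¹, S, Or.inr ⟨e1, e2⟩, cls_conj t n hs0c, e1, e2, hmem, fun x hx => hS hx,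
    fun x hx hxH => ?_⟩
  set P : Subgroup G := (S : Subgroup ↥(setwise G a b)).map (setwise G a b).subtype ⊓ stab2 G a b with hP
  have hTP : T ≤ P := fun y hy =>
    ⟨⟨⟨y, stab2_le_setwise (C.kit.le hy)⟩, hS (show (y : G) ∈ T from hy), rfl⟩, C.kit.le hy⟩
  have hPT : P = T := by
    refine (Subgroup.eq_of_le_of_card_ge hTP ?_).symm
    have h1 := Subgroup.card_mul_index (T.subgroupOf P)
    have h2 : T.relIndex P ∣ T.relIndex (stab2 G a b) := Dvd.intro _ (Subgroup.relIndex_mul_relIndex T P _ hTP inf_le_right)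
    obtain ⟨k, hk⟩ := IsPGroup.iff_card.mp ((S.2.map (setwise G a b).subtype).to_le (inf_le_left : P ≤ _))
    have h3 : T.relIndex P ∣ 2 ^ k := hk ▸ Dvd.intro_left _ h1
    obtain ⟨j, -, hj⟩ := (Nat.dvd_prime_pow Nat.prime_two).mp h3
    rcases Nat.eq_zero_or_pos j with rfl | hjpos
    · rw [show (T.subgroupOf P).index = 1 from hj, mul_one,
        Nat.card_congr (Subgroup.subgroupOfEquivOfLe hTP).toEquiv] at h1
      omega
    · exact absurd ((dvd_pow_self 2 hjpos.ne').trans (hj ▸ h2)) C.kit.odd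
  exact hPT ▸ (⟨⟨x, hx, rfl⟩, hxH⟩ : (x : G) ∈ P)

/-- A swapper centralising `T`, with the elements of `N(T)` in the two-point stabiliser. -/
theorem Cx.exists_fixed_swap (C : Cx a b T) {s : G} (s2 : s * s = 1) (hsa : s • a = b) (hsb : s • b = a)
    (hsT : ∀ x ∈ T, s * x = x * s) :
    ∃ e ∈ T, ∀ k ∈ stab2 G a b ⊓ Subgroup.normalizer (T : Set G), k * (s * e) * k⁻¹ = s * e := by
  classical
  set L := stab2 G a b ⊓ Subgroup.normalizer (T : Set G) with hL
  have hTL : T ≤ L := le_inf C.kit.le Subgroup.le_normalizer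
  letI : CommGroup T := { (inferInstance : Group T) with mul_comm := fun x y => Subtype.ext (C.kit.comm x.2 y.2) }
  haveI hn : (T.subgroupOf L).Normal := ⟨fun x hx g => (Subgroup.mem_normalizer_iff.mp g.2.2 x).mp hx⟩
  haveI := Fintype.ofFinite (↥L ⧸ T.subgroupOf L)
  have hsi := inv_of_sq s2
  -- the defect of `s`
  have hd : ∀ l ∈ L, s * (l * s * l⁻¹) ∈ T := by
    intro l hl
    have hm : s * l * s⁻¹ ∈ stab2 G a b := swap_conj_mem hsa hsb hl.1
    rw [hsi] at hm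
    have : s * (l * s * l⁻¹) = s * l * s * l⁻¹ := by group
    rw [this]
    refine C.kit.self _ (mul_mem hm (inv_mem hl.1)) fun x hx => ?_
    have hx' : l⁻¹ * x * l ∈ T := (Subgroup.mem_normalizer_iff''.mp hl.2 x).mp hx
    calc s * l * s * l⁻¹ * x = s * l * (s * (l⁻¹ * x * l)) * l⁻¹ := by group
      _ = s * x * l * s * l⁻¹ := by rw [hsT _ hx']; group
      _ = x * (s * l * s * l⁻¹) := by rw [hsT x hx]; group
  let d : ↥L ⧸ T.subgroupOf L → T := fun q => ⟨_, hd (q.out : ↥L) q.out.2⟩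
  set e : T := ∏ q, d q with he
  refine ⟨(e : G), e.2, fun k hk => ?_⟩
  let ck : T →* T :=
    { toFun := fun x => ⟨k * x * k⁻¹, (Subgroup.mem_normalizer_iff.mp hk.2 x).mp x.2⟩
      map_one' := Subtype.ext (by show k * (1 : G) * k⁻¹ = 1; group)
      map_mul' := fun x y => Subtype.ext (by show k * ((x : G) * y) * k⁻¹ = k * x * k⁻¹ * (k * y * k⁻¹); group) }
  have hck : ∀ x : T, ((ck x : T) : G) = k * x * k⁻¹ := fun _ => rfl
  have hkey : ∀ q, d ((⟨k, hk⟩ : ↥L) • q) = (⟨_, hd k hk⟩ : T) * ck (d q) := by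
    intro q
    set k' : ↥L := ⟨k, hk⟩ with hk'
    set p := (k' • q).out with hp
    have hτ : (k' * q.out)⁻¹ * p ∈ T.subgroupOf L := by
      rw [← QuotientGroup.eq, QuotientGroup.out_eq']
      exact congrArg (k' • ·) (QuotientGroup.out_eq' q)
    have hτ' : ((q.out : ↥L) : G)⁻¹ * k⁻¹ * (p : G) ∈ T := by
      have := Subgroup.mem_subgroupOf.mp hτ
      simpa [hk'] using this
    refine Subtype.ext ?_
    show s * ((p : G) * s * (p : G)⁻¹) = (⟨_, hd k hk⟩ : T).1 * (k * (s * ((q.out : G) * s * (q.out : G)⁻¹)) * k⁻¹)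
    set l : G := ((q.out : ↥L) : G)
    set τ : G := l⁻¹ * k⁻¹ * (p : G) with hτdef
    have e1 : (p : G) = k * l * τ := by rw [hτdef]; group
    rw [e1]
    show _ = s * (k * s * k⁻¹) * (k * (s * (l * s * l⁻¹)) * k⁻¹)
    calc s * (k * l * τ * s * (k * l * τ)⁻¹) = s * k * l * (τ * s) * τ⁻¹ * l⁻¹ * k⁻¹ := by group
      _ = s * k * l * s * l⁻¹ * k⁻¹ := by rw [← hsT τ hτ']; group
      _ = s * (k * (s * s) * k⁻¹) * (k * l * s * l⁻¹ * k⁻¹) := by rw [s2]; group
      _ = _ := by group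
  have hodd : Odd (Fintype.card (↥L ⧸ T.subgroupOf L)) := by
    rw [← Nat.card_eq_fintype_card, ← Subgroup.index_eq_card, ← Nat.not_even_iff_odd, even_iff_two_dvd]
    exact fun h => C.kit.odd (h.trans
      (Dvd.intro _ (Subgroup.relIndex_mul_relIndex T L (stab2 G a b) hTL inf_le_left)))
  have hsum : e = (⟨_, hd k hk⟩ : T) ^ Fintype.card (↥L ⧸ T.subgroupOf L) * ck e := by
    calc e = ∏ q, d ((⟨k, hk⟩ : ↥L) • q) := (Equiv.prod_comp (MulAction.toPerm (⟨k, hk⟩ : ↥L)) d).symm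
      _ = _ := by
        rw [Finset.prod_congr rfl fun q _ => hkey q, Finset.prod_mul_distrib, Finset.prod_const,
          Finset.card_univ, map_prod]
  obtain ⟨j, hj⟩ := hodd
  have hd2 : (⟨_, hd k hk⟩ : T) ^ 2 = 1 := Subtype.ext (by
    show (_ : G) ^ 2 = 1
    rw [pow_two]; exact C.kit.sq _ (hd k hk))
  rw [hj, pow_succ, pow_mul, hd2, one_pow, one_mul] at hsum
  have h1 : (e : G) = s * (k * s * k⁻¹) * (k * (e : G) * k⁻¹) := by
    conv_lhs => rw [hsum]
    rfl
  calc k * (s * (e : G)) * k⁻¹ = s * s * (k * s * k⁻¹) * (k * (e : G) * k⁻¹) := by rw [s2]; group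
    _ = s * (s * (k * s * k⁻¹) * (k * (e : G) * k⁻¹)) := by group
    _ = s * (e : G) := by rw [← h1]

/-- If a swapper centralises `T`, one centralises the two-point stabiliser. -/
theorem Cx.swap_of_cent (C : Cx a b T) {s : G} (S : Sylow 2 ↥(setwise G a b)) (hs : s ∈ setwise G a b)
    (s2 : s * s = 1) (hsa : s • a = b) (hsb : s • b = a) (hsS : (⟨s, hs⟩ : ↥(setwise G a b)) ∈ (S : Subgroup _))
    (hTS : ∀ x : ↥(setwise G a b), (x : G) ∈ T → x ∈ (S : Subgroup ↥(setwise G a b)))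
    (hST : ∀ x ∈ (S : Subgroup ↥(setwise G a b)), (x : G) ∈ stab2 G a b → (x : G) ∈ T)
    (hsT : ∀ x ∈ T, s * x = x * s) : ∃ z : G, Swap z a b := by
  haveI : Fact (Nat.Prime 2) := ⟨Nat.prime_two⟩
  obtain ⟨e, he, hfix⟩ := C.exists_fixed_swap s2 hsa hsb hsT
  set H := stab2 G a b with hH
  have hza : (s * e) • a = b := by rw [mul_smul, (C.kit.le he).1, hsa]
  have hzb : (s * e) • b = a := by rw [mul_smul, (C.kit.le he).2, hsb]
  have hz2 : s * e * (s * e) = 1 := by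
    rw [show s * e * (s * e) = s * (e * s) * e by group, ← hsT e he, ← mul_assoc, s2, one_mul, C.kit.sq e he]
  let z : ↥(setwise G a b) := ⟨s * e, Or.inr ⟨hza, hzb⟩⟩
  have hzS : z ∈ (S : Subgroup ↥(setwise G a b)) :=
    mul_mem hsS (hTS ⟨e, stab2_le_setwise (C.kit.le he)⟩ he)
  -- the Sylow subgroup is `T ∪ s T`
  have hsplit : ∀ x ∈ (S : Subgroup ↥(setwise G a b)), (x : G) ∈ T ∨ s * (x : G) ∈ T := by
    intro x hx
    rcases x.2 with hxH | ⟨hxa, hxb⟩
    · exact Or.inl (hST x hx hxH)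
    · exact Or.inr (hST (⟨s, hs⟩ * x) (mul_mem hsS hx) (swap_mul_mem hsa hsb hxa hxb))
  haveI : IsMulCommutative (S : Subgroup ↥(setwise G a b)) := ⟨⟨fun x y => Subtype.ext (Subtype.ext (by
    show (x.1 : G) * y.1 = y.1 * x.1
    have key : ∀ u w : G, u ∈ T → s * w ∈ T → u * w = w * u := fun u w hu hw => by
      calc u * w = u * s * (s * w) := by rw [← mul_assoc, mul_assoc u s s, s2, mul_one]
        _ = s * (u * (s * w)) := by rw [← hsT u hu, mul_assoc]
        _ = w * u := by rw [C.kit.comm hu hw, ← mul_assoc, ← mul_assoc, s2, one_mul]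
    rcases hsplit x.1 x.2 with h1 | h1 <;> rcases hsplit y.1 y.2 with h2 | h2
    · exact C.kit.comm h1 h2
    · exact key _ _ h1 h2
    · exact (key _ _ h2 h1).symm
    · calc (x.1 : G) * y.1 = s * (s * x.1) * (s * (s * y.1)) := by simp [← mul_assoc, s2]
        _ = s * s * ((s * x.1) * (s * y.1)) := by
          rw [show s * (s * (x.1 : G)) * (s * (s * y.1)) = s * ((s * x.1) * s) * (s * y.1) by group, ← hsT _ h1]
          group
        _ = s * s * ((s * y.1) * (s * x.1)) := by rw [C.kit.comm h1 h2]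
        _ = s * (s * y.1) * (s * (s * x.1)) := by
          rw [show s * (s * (y.1 : G)) * (s * (s * x.1)) = s * ((s * y.1) * s) * (s * x.1) by group, ← hsT _ h2]
          group
        _ = _ := by simp [← mul_assoc, s2]))⟩⟩
  have hz1 : z ≠ 1 := fun h => C.ne (by
    have := congrArg (fun g : ↥(setwise G a b) => (g : G) • a) h
    simpa [z, hza] using this.symm)
  have hzo : orderOf z = 2 := orderOf_eq_prime (Subtype.ext (by
    show (s * e) ^ 2 = 1; rw [pow_two]; exact hz2)) hz1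
  have hiso : Cfsg.IsIsolated z := by
    refine CfsgLib.ZStar.isolated_of_sylow S hzo hzS fun g hg => ?_
    obtain ⟨n, hn, he'⟩ := S.conj_eq_normalizer_conj_of_mem z g⁻¹ hzS (by rwa [inv_inv])
    rw [inv_inv] at he'
    rw [he']
    suffices h : (n : G)⁻¹ * (s * e) * (n : G) = s * e from Subtype.ext h
    have hnT : ∀ m : ↥(setwise G a b), m ∈ Subgroup.normalizer ((S : Subgroup ↥(setwise G a b)) : Set _) →
        ∀ x ∈ T, (m : G) * x * (m : G)⁻¹ ∈ T := fun m hm x hx =>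
      hST _ ((Subgroup.mem_normalizer_iff.mp hm ⟨x, stab2_le_setwise (C.kit.le hx)⟩).mp (hTS _ hx))
        (conj_mem_stab2 m.2 (C.kit.le hx))
    have hL : ∀ m : ↥(setwise G a b), m ∈ Subgroup.normalizer ((S : Subgroup ↥(setwise G a b)) : Set _) →
        (m : G) ∈ H → (m : G)⁻¹ * (s * e) * (m : G) = s * e := by
      intro m hm hmH
      have hmi : ((m⁻¹ : ↥(setwise G a b)) : G) = (m : G)⁻¹ := rfl
      have hmN : (m : G)⁻¹ ∈ H ⊓ Subgroup.normalizer (T : Set G) := ⟨(inv_mem hmH : (m : G)⁻¹ ∈ H), Subgroup.mem_normalizer_iff.mpr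
        fun x => ⟨fun hx => by simpa using hnT m⁻¹ (inv_mem hm) x hx, fun hx => by
          simpa [mul_assoc] using hnT m hm _ hx⟩⟩
      simpa [hmi] using hfix _ hmN
    rcases n.2 with hnH | ⟨hna, hnb⟩
    · exact hL n hn hnH
    · have h := hL (⟨s, hs⟩ * n) (mul_mem (Subgroup.le_normalizer hsS) hn) (swap_mul_mem hsa hsb hna hnb)
      have h' : (s * (n : G))⁻¹ * (s * e) * (s * (n : G)) = s * e := h
      calc (n : G)⁻¹ * (s * e) * n = (n : G)⁻¹ * (e * s) * n := by rw [hsT e he]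
        _ = (s * (n : G))⁻¹ * (s * e) * (s * (n : G)) := by group
        _ = s * e := h'
  have hz := CfsgLib.ZStar.inZStar hzo hiso
  refine ⟨s * e, hz2, hza, hzb, fun h hh => ?_⟩
  set h' : ↥(setwise G a b) := ⟨h, stab2_le_setwise hh⟩ with hh'
  have hc := hz h'
  have hcH : ((h' * z * h'⁻¹ * z⁻¹ : ↥(setwise G a b)) : G) ∈ H := by
    have e1 : ((h' * z * h'⁻¹ * z⁻¹ : ↥(setwise G a b)) : G) = h * ((s * e) * h⁻¹ * (s * e)⁻¹) := by
      show h * (s * e) * h⁻¹ * (s * e)⁻¹ = _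
      group
    rw [e1]
    exact mul_mem hh (swap_conj_mem hza hzb (inv_mem hh))
  set O : Subgroup G := (Cfsg.pPrimeCore 2 ↥(setwise G a b)).map (setwise G a b).subtype with hO
  have hOn : ∀ g ∈ H, ∀ x ∈ O, g * x * g⁻¹ ∈ O := by
    rintro g hg _ ⟨x, hx, rfl⟩
    exact ⟨⟨g, stab2_le_setwise hg⟩ * x * (⟨g, stab2_le_setwise hg⟩)⁻¹,
      (inferInstance : (Cfsg.pPrimeCore 2 ↥(setwise G a b)).Normal).conj_mem x hx _, rfl⟩
  rcases C.kit.normal_eq hOn with h0 | h0
  · have : ((h' * z * h'⁻¹ * z⁻¹ : ↥(setwise G a b)) : G) ∈ H ⊓ O := ⟨hcH, _, hc, rfl⟩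
    rw [h0, Subgroup.mem_bot] at this
    have h1 : h * (s * e) * h⁻¹ * (s * e)⁻¹ = 1 := this
    rw [mul_inv_eq_one, mul_inv_eq_iff_eq_mul] at h1
    exact h1.symm
  · exfalso
    obtain ⟨x, hx, I⟩ := C.exists_inv
    have h1 : Nat.card O = Nat.card (Cfsg.pPrimeCore 2 ↥(setwise G a b)) :=
      Subgroup.card_map_of_injective (setwise G a b).subtype_injective
    have h2 : orderOf x ∣ Nat.card O :=
      Subgroup.orderOf_coe (⟨x, h0 (C.kit.le hx)⟩ : O) ▸ orderOf_dvd_natCard _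
    rw [orderOf_eq_prime (by rw [pow_two]; exact I.sq) I.ne_one, h1] at h2
    exact CfsgLib.not_dvd_card_pPrimeCore Nat.prime_two h2

/-- The elements of `N(T)` commuting with the swapper up to `T` are transitive on the fixed involutions. -/
theorem Cx.cent_trans_swap (C : Cx a b T) {s : G} (s2 : s * s = 1) (hsa : s • a = b) (hsb : s • b = a)
    (hn : ∀ x ∈ T, s * x * s ∈ T) {x y : G} (hx : x ∈ T) (hx1 : x ≠ 1) (hy : y ∈ T) (hy1 : y ≠ 1)
    (hsx : s * x = x * s) (hsy : s * y = y * s) :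
    ∃ l ∈ stab2 G a b ⊓ Subgroup.normalizer (T : Set G), l * x * l⁻¹ = y ∧ l⁻¹ * (s * l * s) ∈ T := by
  set L := stab2 G a b ⊓ Subgroup.normalizer (T : Set G) with hL
  obtain ⟨l, hlH, hlN, hl⟩ := C.kit.trans x hx hx1 y hy hy1
  have hsi := inv_of_sq s2
  have hsN : s ∈ Subgroup.normalizer (T : Set G) := Subgroup.mem_normalizer_iff.mpr fun z =>
    ⟨fun hz => by rw [hsi]; exact hn z hz, fun hz => by
      rw [hsi] at hz
      have := hn _ hz
      rwa [← mul_assoc, ← mul_assoc, s2, one_mul, mul_assoc, s2, mul_one] at this⟩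
  have hsl : ∀ g ∈ L, s * g * s ∈ L := fun g hg => by
    have h1 := swap_conj_mem hsa hsb hg.1
    rw [hsi] at h1
    exact ⟨h1, mul_mem (mul_mem hsN hg.2) hsN⟩
  set u := l⁻¹ * (s * l * s) with hu
  have huL : u ∈ L := mul_mem (inv_mem ⟨hlH, hlN⟩) (hsl l ⟨hlH, hlN⟩)
  have hsu : s * u * s = u⁻¹ := by
    rw [hu, _root_.mul_inv_rev, _root_.mul_inv_rev, _root_.mul_inv_rev, inv_inv, hsi]
    calc s * (l⁻¹ * (s * l * s)) * s = s * l⁻¹ * s * l * (s * s) := by group
      _ = _ := by rw [s2]; group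
  have hux : u * x = x * u := by
    have e1 : l⁻¹ * y * l = x := by rw [← hl]; group
    calc u * x = l⁻¹ * s * l * (s * x) := by rw [hu]; group
      _ = l⁻¹ * s * (l * x * l⁻¹) * l * s := by rw [hsx]; group
      _ = l⁻¹ * (s * y) * l * s := by rw [hl]; group
      _ = l⁻¹ * y * l * (l⁻¹ * (s * l * s)) := by rw [hsy]; group
      _ = x * u := by rw [e1, hu]
  have hTL : T ≤ L := le_inf C.kit.le Subgroup.le_normalizer
  haveI hn' : (T.subgroupOf L).Normal := ⟨fun z hz g => (Subgroup.mem_normalizer_iff.mp g.2.2 z).mp hz⟩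
  have hpow : u ^ T.relIndex L ∈ T := Subgroup.pow_index_mem (T.subgroupOf L) ⟨u, huL⟩
  obtain ⟨j, hj⟩ : Odd (T.relIndex L) := by
    rw [← Nat.not_even_iff_odd, even_iff_two_dvd]
    exact fun h => C.kit.odd (h.trans
      (Dvd.intro _ (Subgroup.relIndex_mul_relIndex T L (stab2 G a b) hTL inf_le_left)))
  set v := u ^ (j + 1) with hv
  have hsv : s * v * s = v⁻¹ := by
    rw [hv, ← inv_pow, ← hsu]
    conv_lhs => rw [show s * u ^ (j + 1) * s = s * u ^ (j + 1) * s⁻¹ by rw [hsi]]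
    rw [← conj_pow, hsi]
  have hvx : v * x = x * v := ((Commute.pow_left hux _) : Commute (u ^ (j + 1)) x)
  refine ⟨l * v, mul_mem ⟨hlH, hlN⟩ (pow_mem huL _), ?_, ?_⟩
  · rw [show l * v * x * (l * v)⁻¹ = l * (v * x * v⁻¹) * l⁻¹ by group, mul_inv_eq_of_eq_mul hvx, hl]
  · have e : (l * v)⁻¹ * (s * (l * v) * s) = (u ^ T.relIndex L)⁻¹ := by
      calc (l * v)⁻¹ * (s * (l * v) * s) = v⁻¹ * (l⁻¹ * (s * l * s)) * (s * v * s) := by
            rw [show v⁻¹ * (l⁻¹ * (s * l * s)) * (s * v * s) = v⁻¹ * l⁻¹ * s * l * (s * s) * v * s by group, s2]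
            group
        _ = v⁻¹ * u * v⁻¹ := by rw [← hu, hsv]
        _ = _ := by rw [hv, hj]; group
    rw [e]
    exact inv_mem hpow

/-- Either a swapper centralises the two-point stabiliser, or one halves the Sylow subgroup. -/
theorem Cx.dichotomy [FaithfulSMul G Ω] (C : Cx a b T) {t : G} (I : Inv2 t a b) :
    (∃ z : G, Swap z a b) ∨ ∃ s : G, Outer s t a b T := by
  classical
  obtain ⟨s, S, hs, hcls, hsa, hsb, hsS, hTS, hST⟩ := C.exists_swapper I
  have s2 := cls_sq I.sq hcls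
  have hsi := inv_of_sq s2
  by_cases hsT : ∀ x ∈ T, s * x = x * s
  · exact Or.inl (C.swap_of_cent S hs s2 hsa hsb hsS hTS hST hsT)
  refine Or.inr ⟨s, ?_⟩
  push Not at hsT
  have hn : ∀ x ∈ T, s * x * s ∈ T := fun x hx => by
    have hH := swap_conj_mem hsa hsb (C.kit.le hx)
    have := hST (⟨s, hs⟩ * ⟨x, stab2_le_setwise (C.kit.le hx)⟩ * ⟨s, hs⟩⁻¹)
      (mul_mem (mul_mem hsS (hTS _ hx)) (inv_mem hsS)) hH
    simpa [hsi] using this
  set T0 := T ⊓ Subgroup.centralizer ({s} : Set G) with hT0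
  have hinT0 : ∀ x ∈ T, x * (s * x * s) ∈ T0 := fun x hx => ⟨mul_mem hx (hn x hx),
    Subgroup.mem_centralizer_singleton_iff.mpr (by
      calc x * (s * x * s) * s = x * (s * x) * (s * s) := by group
        _ = s * s * x * (s * x) := by rw [s2]; group
        _ = s * (s * x * s * x) := by group
        _ = s * (x * (s * x * s)) := by rw [C.kit.comm (hn x hx) hx])⟩
  let f : ↥T →* ↥T :=
    { toFun := fun x => ⟨x * (s * x * s), mul_mem x.2 (hn x x.2)⟩
      map_one' := Subtype.ext (by show (1 : G) * (s * 1 * s) = 1; rw [mul_one, one_mul, s2])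
      map_mul' := fun x y => Subtype.ext (by
        show (x : G) * y * (s * ((x : G) * y) * s) = (x : G) * (s * x * s) * ((y : G) * (s * y * s))
        calc (x : G) * y * (s * ((x : G) * y) * s) = (x : G) * y * (s * x * (s * s) * y * s) := by
              rw [s2]; group
          _ = (x : G) * (y * (s * x * s)) * (s * y * s) := by group
          _ = _ := by rw [C.kit.comm y.2 (hn x x.2)]; group) }
  have honto : ∀ y ∈ T0, ∃ x ∈ T, x * (s * x * s) = y := by
    intro y hy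
    rcases eq_or_ne y 1 with rfl | hy1
    · exact ⟨1, one_mem _, by rw [mul_one, s2, one_mul]⟩
    obtain ⟨x0, hx0, hne⟩ := hsT
    have hw := hinT0 x0 hx0
    have hw1 : x0 * (s * x0 * s) ≠ 1 := fun e => hne (by
      have e1 : s * x0 * s = x0⁻¹ := eq_inv_of_mul_eq_one_right e
      rw [inv_of_sq (C.kit.sq _ hx0)] at e1
      calc s * x0 = s * x0 * (s * s) := by rw [s2, mul_one]
        _ = x0 * s := by rw [← mul_assoc, e1])
    obtain ⟨l, hl, hlw, hlT⟩ := C.cent_trans_swap s2 hsa hsb hn hw.1 hw1 hy.1 hy1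
      (Subgroup.mem_centralizer_singleton_iff.mp hw.2).symm (Subgroup.mem_centralizer_singleton_iff.mp hy.2).symm
    refine ⟨l * x0 * l⁻¹, (Subgroup.mem_normalizer_iff.mp hl.2 _).mp hx0, ?_⟩
    have e1 : s * (l * x0 * l⁻¹) * s = l * (s * x0 * s) * l⁻¹ := by
      calc s * (l * x0 * l⁻¹) * s = s * l * (s * s) * x0 * (s * s) * l⁻¹ * s := by rw [s2]; group
        _ = s * l * s * (s * x0 * s) * (s * l * s)⁻¹ := by
          rw [_root_.mul_inv_rev, _root_.mul_inv_rev, hsi]; group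
        _ = l * (l⁻¹ * (s * l * s) * (s * x0 * s)) * (l⁻¹ * (s * l * s))⁻¹ * l⁻¹ := by group
        _ = _ := by rw [C.kit.comm hlT (hn x0 hx0)]; group
    rw [e1, ← hlw]
    group
  refine ⟨hcls, s2, hsa, hsb, hn, hsT, hinT0, honto, ?_⟩
  have hk : f.ker = T0.subgroupOf T := by
    ext x
    rw [MonoidHom.mem_ker, Subgroup.mem_subgroupOf, hT0, Subgroup.mem_inf, Subgroup.mem_centralizer_singleton_iff]
    constructor
    · intro e
      refine ⟨x.2, ?_⟩
      have e1 : s * (x : G) * s = (x : G)⁻¹ := eq_inv_of_mul_eq_one_right (congrArg Subtype.val e)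
      rw [inv_of_sq (C.kit.sq _ x.2)] at e1
      calc (x : G) * s = s * x * s * s := by rw [e1]
        _ = s * x := by rw [mul_assoc, s2, mul_one]
    · rintro ⟨-, e⟩
      refine Subtype.ext ?_
      show (x : G) * (s * x * s) = 1
      rw [← e, mul_assoc (x : G) s s, s2, mul_one, C.kit.sq _ x.2]
  have hr : f.range = T0.subgroupOf T := by
    ext y
    constructor
    · rintro ⟨x, rfl⟩
      exact hinT0 x x.2
    · intro hy
      obtain ⟨x, hx, e⟩ := honto y hy
      exact ⟨⟨x, hx⟩, Subtype.ext e⟩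
  have h1 := Subgroup.card_mul_index f.ker
  rw [Subgroup.index_ker, hr, hk, Nat.card_congr (Subgroup.subgroupOfEquivOfLe inf_le_left).toEquiv] at h1
  rw [pow_two]
  exact h1

end CfsgLib.StabSimpAb
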